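import Cfsg.Agent.H69.SLFour.SixBase

/-!
A group of isometries of six orthogonal lines containing the monomial products of two reflections, in which the
stabiliser of a line is monomial, is monomial.
-/

set_option autoImplicit false

namespace Cfsg.Agent.H69.SLFour.SixFrame

open QuadraticMap Module Cfsg.Agent.Orthogonal Cfsg.Agent.H97.Frame

variable {F V : Type*} [Field F] [AddCommGroup V] [Module F V]
variable {Q : QuadraticForm F V} {e : Fin 6 → V} {c : F} {H : ONB Q e c}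

theorem Per.app_eq {g : O Q} {π : Equiv.Perm (Fin 6)} (hg : Per H g π) {i j : Fin 6} {a : F}
    (h : (g : V ≃ₗ[F] V) (e i) = a • e j) : π i = j := by_contra fun hne => by
  have h0 : H.co (π i) ((g : V ≃ₗ[F] V) (e i)) = 0 := by rw [h, H.co_smul, H.co_ne hne, mul_zero]
  rcases hg.co_sq i with h1 | h1 <;> simp [h0] at h1

theorem trc_two {g : O Q} {r s : Fin 6} (hrs : r ≠ s)
    (h : ∀ i, H.co i ((g : V ≃ₗ[F] V) (e i)) = if i ∈ ({r, s} : Finset (Fin 6)) then 1 else 0) : trc H g = 2 := by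
  rw [trc, Finset.sum_congr rfl fun i _ => h i, ← Finset.sum_filter, Finset.filter_mem_eq_inter, Finset.univ_inter,
    Finset.sum_const, Finset.card_pair hrs]
  norm_num

theorem nodup_six {a b p q r s : Fin 6} (h : [a, b, p, q, r, s].Nodup) :
    ∀ i, i = a ∨ i = b ∨ i = p ∨ i = q ∨ i = r ∨ i = s := by
  intro i
  have hc : ([a, b, p, q, r, s].toFinset).card = 6 := List.toFinset_card_of_nodup h
  have hi := Finset.eq_univ_iff_forall.1 (Finset.eq_univ_of_card _ (by rw [hc]; rfl)) i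
  simpa using hi

theorem smul_back {g : O Q} (hg : g * g = 1) {i j : Fin 6} {ε : F} (hε : ε * ε = 1)
    (h : (g : V ≃ₗ[F] V) (e i) = ε • e j) : (g : V ≃ₗ[F] V) (e j) = ε • e i := by
  have h' := congrArg (fun x => ε • (g : V ≃ₗ[F] V) x) h
  simp only [map_smul, smul_smul, hε, one_smul] at h'
  rw [← h', ← mul_app, ← Subgroup.coe_mul, hg]
  rfl

theorem mul_self_conj {g d : O Q} (h : d * d = 1) : g * d * g⁻¹ * (g * d * g⁻¹) = 1 := by
  rw [show g * d * g⁻¹ * (g * d * g⁻¹) = g * (d * d) * g⁻¹ by group, h, mul_one, mul_inv_cancel]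

/-- An element fixing two lines and commuting with an involution moving the other four, of order three, is one. -/
theorem perm_eq_one {π ρ : Equiv.Perm (Fin 6)} {A B C D E E' : Fin 6} (hl : [A, B, C, D, E, E'].Nodup)
    (hA : π A = B) (hB : π B = A) (hC : π C = D) (hD : π D = C) (hE : π E = E) (hE' : π E' = E')
    (h3 : ρ ^ 3 = 1) (hc : ρ * π = π * ρ) (hρE : ρ E = E) : ρ = 1 := by
  have hall := nodup_six hl
  simp only [List.nodup_cons, List.mem_cons, List.not_mem_nil, or_false, not_or, List.nodup_nil, not_false_iff,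
    and_true] at hl
  have comm : ∀ x, ρ (π x) = π (ρ x) := fun x => by
    have := congrArg (fun σ : Equiv.Perm (Fin 6) => σ x) hc
    simpa using this
  have cube : ∀ x, ρ (ρ (ρ x)) = x := fun x => by
    have := congrArg (fun σ : Equiv.Perm (Fin 6) => σ x) h3
    simpa [pow_succ] using this
  have inj : ∀ {x y}, ρ x = ρ y → x = y := fun h => ρ.injective h
  have hE'' : ρ E' = E' := by
    have hfix : π (ρ E') = ρ E' := by rw [← comm, hE']
    rcases hall (ρ E') with h | h | h | h | h | h <;> rw [h] at hfix <;> grind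
  have hAA : ρ A = A := by
    have hb := comm A
    rw [hA] at hb
    have hc := comm C
    rw [hC] at hc
    have hd := comm D
    rw [hD] at hd
    rcases hall (ρ A) with h | h | h | h | h | h <;> rw [h] at hb
    · exact h
    · exfalso; have := cube A; grind
    · exfalso; rcases hall (ρ C) with h' | h' | h' | h' | h' | h' <;> grind
    · exfalso; rcases hall (ρ D) with h' | h' | h' | h' | h' | h' <;> grind
    · exfalso; grind
    · exfalso; grind
  have hBB : ρ B = B := by rw [← hA, comm, hAA]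
  have hCC : ρ C = C := by
    rcases hall (ρ C) with h | h | h | h | h | h
    · exfalso; grind
    · exfalso; grind
    · exact h
    · exfalso
      have := comm C
      have := cube C
      grind
    · exfalso; grind
    · exfalso; grind
  have hDD : ρ D = D := by rw [← hC, comm, hCC]
  refine Equiv.ext fun x => ?_
  rcases hall x with rfl | rfl | rfl | rfl | rfl | rfl <;> simp [hAA, hBB, hCC, hDD, hρE, hE'']

/-- Two elements of order three fixing the same three lines commute. -/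
theorem perm_comm_three {ρ σ : Equiv.Perm (Fin 6)} {A B E u v w : Fin 6} (hl : [A, B, E, u, v, w].Nodup)
    (hρ : ρ ^ 3 = 1) (hσ : σ ^ 3 = 1) (hρA : ρ A = A) (hρB : ρ B = B) (hρE : ρ E = E) (hσA : σ A = A)
    (hσB : σ B = B) (hσE : σ E = E) : ρ * σ = σ * ρ := by
  have hall := nodup_six hl
  simp only [List.nodup_cons, List.mem_cons, List.not_mem_nil, or_false, not_or, List.nodup_nil, not_false_iff,
    and_true] at hl
  have key : ∀ τ : Equiv.Perm (Fin 6), τ ^ 3 = 1 → τ A = A → τ B = B → τ E = E →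
      (τ u = u ∧ τ v = v ∧ τ w = w) ∨ (τ u = v ∧ τ v = w ∧ τ w = u) ∨ (τ u = w ∧ τ w = v ∧ τ v = u) := by
    intro τ h3 ha hb he
    have cube : ∀ x, τ (τ (τ x)) = x := fun x => by
      have := congrArg (fun σ : Equiv.Perm (Fin 6) => σ x) h3
      simpa [pow_succ] using this
    have inj : ∀ {x y}, τ x = τ y → x = y := fun h => τ.injective h
    rcases hall (τ u) with h | h | h | h | h | h <;> rcases hall (τ v) with h' | h' | h' | h' | h' | h' <;>
      rcases hall (τ w) with h'' | h'' | h'' | h'' | h'' | h'' <;> grind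
  refine Equiv.ext fun x => ?_
  rcases key ρ hρ hρA hρB hρE with ⟨a, b, d⟩ | ⟨a, b, d⟩ | ⟨a, b, d⟩ <;>
    rcases key σ hσ hσA hσB hσE with ⟨a', b', d'⟩ | ⟨a', b', d'⟩ | ⟨a', b', d'⟩ <;>
    rcases hall x with rfl | rfl | rfl | rfl | rfl | rfl <;>
    simp [a, b, d, a', b', d', hρA, hρB, hρE, hσA, hσB, hσE]

theorem double_shape : ∀ π : Equiv.Perm (Fin 6), (fx π).card = 2 → π * π = 1 →
    ∃ A C E E' : Fin 6, [A, π A, C, π C, E, E'].Nodup ∧ π E = E ∧ π E' = E' := by decide +kernel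

theorem swap_shape : ∀ π : Equiv.Perm (Fin 6), (fx π).card = 4 →
    ∀ A x : Fin 6, π A ≠ A → x ≠ A → x ≠ π A → π x = x := by decide +kernel

theorem moved_two : ∀ π : Equiv.Perm (Fin 6), (fx π).card = 2 ∨ (fx π).card = 4 →
    ∃ a p q : Fin 6, π a ≠ a ∧ p ≠ q ∧ π p = p ∧ π q = q := by decide +kernel

/-- An involution of trace two with nontrivial permutation moves two or four lines. -/
theorem Per.invol (h3 : (3 : F) ≠ 0) {t : O Q} {π : Equiv.Perm (Fin 6)} (ht : Per H t π) (htt : t * t = 1)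
    (htr : trc H t = 2) (hπ : π ≠ 1) :
    π * π = 1 ∧ ((fx π).card = 2 ∧ (∀ i ∈ fx π, (t : V ≃ₗ[F] V) (e i) = e i) ∨
      (fx π).card = 4 ∧ ∃ E ∈ fx π, (t : V ≃ₗ[F] V) (e E) = -e E) := by
  have h1 : π * π = 1 := by
    have h := ht.mul ht
    rw [htt] at h
    exact h.unique Per.one
  refine ⟨h1, ?_⟩
  obtain ⟨a, ha⟩ : ∃ a, π a ≠ a := by
    by_contra! h
    exact hπ (Equiv.ext h)
  obtain ⟨N, hN, hneg, hpos, htr'⟩ := ht.trc_eq
  rw [htr] at htr'
  rcases sign_count H.two h3 (Finset.card_le_card hN)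
      (count_fixed π a ha (by simpa using congrArg (fun σ : Equiv.Perm (Fin 6) => σ a) h1)) htr'.symm with
    ⟨hn, hm⟩ | ⟨hn, hm⟩
  · rw [Finset.card_eq_zero] at hm
    exact Or.inl ⟨hn, fun i hi => hpos i hi (by simp [hm])⟩
  · obtain ⟨E, rfl⟩ := Finset.card_eq_one.1 hm
    exact Or.inr ⟨hn, E, hN (by simp), hneg E (by simp)⟩

/-- The reflection image of two vectors gives at most two coordinates. -/
theorem wsupp {s : O Q} (hs : s ∈ H.mono) {w : V} {a b : Fin 6} (ha : H.co a w = 0) (hb : H.co b w = 0)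
    (h : ∀ i k, k ≠ a → k ≠ b → H.co i ((s : V ≃ₗ[F] V) (e k)) = (if i = k then 1 else 0) - H.co k w * H.co i w)
    {i j : Fin 6} (hij : i ≠ j) (hi : H.co i w ≠ 0) (hj : H.co j w ≠ 0) :
    H.co i w * H.co i w = 1 ∧ ∀ l, l ≠ i → l ≠ j → H.co l w = 0 := by
  obtain ⟨π, hπ⟩ := exists_per H hs
  have hia : i ≠ a := fun e => hi (e ▸ ha)
  have hib : i ≠ b := fun e => hi (e ▸ hb)
  have hπi : π i = j := by_contra fun hne => by
    have := h j i hia hib
    rw [hπ.co_zero (Ne.symm hne), if_neg hij.symm, zero_sub, zero_eq_neg, mul_eq_zero] at this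
    exact this.elim hi hj
  constructor
  · have := h i i hia hib
    rw [hπ.co_zero (by rw [hπi]; exact hij), if_pos rfl] at this
    linear_combination this
  · intro l hli hlj
    have := h l i hia hib
    rw [hπ.co_zero (by rw [hπi]; exact hlj), if_neg hli, zero_sub, zero_eq_neg, mul_eq_zero] at this
    exact this.resolve_left hi

variable {X : Subgroup (O Q)} (hX : Six H X)
include hX

/-- A double transposition of the lines is no image of a sign change of a pair. -/
theorem Six.double {g : O Q} (hg : g ∈ X) {a b : Fin 6} (hab : a ≠ b) {π : Equiv.Perm (Fin 6)}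
    (hπ : Per H (g * (rO Q (e a) * rO Q (e b)) * g⁻¹) π) {A B C D E E' : Fin 6}
    (hl : [A, B, C, D, E, E'].Nodup) (hA : π A = B) (hC : π C = D) (hE : π E = E) (hE' : π E' = E')
    (tE : ((g * (rO Q (e a) * rO Q (e b)) * g⁻¹ : O Q) : V ≃ₗ[F] V) (e E) = e E) : False := by
  classical
  set r := rO Q (e a) * rO Q (e b) with hr
  have hrd : H.IsDiag r {a, b} := H.isDiag_pair hab
  set t := g * r * g⁻¹ with ht
  have htt : t * t = 1 := mul_self_conj (ONB.IsDiag.sq H hrd)
  have hgr : g * r = t * g := by rw [ht]; group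
  clear_value r t
  have hall := nodup_six hl
  have hl0 := hl
  simp only [List.nodup_cons, List.mem_cons, List.not_mem_nil, or_false, not_or, List.nodup_nil, not_false_iff,
    and_true] at hl
  obtain ⟨⟨hAB, hAC, hAD, hAE, hAE'⟩, ⟨hBC, hBD, hBE, hBE'⟩, ⟨hCD, hCE, hCE'⟩, ⟨hDE, hDE'⟩, hEE'⟩ := hl
  have hsign : ∀ {i j}, π i = j → ∃ ε : F, ε * ε = 1 ∧ (t : V ≃ₗ[F] V) (e i) = ε • e j := fun {i j} h => by
    rcases hπ i with h' | h'
    · exact ⟨1, one_mul 1, by rw [h', h, one_smul]⟩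
    · exact ⟨-1, by norm_num, by rw [h', h, neg_one_smul]⟩
  obtain ⟨ε, hε, tA⟩ := hsign hA
  obtain ⟨ε', hε', tC⟩ := hsign hC
  have tB := smul_back htt hε tA
  have tD := smul_back htt hε' tC
  have hB : π B = A := hπ.app_eq tB
  have hD : π D = C := hπ.app_eq tD
  have gback : ∀ x, (g : V ≃ₗ[F] V) (((g⁻¹ : O Q) : V ≃ₗ[F] V) x) = x := fun x => by
    rw [← mul_app, ← Subgroup.coe_mul, mul_inv_cancel]; rfl
  have back : ∀ x, ((g⁻¹ : O Q) : V ≃ₗ[F] V) ((g : V ≃ₗ[F] V) x) = x := fun x => by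
    rw [← mul_app, ← Subgroup.coe_mul, inv_mul_cancel]; rfl
  have dotg : ∀ z x, H.dot z ((g : V ≃ₗ[F] V) x) = H.dot (((g⁻¹ : O Q) : V ≃ₗ[F] V) z) x := fun z x => by
    conv_lhs => rw [← gback z, H.dot_app]
  have hfixab : ∀ z, (t : V ≃ₗ[F] V) z = z → H.co a (((g⁻¹ : O Q) : V ≃ₗ[F] V) z) = 0 ∧
      H.co b (((g⁻¹ : O Q) : V ≃ₗ[F] V) z) = 0 := fun z hz => by
    have hzr : (r : V ≃ₗ[F] V) (((g⁻¹ : O Q) : V ≃ₗ[F] V) z) = ((g⁻¹ : O Q) : V ≃ₗ[F] V) z := by
      conv_rhs => rw [← hz]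
      rw [← mul_app, ← mul_app, ← Subgroup.coe_mul, ← Subgroup.coe_mul]
      rw [show r * g⁻¹ = g⁻¹ * t by rw [ht]; group]
    exact ⟨H.app_fix_mem hrd hzr a (by simp), H.app_fix_mem hrd hzr b (by simp)⟩
  have hfixg : ∀ k, k ≠ a → k ≠ b → (t : V ≃ₗ[F] V) ((g : V ≃ₗ[F] V) (e k)) = (g : V ≃ₗ[F] V) (e k) := by
    intro k ha hb
    rw [← mul_app, ← Subgroup.coe_mul, ← hgr, Subgroup.coe_mul, mul_app, hrd k, if_neg (by simp [ha, hb])]
  -- the vector attached to a moved pair
  have step : ∀ {P R : Fin 6} {δ : F}, P ≠ R → δ * δ = 1 → (t : V ≃ₗ[F] V) (e P) = δ • e R →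
      (t : V ≃ₗ[F] V) (e R) = δ • e P → π P = R → π R = P →
      let w := ((g⁻¹ : O Q) : V ≃ₗ[F] V) (e P + δ • e R)
      H.co a w = 0 ∧ H.co b w = 0 ∧
      (∀ {i j}, i ≠ j → H.co i w ≠ 0 → H.co j w ≠ 0 →
        H.co i w * H.co i w = 1 ∧ ∀ l, l ≠ i → l ≠ j → H.co l w = 0) ∧
      ∀ k, k ≠ a → k ≠ b → H.co k w = 0 →
        H.co P ((g : V ≃ₗ[F] V) (e k)) = 0 ∧ H.co R ((g : V ≃ₗ[F] V) (e k)) = 0 := by
    intro P R δ hPR hδ tP tR hP hR w
    have htz : (t : V ≃ₗ[F] V) (e P + δ • e R) = e P + δ • e R := by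
      rw [map_add, map_smul, tP, tR, smul_smul, hδ, one_smul, add_comm]
    obtain ⟨wa, wb⟩ := hfixab _ htz
    set s := g⁻¹ * (rO Q (e P) * rO Q (e R)) * g with hs
    have hd := H.isDiag_pair hPR
    have hct : (rO Q (e P) * rO Q (e R)) * t = t * (rO Q (e P) * rO Q (e R)) := by
      refine ((hπ.comm_diag hd fun i => ?_)).symm
      simp only [Finset.mem_insert, Finset.mem_singleton]
      constructor
      · rintro (h | h)
        · right; exact π.injective (h.trans hR.symm)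
        · left; exact π.injective (h.trans hP.symm)
      · rintro (rfl | rfl)
        · exact Or.inr hP
        · exact Or.inl hR
    have hsm : s ∈ H.mono := hX.of_comm_diag (X.mul_mem (X.mul_mem (X.inv_mem hg) (hX.pair hPR)) hg) hrd
      (Or.inl (Finset.card_pair hab)) (by
        rw [hs, mul_assoc _ g r, hgr, mul_assoc g⁻¹, ← mul_assoc (rO Q (e P) * rO Q (e R)) t g, hct, ht]
        group)
    have hco : ∀ k, k ≠ a → k ≠ b → H.co P ((g : V ≃ₗ[F] V) (e k)) = δ * H.co R ((g : V ≃ₗ[F] V) (e k)) ∧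
        H.co k w = 2 * H.co P ((g : V ≃ₗ[F] V) (e k)) := by
      intro k hka hkb
      have h1 : H.co P ((g : V ≃ₗ[F] V) (e k)) = δ * H.co R ((g : V ≃ₗ[F] V) (e k)) := by
        have h := H.dot_app t (e P) ((g : V ≃ₗ[F] V) (e k))
        rw [tP, hfixg k hka hkb, H.dot_smul_left] at h
        exact h.symm
      refine ⟨h1, ?_⟩
      have h := dotg (e P + δ • e R) (e k)
      rw [H.dot_add_left, H.dot_smul_left, H.dot_comm _ (e k)] at h
      change H.co P _ + δ * H.co R _ = H.co k w at h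
      linear_combination -h - h1
    refine ⟨wa, wb, fun {i j} => wsupp hsm wa wb fun i k hka hkb => ?_, fun k hka hkb hk => ?_⟩
    · obtain ⟨h1, h2⟩ := hco k hka hkb
      have hx : ((rO Q (e P) * rO Q (e R) : O Q) : V ≃ₗ[F] V) ((g : V ≃ₗ[F] V) (e k)) =
          (g : V ≃ₗ[F] V) (e k) - (2 * H.co P ((g : V ≃ₗ[F] V) (e k))) • (e P + δ • e R) := by
        refine H.ext_co fun l => ?_
        rw [co_diag hd, H.co_sub, H.co_smul, H.co_add, H.co_smul]
        rcases eq_or_ne l P with rfl | hlP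
        · rw [if_pos (by simp), H.co_self, H.co_ne hPR]; ring
        rcases eq_or_ne l R with rfl | hlR
        · rw [if_pos (by simp), H.co_ne hlP, H.co_self]
          linear_combination 2 * δ * h1 + (2 * H.co l ((g : V ≃ₗ[F] V) (e k))) * hδ
        · rw [if_neg (by simp [hlP, hlR]), H.co_ne hlP, H.co_ne hlR]; ring
      rw [hs, mul_assoc, Subgroup.coe_mul, mul_app, Subgroup.coe_mul, mul_app, hx, map_sub, map_smul, back, ← h2,
        H.co_sub, H.co_smul, H.co_e]
    · obtain ⟨h1, h2⟩ := hco k hka hkb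
      rw [hk] at h2
      have hP0 := (mul_eq_zero.1 h2.symm).resolve_left H.two
      rw [hP0] at h1
      exact ⟨hP0, (mul_eq_zero.1 h1.symm).resolve_left fun h => by simp [h] at hδ⟩
  obtain ⟨w1a, w1b, w1two, w1out⟩ := step hAB hε tA tB hA hB
  obtain ⟨w2a, w2b, w2two, w2out⟩ := step hCD hε' tC tD hC hD
  set w1 := ((g⁻¹ : O Q) : V ≃ₗ[F] V) (e A + ε • e B) with hw1
  set w2 := ((g⁻¹ : O Q) : V ≃ₗ[F] V) (e C + ε' • e D) with hw2
  clear step
  -- the exchange of the two pairs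
  set η := ε * ε' with hη
  have hη1 : η * η = 1 := by rw [hη]; linear_combination ε' * ε' * hε + hε'
  set m := rO Q (e A - (1 : F) • e C) * rO Q (e B - η • e D) with hm
  have hmm : m ∈ H.mono := H.mono.mul_mem (H.isMono_swp hAC (one_mul 1)) (H.isMono_swp hBD hη1)
  have hmX : m ∈ X := hX.pairs _ _ (by rw [H.qmap_swp hAC (one_mul 1)]; exact H.two_c)
    (by rw [H.qmap_swp hAC (one_mul 1), H.qmap_swp hBD hη1]) hmm
  have sfix : ∀ {i j k : Fin 6} {δ : F}, k ≠ i → k ≠ j → (rO Q (e i - δ • e j) : V ≃ₗ[F] V) (e k) = e k :=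
    fun h1 h2 => H.supp_swp _ (by simp [h1, h2])
  have mA : (m : V ≃ₗ[F] V) (e A) = e C := by
    rw [hm, Subgroup.coe_mul, mul_app, sfix hAB hAD, H.rO_swp_left hAC (one_mul 1), one_smul]
  have mC : (m : V ≃ₗ[F] V) (e C) = e A := by
    rw [hm, Subgroup.coe_mul, mul_app, sfix (Ne.symm hBC) hCD, H.rO_swp_right hAC (one_mul 1), one_smul]
  have mB : (m : V ≃ₗ[F] V) (e B) = η • e D := by
    rw [hm, Subgroup.coe_mul, mul_app, H.rO_swp_left hBD hη1, map_smul, sfix (Ne.symm hAD) (Ne.symm hCD)]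
  have mD : (m : V ≃ₗ[F] V) (e D) = η • e B := by
    rw [hm, Subgroup.coe_mul, mul_app, H.rO_swp_right hBD hη1, map_smul, sfix (Ne.symm hAB) hBC]
  have mE : (m : V ≃ₗ[F] V) (e E) = e E := by
    rw [hm, Subgroup.coe_mul, mul_app, sfix (Ne.symm hBE) (Ne.symm hDE), sfix (Ne.symm hAE) (Ne.symm hCE)]
  have mE' : (m : V ≃ₗ[F] V) (e E') = e E' := by
    rw [hm, Subgroup.coe_mul, mul_app, sfix (Ne.symm hBE') (Ne.symm hDE'), sfix (Ne.symm hAE') (Ne.symm hCE')]
  clear_value m
  have hmt : m * t = t * m := by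
    refine H.ext_e fun i => ?_
    rw [Subgroup.coe_mul, Subgroup.coe_mul, mul_app, mul_app]
    rcases hall i with rfl | rfl | rfl | rfl | rfl | rfl
    · rw [tA, map_smul, mB, mA, tC, smul_smul, hη, ← mul_assoc, hε, one_mul]
    · rw [tB, map_smul, mA, mB, map_smul, tD, smul_smul, hη, mul_assoc, hε', mul_one]
    · rw [tC, map_smul, mD, mC, tA, smul_smul, hη, mul_left_comm, hε', mul_one]
    · rw [tD, map_smul, mC, mD, map_smul, tB, smul_smul, hη, mul_right_comm, hε, one_mul]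
    · rw [tE, mE, tE]
    · obtain ⟨δ, -, h⟩ := hsign hE'
      rw [h, map_smul, mE', h]
  set m' := g⁻¹ * m * g with hm'
  have hm'm : m' ∈ H.mono := hX.of_comm_diag (X.mul_mem (X.mul_mem (X.inv_mem hg) hmX) hg) hrd
    (Or.inl (Finset.card_pair hab)) (by
      rw [hm', mul_assoc _ g r, hgr, mul_assoc g⁻¹, ← mul_assoc m t g, hmt, ht]; group)
  obtain ⟨μ, hμ⟩ := exists_per H hm'm
  have hm'app : ∀ z, (m' : V ≃ₗ[F] V) (((g⁻¹ : O Q) : V ≃ₗ[F] V) z) =
      ((g⁻¹ : O Q) : V ≃ₗ[F] V) ((m : V ≃ₗ[F] V) z) := fun z => by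
    rw [hm', Subgroup.coe_mul, mul_app, gback, Subgroup.coe_mul, mul_app]
  have hm'w : (m' : V ≃ₗ[F] V) w1 = w2 := by
    rw [hw1, hm'app, map_add, map_smul, mA, mB, smul_smul, hη, ← mul_assoc, hε, one_mul]
  set S1 : Finset (Fin 6) := Finset.univ.filter fun i => H.co i w1 ≠ 0 with hS1
  set S2 : Finset (Fin 6) := Finset.univ.filter fun i => H.co i w2 ≠ 0 with hS2
  have hμsq : ∀ i, H.co (μ i) w2 = H.co i w1 ∨ H.co (μ i) w2 = -H.co i w1 := fun i => by
    rw [← hm'w, hμ.co_app_eq]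
    rcases hμ.co_sq i with h | h <;> simp [h]
  have hS2' : S2 = S1.image μ := by
    ext k
    obtain ⟨i, rfl⟩ := μ.surjective k
    simp only [hS2, hS1, Finset.mem_filter, Finset.mem_univ, true_and, Finset.mem_image, μ.injective.eq_iff,
      exists_eq_right]
    rcases hμsq i with h | h <;> simp [h]
  have hle : S1.card ≤ 2 := by
    by_contra hgt
    obtain ⟨i, hi, j, hj, hij⟩ := Finset.one_lt_card.1 (show 1 < S1.card by omega)
    obtain ⟨k, hk, hk'⟩ := Finset.exists_mem_notMem_of_card_lt_card (s := ({i, j} : Finset (Fin 6))) (t := S1)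
      (by rw [Finset.card_pair hij]; omega)
    simp only [Finset.mem_insert, Finset.mem_singleton, not_or] at hk'
    exact (Finset.mem_filter.1 hk).2 ((w1two hij (Finset.mem_filter.1 hi).2 (Finset.mem_filter.1 hj).2).2 k hk'.1 hk'.2)
  have hc2 : S2.card = S1.card := by rw [hS2', Finset.card_image_of_injective _ μ.injective]
  -- two lines outside both
  have hfree : ∀ {j l}, j ≠ l → j ∉ S1 ∪ S2 ∪ {a, b} → l ∉ S1 ∪ S2 ∪ {a, b} → False := by
    intro j l hjl hj hl'
    have key : ∀ {k}, k ∉ S1 ∪ S2 ∪ {a, b} → (g : V ≃ₗ[F] V) (e k) ∈ H.sub {E, E'} := fun {k} hk i hi => by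
      simp only [hS1, hS2, Finset.mem_union, Finset.mem_filter, Finset.mem_univ, true_and, Finset.mem_insert,
        Finset.mem_singleton, not_or, not_not] at hk
      simp only [Finset.mem_insert, Finset.mem_singleton, not_or] at hi
      rcases hall i with rfl | rfl | rfl | rfl | rfl | rfl
      exacts [(w1out k hk.2.1 hk.2.2 hk.1.1).1, (w1out k hk.2.1 hk.2.2 hk.1.1).2,
        (w2out k hk.2.1 hk.2.2 hk.1.2).1, (w2out k hk.2.1 hk.2.2 hk.1.2).2, absurd rfl hi.1, absurd rfl hi.2]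
    obtain ⟨σ, hσ⟩ := exists_per H (hX.plane hg hjl hEE' (key hj) (key hl'))
    have h1 := (hσ.mul (per_diag hrd)).mul hσ.inv
    rw [← ht, mul_one, mul_inv_cancel] at h1
    have := hπ.unique h1
    rw [this] at hA
    exact hAB hA
  have hU : 3 ≤ (S1 ∪ S2).card := by
    by_contra hU
    have h4 : (S1 ∪ S2 ∪ {a, b}).card ≤ 4 :=
      (Finset.card_union_le _ _).trans (by rw [Finset.card_pair hab]; omega)
    obtain ⟨j, hj, l, hl', hjl⟩ := Finset.one_lt_card.1 (show 1 < (Finset.univ \ (S1 ∪ S2 ∪ {a, b})).card by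
      rw [Finset.card_sdiff_of_subset (Finset.subset_univ _), Finset.card_univ, Fintype.card_fin]; omega)
    exact hfree hjl (Finset.mem_sdiff.1 hj).2 (Finset.mem_sdiff.1 hl').2
  have hu' := Finset.card_union_le S1 S2
  obtain ⟨i, j, hij, hS⟩ := Finset.card_eq_two.1 (show S1.card = 2 by omega)
  have hS' : S2 = {μ i, μ j} := by rw [hS2', hS]; simp
  have hw12 : H.dot w1 w2 = 0 := by
    rw [hw1, hw2, H.dot_app, H.dot_add_left, H.dot_smul_left, H.dot_add_right, H.dot_smul_right, H.dot_add_right,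
      H.dot_smul_right, show H.dot (e A) (e C) = 0 from H.co_ne hAC, show H.dot (e A) (e D) = 0 from H.co_ne hAD,
      show H.dot (e B) (e C) = 0 from H.co_ne hBC, show H.dot (e B) (e D) = 0 from H.co_ne hBD]
    ring
  have hdis : ∀ x, x ∈ S1 → x ∉ S2 := by
    intro x hx hx2
    obtain ⟨y, hy⟩ : ∃ y, S1 ∩ S2 = {y} := Finset.card_eq_one.1 (by
      have h := Finset.card_union_add_card_inter S1 S2
      have hp := Finset.card_pos.2 ⟨x, Finset.mem_inter.2 ⟨hx, hx2⟩⟩
      omega)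
    have hy' := Finset.mem_inter.1 (hy.symm ▸ Finset.mem_singleton_self y : y ∈ S1 ∩ S2)
    rw [H.dot_eq_sum, Finset.sum_eq_single y] at hw12
    · exact mul_ne_zero (Finset.mem_filter.1 hy'.1).2 (Finset.mem_filter.1 hy'.2).2 hw12
    · intro z _ hzy
      by_contra hne
      rcases mul_ne_zero_iff.1 hne with ⟨h1, h2⟩
      have : z ∈ S1 ∩ S2 := Finset.mem_inter.2 ⟨by simp [hS1, h1], by simp [hS2, h2]⟩
      rw [hy, Finset.mem_singleton] at this
      exact hzy this
    · simp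
  have mem1 : ∀ x, x ∈ S1 ↔ x = i ∨ x = j := fun x => by simp [hS]
  have n1 : ∀ {x}, x ∈ S1 → x ≠ a ∧ x ≠ b := fun {x} hx =>
    ⟨fun e => (Finset.mem_filter.1 hx).2 (e ▸ w1a), fun e => (Finset.mem_filter.1 hx).2 (e ▸ w1b)⟩
  have n2 : ∀ {x}, x ∈ S2 → x ≠ a ∧ x ≠ b := fun {x} hx =>
    ⟨fun e => (Finset.mem_filter.1 hx).2 (e ▸ w2a), fun e => (Finset.mem_filter.1 hx).2 (e ▸ w2b)⟩
  have hi1 : i ∈ S1 := by simp [hS]
  have hj1 : j ∈ S1 := by simp [hS]
  have hi2 : μ i ∈ S2 := by simp [hS']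
  have hj2 : μ j ∈ S2 := by simp [hS']
  have hsix : [a, b, i, j, μ i, μ j].Nodup := by
    have hμ' : μ i ≠ μ j := fun h => hij (μ.injective h)
    have := n1 hi1; have := n1 hj1; have := n2 hi2; have := n2 hj2
    have := hdis i hi1; have := hdis j hj1
    simp only [List.nodup_cons, List.mem_cons, List.not_mem_nil, or_false, not_or, List.nodup_nil, not_false_iff,
      and_true]
    grind
  have hall' := nodup_six hsix
  set v := ((g⁻¹ : O Q) : V ≃ₗ[F] V) (e E) with hv
  obtain ⟨va, vb⟩ := hfixab (e E) tE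
  have hvm : (m' : V ≃ₗ[F] V) v = v := by rw [hv, hm'app, mE]
  have hvk : ∀ x, H.co (μ x) v * H.co (μ x) v = H.co x v * H.co x v := fun x => by
    conv_lhs => rw [← hvm, hμ.co_app_eq]
    rcases hμ.co_sq x with h | h <;> rw [h] <;> ring
  have hwv : H.co i w1 * H.co i v + H.co j w1 * H.co j v = 0 := by
    have h : H.dot w1 v = 0 := by
      rw [hw1, hv, H.dot_app, H.dot_add_left, H.dot_smul_left, show H.dot (e A) (e E) = 0 from H.co_ne hAE,
        show H.dot (e B) (e E) = 0 from H.co_ne hBE]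
      ring
    have hsub : w1 ∈ H.sub {i, j} := fun x hx => by
      by_contra h
      exact hx (by simpa using (mem1 x).1 (by simp [hS1, h]))
    rwa [H.dot_mem_sub hsub, Finset.sum_pair hij] at h
  have hwi := (w1two hij (Finset.mem_filter.1 hi1).2 (Finset.mem_filter.1 hj1).2).1
  have hwj := (w1two hij.symm (Finset.mem_filter.1 hj1).2 (Finset.mem_filter.1 hi1).2).1
  have hvij : H.co i v * H.co i v = H.co j v * H.co j v := by
    linear_combination (-(H.co i v * H.co i v)) * hwi + (H.co j v * H.co j v) * hwj +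
      (H.co i w1 * H.co i v - H.co j w1 * H.co j v) * hwv
  set q := H.co i v * H.co i v with hq
  have hsq : ∀ x, x ≠ a → x ≠ b → H.co x v * H.co x v = q := fun x ha hb => by
    rcases hall' x with rfl | rfl | rfl | rfl | rfl | rfl
    exacts [absurd rfl ha, absurd rfl hb, rfl, hvij.symm, hvk i, (hvk j).trans hvij.symm]
  have h4q : 4 * q = 1 := by
    have h := H.dot_app g⁻¹ (e E) (e E)
    have hmem : v ∈ H.sub {i, j, μ i, μ j} := fun x hx => by
      rcases hall' x with rfl | rfl | rfl | rfl | rfl | rfl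
      exacts [va, vb, absurd (by simp) hx, absurd (by simp) hx, absurd (by simp) hx, absurd (by simp) hx]
    rw [← hv, H.dot_self_unit (H.val E), H.dot_mem_sub hmem,
      Finset.sum_congr rfl (g := fun _ => q) fun x hx => hsq x ?_ ?_, Finset.sum_const] at h
    · simp only [List.nodup_cons, List.mem_cons, List.not_mem_nil, or_false, not_or, List.nodup_nil, not_false_iff,
        and_true] at hsix
      rw [Finset.card_insert_of_notMem (by simp; tauto), Finset.card_insert_of_notMem (by simp; tauto),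
        Finset.card_pair (by tauto)] at h
      simpa using h
    all_goals
      simp only [Finset.mem_insert, Finset.mem_singleton] at hx
      rcases hx with rfl | rfl | rfl | rfl
    exacts [(n1 hi1).1, (n1 hj1).1, (n2 hi2).1, (n2 hj2).1, (n1 hi1).2, (n1 hj1).2, (n2 hi2).2, (n2 hj2).2]
  -- a three-cycle fixing that vector
  set k := μ i with hk
  have hsk : ∀ x, x ≠ a → x ≠ b → (2 * H.co x v) * (2 * H.co x v) = 1 := fun x ha hb => by
    linear_combination 4 * hsq x ha hb + h4q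
  simp only [List.nodup_cons, List.mem_cons, List.not_mem_nil, or_false, not_or, List.nodup_nil, not_false_iff,
    and_true] at hsix
  obtain ⟨⟨-, hai, haj, hak, -⟩, ⟨hbi, hbj, hbk, -⟩, ⟨-, hik, -⟩, ⟨hjk, -⟩, -⟩ := hsix
  set x := (2 * H.co i v) • e i with hx
  set y := (2 * H.co j v) • e j with hy
  set z := (2 * H.co k v) • e k with hz
  have si := hsk i (Ne.symm hai) (Ne.symm hbi)
  have sj := hsk j (Ne.symm haj) (Ne.symm hbj)
  have sk := hsk k (Ne.symm hak) (Ne.symm hbk)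
  have qv : ∀ {l : Fin 6} {s : F}, s * s = 1 → Q (s • e l) = c := fun hs => by
    rw [qmap_smul, H.val, pow_two, hs, one_mul]
  have dz : ∀ {l l' : Fin 6} {s s' : F}, l ≠ l' → H.dot (s • e l) (s' • e l') = 0 := fun {l l' s s'} h => by
    rw [H.dot_smul_left, H.dot_smul_right, show H.dot (e l) (e l') = 0 from H.co_ne h, mul_zero, mul_zero]
  obtain ⟨hXh, hmh⟩ := hX.cyc (x := x) (y := y) (z := z) ((H.ax_e i).smul H _) ((H.ax_e j).smul H _)
    ((H.ax_e k).smul H _) (qv si) (qv sj) (qv sk) (dz hij) (dz hjk)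
  obtain ⟨hxy, hyz, hzx, hfix⟩ := H.cyc_app (x := x) (y := y) (z := z) (qv si) (qv sj) (qv sk) (dz hij) (dz hik)
    (dz hjk)
  set h := rO Q (x - y) * rO Q (y - z) with hh
  have hfe : ∀ l, l ≠ i → l ≠ j → l ≠ k → (h : V ≃ₗ[F] V) (e l) = e l := fun l h1 h2 h3 =>
    hfix _ (by rw [hx, H.dot_smul_left, show H.dot (e i) (e l) = 0 from H.co_ne (Ne.symm h1), mul_zero])
      (by rw [hy, H.dot_smul_left, show H.dot (e j) (e l) = 0 from H.co_ne (Ne.symm h2), mul_zero])
      (by rw [hz, H.dot_smul_left, show H.dot (e k) (e l) = 0 from H.co_ne (Ne.symm h3), mul_zero])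
  have hei : e i = (2 * H.co i v) • x := by rw [hx, smul_smul, si, one_smul]
  have hej : e j = (2 * H.co j v) • y := by rw [hy, smul_smul, sj, one_smul]
  have hek : e k = (2 * H.co k v) • z := by rw [hz, smul_smul, sk, one_smul]
  have hh3 : h ^ 3 = 1 := H.ext_e fun l => by
    rw [pow_succ, pow_two, Subgroup.coe_mul, Subgroup.coe_mul, mul_app, mul_app]
    by_cases h1 : l = i
    · rw [h1, hei, map_smul, map_smul, map_smul, hxy, hyz, hzx]; rfl
    by_cases h2 : l = j
    · rw [h2, hej, map_smul, map_smul, map_smul, hyz, hzx, hxy]; rfl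
    by_cases h3 : l = k
    · rw [h3, hek, map_smul, map_smul, map_smul, hzx, hxy, hyz]; rfl
    rw [hfe l h1 h2 h3, hfe l h1 h2 h3, hfe l h1 h2 h3]; rfl
  have hne : h ≠ 1 := fun h1 => by
    rw [h1] at hxy
    have hc := congrArg (H.co i) (show x = y from hxy)
    rw [hx, hy, H.co_smul, H.co_smul, H.co_self, H.co_ne hij, mul_one, mul_zero] at hc
    rw [hc, mul_zero] at si
    exact zero_ne_one si
  have hhv : (h : V ≃ₗ[F] V) v = v := by
    have hp : ∀ {l l' : Fin 6}, l ≠ a → l ≠ b → l' ≠ a → l' ≠ b →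
        polar Q ((2 * H.co l v) • e l - (2 * H.co l' v) • e l') v = 0 := fun {l l'} h1 h2 h3 h4 => by
      refine H.polar_of_dot ?_
      rw [H.dot_sub_left, H.dot_smul_left, H.dot_smul_left]
      show 2 * H.co l v * H.co l v - 2 * H.co l' v * H.co l' v = 0
      linear_combination 2 * hsq l h1 h2 - 2 * hsq l' h3 h4
    rw [hh, Subgroup.coe_mul, mul_app, rO_fix (hp (Ne.symm haj) (Ne.symm hbj) (Ne.symm hak) (Ne.symm hbk)),
      rO_fix (hp (Ne.symm hai) (Ne.symm hbi) (Ne.symm haj) (Ne.symm hbj))]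
  obtain ⟨ν, hν⟩ := exists_per H hmh
  have hνa : ν a = a := hν.app_eq (a := 1) (by rw [one_smul]; exact hfe a hai haj hak)
  have hνb : ν b = b := hν.app_eq (a := 1) (by rw [one_smul]; exact hfe b hbi hbj hbk)
  have hhr : h * r = r * h := hν.comm_diag hrd fun l => by
    simp only [Finset.mem_insert, Finset.mem_singleton]
    constructor
    · rintro (e' | e')
      · exact Or.inl (ν.injective (e'.trans hνa.symm))
      · exact Or.inr (ν.injective (e'.trans hνb.symm))
    · rintro (rfl | rfl)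
      · exact Or.inl hνa
      · exact Or.inr hνb
  set u := g * h * g⁻¹ with hu
  have huE : (u : V ≃ₗ[F] V) (e E) = e E := by
    rw [hu, Subgroup.coe_mul, mul_app, Subgroup.coe_mul, mul_app, ← hv, hhv, hv, gback]
  have hum : u ∈ H.mono := hX.axis (X.mul_mem (X.mul_mem hg hXh) (X.inv_mem hg)) (a := E)
    (by rw [huE]; exact H.ax_e E)
  obtain ⟨ρ, hρ⟩ := exists_per H hum
  have hu3 : u ^ 3 = 1 := by
    rw [hu, conj_pow, hh3, mul_one, mul_inv_cancel]
  have hρ3 : ρ ^ 3 = 1 := by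
    have := hρ.pow 3
    rw [hu3] at this
    exact this.unique Per.one
  have hρc : ρ * π = π * ρ := (hρ.mul hπ).unique (by
    rw [show u * t = t * u by
      rw [hu, ht, show g * h * g⁻¹ * (g * r * g⁻¹) = g * (h * r) * g⁻¹ by group, hhr]; group]
    exact hπ.mul hρ)
  have := perm_eq_one hl0 hA hB hC hD hE hE' hρ3 hρc (hρ.app_eq (a := 1) (by rw [one_smul]; exact huE))
  subst this
  obtain ⟨Bd, hBd⟩ := hρ.diag_of_one
  have hu2 := ONB.IsDiag.sq H hBd
  rw [pow_succ, pow_two, hu2, one_mul] at hu3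
  refine hne ?_
  rw [hu, mul_inv_eq_one] at hu3
  exact mul_eq_left.1 hu3

/-- An element carrying the sign change of a pair to a monomial element is monomial. -/
theorem Six.weak {g : O Q} (hg : g ∈ X) {a b : Fin 6} (hab : a ≠ b)
    (hm : g * (rO Q (e a) * rO Q (e b)) * g⁻¹ ∈ H.mono) : g ∈ H.mono := by
  classical
  set r := rO Q (e a) * rO Q (e b) with hr
  have hrd : H.IsDiag r {a, b} := H.isDiag_pair hab
  obtain ⟨π, hπ⟩ := exists_per H hm
  set t := g * r * g⁻¹ with ht
  have htr : trc H t = 2 := by rw [ht, trc_conj, hr, trc_pair hab]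
  have htt : t * t = 1 := mul_self_conj (ONB.IsDiag.sq H hrd)
  by_cases h1 : π = 1
  · subst h1
    obtain ⟨B, hB⟩ := hπ.diag_of_one
    obtain ⟨p, q, hpq, rfl⟩ := diag_two hX.three hB htr
    exact hX.plane hg hab hpq ((H.diag_maps (b := a) hrd hB ht.symm).1 (by simp))
      ((H.diag_maps (b := b) hrd hB ht.symm).1 (by simp))
  exfalso
  obtain ⟨hπ2, ⟨h2, hpos⟩ | ⟨h4, E, hE, hneg⟩⟩ := hπ.invol hX.three htt htr h1
  · obtain ⟨A, C, E, E', hl, hE, hE'⟩ := double_shape π h2 hπ2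
    exact hX.double hg hab hπ hl rfl rfl hE hE' (hpos E (mem_fx.2 hE))
  obtain ⟨A, hA⟩ : ∃ A, π A ≠ A := by
    by_contra! h
    exact h1 (Equiv.ext h)
  set B := π A with hB
  have hB2 : π B = A := by simpa using congrArg (fun σ : Equiv.Perm (Fin 6) => σ A) hπ2
  have hEA : E ≠ A := fun h => hA (by
    have := mem_fx.1 hE
    rw [h] at this
    exact this)
  have hEB : E ≠ B := fun h => by
    have := mem_fx.1 hE
    rw [h, hB2] at this
    exact hA this.symm
  have hfix := swap_shape π h4 A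
  obtain ⟨u, v, w, huv, huw, hvw, e3⟩ := Finset.card_eq_three.1
    (show (Finset.univ \ ({A, B, E} : Finset (Fin 6))).card = 3 by
      rw [Finset.card_sdiff_of_subset (Finset.subset_univ _), Finset.card_insert_of_notMem (by
        simp [Ne.symm hA, hEA.symm]), Finset.card_pair hEB.symm]
      rfl)
  have hlast : [A, B, E, u, v, w].Nodup := by
    have key : ∀ x ∈ ({u, v, w} : Finset (Fin 6)), x ≠ A ∧ x ≠ B ∧ x ≠ E := fun x hx => by
      rw [← e3] at hx; simpa using hx
    have := key u (by simp); have := key v (by simp); have := key w (by simp)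
    simp only [List.nodup_cons, List.mem_cons, List.not_mem_nil, or_false, not_or, List.nodup_nil, not_false_iff,
      and_true]
    grind
  obtain ⟨p, q, p', q', hl⟩ := exists_four hab
  have hl0 := hl
  simp only [List.nodup_cons, List.mem_cons, List.not_mem_nil, or_false, not_or, List.nodup_nil, not_false_iff,
    and_true] at hl
  obtain ⟨⟨-, hap, haq, hap', haq'⟩, ⟨hbp, hbq, hbp', hbq'⟩, ⟨hpq, hpp', hpq'⟩, ⟨hqp', hqq'⟩, hp'q'⟩ := hl
  obtain ⟨k₁, ⟨hk₁X, hk₁m⟩, k₁p, k₁q, k₁p', k₁o⟩ := hX.cycle hpq hpp' hqp'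
  obtain ⟨k₂, ⟨hk₂X, hk₂m⟩, k₂p, k₂q, k₂q', k₂o⟩ := hX.cycle hpq hpq' hqq'
  -- the conjugates fix the negated line
  have hvab : ((g⁻¹ : O Q) : V ≃ₗ[F] V) (e E) ∈ H.sub {a, b} := by
    refine H.app_neg_mem hrd ?_
    conv_rhs => rw [← map_neg, ← hneg]
    rw [← mul_app, ← mul_app, ← Subgroup.coe_mul, ← Subgroup.coe_mul, ht]
    group
  have image : ∀ {k : O Q}, k ∈ X → k ∈ H.mono → (k : V ≃ₗ[F] V) (e a) = e a → (k : V ≃ₗ[F] V) (e b) = e b →
      k ^ 3 = 1 → ∃ ρ, Per H (g * k * g⁻¹) ρ ∧ ρ ^ 3 = 1 ∧ ρ A = A ∧ ρ B = B ∧ ρ E = E := by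
    intro k hkX hkm ka kb k3
    obtain ⟨ν, hν⟩ := exists_per H hkm
    have hνa : ν a = a := hν.app_eq (a := 1) (by rw [one_smul]; exact ka)
    have hνb : ν b = b := hν.app_eq (a := 1) (by rw [one_smul]; exact kb)
    have hkr : k * r = r * k := hν.comm_diag hrd fun l => by
      simp only [Finset.mem_insert, Finset.mem_singleton]
      constructor
      · rintro (e' | e')
        · exact Or.inl (ν.injective (e'.trans hνa.symm))
        · exact Or.inr (ν.injective (e'.trans hνb.symm))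
      · rintro (rfl | rfl)
        · exact Or.inl hνa
        · exact Or.inr hνb
    have hsupp : H.Supp k (Finset.univ \ {a, b}) := fun l hl => by
      simp at hl
      by_cases h : l = a
      · rw [h, ka]
      · rw [hl h, kb]
    have hkv := ONB.Supp.fix H hsupp (v := ((g⁻¹ : O Q) : V ≃ₗ[F] V) (e E)) fun l hl =>
      hvab l (Finset.mem_sdiff.1 hl).2
    have hkE : ((g * k * g⁻¹ : O Q) : V ≃ₗ[F] V) (e E) = e E := by
      rw [Subgroup.coe_mul, mul_app, Subgroup.coe_mul, mul_app, hkv, ← mul_app, ← Subgroup.coe_mul, mul_inv_cancel]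
      rfl
    obtain ⟨ρ, hρ⟩ := exists_per H (hX.axis (X.mul_mem (X.mul_mem hg hkX) (X.inv_mem hg)) (a := E)
      (by rw [hkE]; exact H.ax_e E))
    have h3 : ρ ^ 3 = 1 := by
      have := hρ.pow 3
      rw [conj_pow, k3, mul_one, mul_inv_cancel] at this
      exact this.unique Per.one
    have hc : ρ * π = π * ρ := (hρ.mul hπ).unique (by
      rw [show g * k * g⁻¹ * t = t * (g * k * g⁻¹) by
        rw [ht, show g * k * g⁻¹ * (g * r * g⁻¹) = g * (k * r) * g⁻¹ by group, hkr]; group]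
      exact hπ.mul hρ)
    have comm : ∀ x, ρ (π x) = π (ρ x) := fun x => by
      simpa using congrArg (fun σ : Equiv.Perm (Fin 6) => σ x) hc
    have hA' : ρ A = A := by
      have hb' : ρ B = π (ρ A) := comm A
      have hcase : ρ A = A ∨ ρ A = B := by
        by_contra! h
        have := hfix (ρ A) hA h.1 h.2
        rw [this] at hb'
        exact hA (ρ.injective hb')
      refine hcase.resolve_right fun h => hA ?_
      rw [h, hB2] at hb'
      have := congrArg (fun σ : Equiv.Perm (Fin 6) => σ A) h3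
      simp [pow_succ, h, hb'] at this
      exact this
    exact ⟨ρ, hρ, h3, hA', by rw [hB, comm, hA'], hρ.app_eq (a := 1) (by rw [one_smul]; exact hkE)⟩
  have cube : ∀ {k : O Q} {x y z : Fin 6}, (k : V ≃ₗ[F] V) (e x) = e y → (k : V ≃ₗ[F] V) (e y) = e z →
      (k : V ≃ₗ[F] V) (e z) = e x → (∀ l, l ≠ x → l ≠ y → l ≠ z → (k : V ≃ₗ[F] V) (e l) = e l) → k ^ 3 = 1 := by
    intro k x y z h1 h2 h3 ho
    refine H.ext_e fun l => ?_
    rw [pow_succ, pow_two, Subgroup.coe_mul, Subgroup.coe_mul, mul_app, mul_app]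
    rcases eq_or_ne l x with rfl | hx
    · rw [h1, h2, h3]; rfl
    rcases eq_or_ne l y with rfl | hy
    · rw [h2, h3, h1]; rfl
    rcases eq_or_ne l z with rfl | hz
    · rw [h3, h1, h2]; rfl
    rw [ho l hx hy hz, ho l hx hy hz, ho l hx hy hz]; rfl
  obtain ⟨ρ₁, hρ₁, h31, hA1, hB1, hE1⟩ := image hk₁X hk₁m (k₁o a hap haq hap') (k₁o b hbp hbq hbp')
    (cube k₁p k₁q k₁p' k₁o)
  obtain ⟨ρ₂, hρ₂, h32, hA2, hB2', hE2⟩ := image hk₂X hk₂m (k₂o a hap haq haq') (k₂o b hbp hbq hbq')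
    (cube k₂p k₂q k₂q' k₂o)
  have hcm : Commute ρ₁ ρ₂ := perm_comm_three hlast h31 h32 hA1 hB1 hE1 hA2 hB2' hE2
  set d := k₁ * k₂ with hd
  have dp : (d : V ≃ₗ[F] V) (e p) = e p' := by rw [hd, Subgroup.coe_mul, mul_app, k₂p, k₁q]
  have dq : (d : V ≃ₗ[F] V) (e q) = e q' := by
    rw [hd, Subgroup.coe_mul, mul_app, k₂q, k₁o q' (Ne.symm hpq') (Ne.symm hqq') (Ne.symm hp'q')]
  have dp' : (d : V ≃ₗ[F] V) (e p') = e p := by
    rw [hd, Subgroup.coe_mul, mul_app, k₂o p' (Ne.symm hpp') (Ne.symm hqp') hp'q', k₁p']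
  have dq' : (d : V ≃ₗ[F] V) (e q') = e q := by rw [hd, Subgroup.coe_mul, mul_app, k₂q', k₁p]
  have da : (d : V ≃ₗ[F] V) (e a) = e a := by
    rw [hd, Subgroup.coe_mul, mul_app, k₂o a hap haq haq', k₁o a hap haq hap']
  have db : (d : V ≃ₗ[F] V) (e b) = e b := by
    rw [hd, Subgroup.coe_mul, mul_app, k₂o b hbp hbq hbq', k₁o b hbp hbq hbp']
  have hall := nodup_six hl0
  have hdd : d * d = 1 := H.ext_e fun l => by
    rw [Subgroup.coe_mul, mul_app]
    rcases hall l with rfl | rfl | rfl | rfl | rfl | rfl <;> simp [da, db, dp, dq, dp', dq']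
  have hdtr : trc H d = 2 := trc_two hab fun l => by
    rcases hall l with rfl | rfl | rfl | rfl | rfl | rfl
    · rw [da, H.co_self, if_pos (by simp)]
    · rw [db, H.co_self, if_pos (by simp)]
    · rw [dp, H.co_ne hpp', if_neg (by simp [Ne.symm hap, Ne.symm hbp])]
    · rw [dq, H.co_ne hqq', if_neg (by simp [Ne.symm haq, Ne.symm hbq])]
    · rw [dp', H.co_ne (Ne.symm hpp'), if_neg (by simp [Ne.symm hap', Ne.symm hbp'])]
    · rw [dq', H.co_ne (Ne.symm hqq'), if_neg (by simp [Ne.symm haq', Ne.symm hbq'])]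
  have hρ : Per H (g * d * g⁻¹) (ρ₁ * ρ₂) := by
    rw [hd, show g * (k₁ * k₂) * g⁻¹ = g * k₁ * g⁻¹ * (g * k₂ * g⁻¹) by group]
    exact hρ₁.mul hρ₂
  have hone : ρ₁ * ρ₂ = 1 := by
    have h2 : (ρ₁ * ρ₂) ^ 2 = 1 := by
      have h := hρ.mul hρ
      rw [mul_self_conj hdd] at h
      rw [pow_two]
      exact h.unique Per.one
    have h3 : (ρ₁ * ρ₂) ^ 3 = 1 := by rw [hcm.mul_pow, h31, h32, one_mul]
    rwa [pow_succ, h2, one_mul] at h3
  rw [hone] at hρ
  obtain ⟨D, hD⟩ := hρ.diag_of_one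
  obtain ⟨s, s', hss, rfl⟩ := diag_two hX.three hD (by rw [trc_conj, hdtr])
  have hd' : g⁻¹ * (rO Q (e s) * rO Q (e s')) * g⁻¹⁻¹ = d := by
    rw [← ONB.IsDiag.unique H hD (H.isDiag_pair hss)]; group
  have hdm : d ∈ H.mono := H.mono.mul_mem hk₁m hk₂m
  obtain ⟨σ, hσ⟩ := exists_per H hdm
  rw [← hd'] at hσ dp dq da
  refine hX.double (X.inv_mem hg) hss hσ (A := p) (B := p') (C := q) (D := q') (E := a) (E' := b) ?_
    (hσ.app_eq (a := 1) (by rw [one_smul]; exact dp)) (hσ.app_eq (a := 1) (by rw [one_smul]; exact dq))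
    (hσ.app_eq (a := 1) (by rw [one_smul]; exact da))
    (hσ.app_eq (a := 1) (by rw [one_smul, hd']; exact db)) da
  simp only [List.nodup_cons, List.mem_cons, List.not_mem_nil, or_false, not_or, List.nodup_nil, not_false_iff,
    and_true]
  grind

/-- The centraliser of a monomial involution with a moved line and two fixed ones is monomial. -/
theorem Six.cent [Finite (O Q)] {y : O Q} {π : Equiv.Perm (Fin 6)} (hy : Per H y π) {a p q : Fin 6}
    (ha : π a ≠ a) (ha2 : π (π a) = a) (hpq : p ≠ q) (hp : π p = p) (hq : π q = q) {g : O Q} (hg : g ∈ X)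
    (hgy : g * y = y * g) : g ∈ H.mono := by
  set w := rO Q (e a) * rO Q (e (π a)) with hw
  set w' := rO Q (e p) * rO Q (e q) with hw'
  have hwd : H.IsDiag w {a, π a} := H.isDiag_pair (Ne.symm ha)
  have hwd' : H.IsDiag w' {p, q} := H.isDiag_pair hpq
  have hyw : y * w = w * y := hy.comm_diag hwd fun i => by
    simp only [Finset.mem_insert, Finset.mem_singleton]
    constructor
    · rintro (h | h)
      · exact Or.inr (π.injective (h.trans ha2.symm))
      · exact Or.inl (π.injective h)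
    · rintro (rfl | rfl)
      · exact Or.inr rfl
      · exact Or.inl ha2
  have hyw' : y * w' = w' * y := hy.comm_diag hwd' fun i => by
    simp only [Finset.mem_insert, Finset.mem_singleton]
    constructor
    · rintro (h | h)
      · exact Or.inl (π.injective (h.trans hp.symm))
      · exact Or.inr (π.injective (h.trans hq.symm))
    · rintro (rfl | rfl)
      · exact Or.inl hp
      · exact Or.inr hq
  set k := g * w * g⁻¹ with hk
  have hkX : k ∈ X := X.mul_mem (X.mul_mem hg (hX.pair (Ne.symm ha))) (X.inv_mem hg)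
  have hw'X : w' ∈ X := hX.pair hpq
  have hle : Subgroup.closure ({w', k} : Set (O Q)) ≤ X ⊓ Subgroup.centralizer ({y} : Set (O Q)) := by
    rw [Subgroup.closure_le]
    rintro x (rfl | rfl)
    · exact ⟨hw'X, Subgroup.mem_centralizer_singleton_iff.2 hyw'.symm⟩
    · refine ⟨hkX, Subgroup.mem_centralizer_singleton_iff.2 ?_⟩
      have hgy' : g⁻¹ * y = y * g⁻¹ := by rw [inv_mul_eq_iff_eq_mul, ← mul_assoc, hgy, mul_inv_cancel_right]
      rw [hk, mul_assoc, hgy', ← mul_assoc, mul_assoc g, ← hyw, ← mul_assoc, hgy]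
      simp only [mul_assoc]
  have hk2 : k * k = 1 := mul_self_conj (ONB.IsDiag.sq H hwd)
  by_cases hx : ∃ x ∈ Subgroup.closure ({w', k} : Set (O Q)), x * w' * x⁻¹ = k
  · obtain ⟨x, hx, hxk⟩ := hx
    obtain ⟨hxX, hxy⟩ := hle hx
    replace hxy := Subgroup.mem_centralizer_singleton_iff.1 hxy
    set u := g⁻¹ * x with hu
    have huw : u * w' * u⁻¹ = w := by
      rw [hu, show g⁻¹ * x * w' * (g⁻¹ * x)⁻¹ = g⁻¹ * (x * w' * x⁻¹) * g by group, hxk, hk]; group
    have hum : u ∈ H.mono := hX.weak (X.mul_mem (X.inv_mem hg) hxX) hpq (by rw [huw]; exact ONB.IsDiag.mono H hwd)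
    obtain ⟨μ, hμ⟩ := exists_per H hum
    have huy : u * y = y * u := by
      rw [hu, mul_assoc, hxy, ← mul_assoc, ← mul_assoc]
      congr 1
      rw [inv_mul_eq_iff_eq_mul, ← mul_assoc, hgy, mul_inv_cancel_right]
    have hμc : μ * π = π * μ := (hμ.mul hy).unique (huy ▸ hy.mul hμ)
    have hin := (H.diag_maps (b := p) hwd' hwd huw).1 (by simp)
    exfalso
    have hμp : μ p = a ∨ μ p = π a := by
      by_contra! h
      have h0 := hin (μ p) (by simp [h.1, h.2])
      rcases hμ.co_sq p with h' | h' <;> simp [h0] at h'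
    have hfp : π (μ p) = μ p := by
      have := congrArg (fun σ : Equiv.Perm (Fin 6) => σ p) hμc
      simpa [hp] using this.symm
    rcases hμp with h | h <;> rw [h] at hfp
    · exact ha hfp
    · exact ha (π.injective hfp)
  push Not at hx
  obtain ⟨z, hz, hz1, hsz, htz, hcl⟩ := exists_central (ONB.IsDiag.sq H hwd') hk2 hx
  obtain ⟨hzX, -⟩ := hle hz
  have hzm : z ∈ H.mono := hX.of_comm_diag hzX hwd' (Or.inl (Finset.card_pair hpq)) hsz.symm
  -- `z` times the sign change of the pair is again the sign change of a pair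
  have hzd : ∃ p' q', p' ≠ q' ∧ z * w' = rO Q (e p') * rO Q (e q') := by
    have hzw : z * w' ∈ H.mono := H.mono.mul_mem hzm (ONB.IsDiag.mono H hwd')
    rcases hcl with ⟨x, hx', hxe⟩ | ⟨-, x, hx', hxe⟩
    · have hxm := hX.weak (hle hx').1 hpq (by rw [hxe]; exact hzw)
      rw [← hxe]
      exact H.mono_pair hxm hpq
    · have hxe' : x * g * w * (x * g)⁻¹ = z * w' := by rw [← hxe, hk]; group
      have hxm := hX.weak (X.mul_mem (hle hx').1 hg) (Ne.symm ha) (by rw [← hw, hxe']; exact hzw)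
      rw [← hxe']
      exact H.mono_pair hxm (Ne.symm ha)
  obtain ⟨p', q', hpq'', hze⟩ := hzd
  have hzdiag : H.IsDiag z (symmDiff {p', q'} {p, q}) := by
    have h := ONB.IsDiag.mul H (hze ▸ H.isDiag_pair hpq'') hwd'
    rwa [mul_assoc, ONB.IsDiag.sq H hwd', mul_one] at h
  have hc := card_symmDiff_add ({p', q'} : Finset (Fin 6)) {p, q}
  rw [Finset.card_pair hpq'', Finset.card_pair hpq] at hc
  have hpos := Finset.card_pos.2 (H.isDiag_nonempty hzdiag hz1)
  exact hX.weak hg (Ne.symm ha) (hX.of_comm_diag hkX hzdiag (by omega) htz)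

/-- The overgroup is monomial. -/
theorem Six.le_mono [Finite (O Q)] : X ≤ H.mono := by
  intro g hg
  have hfour : ([0, 1, 2, 3, 4, 5] : List (Fin 6)).Nodup := by decide
  have hall := nodup_six hfour
  have key : ∀ ε : F, ε * ε = 1 →
      g * (rO Q (e (0 : Fin 6) - ε • e 1) * rO Q (e 2 - (1 : F) • e 3)) * g⁻¹ ∈ H.mono := by
    intro ε hε
    set f := rO Q (e (0 : Fin 6) - ε • e 1) * rO Q (e 2 - (1 : F) • e 3) with hf
    have hfm : f ∈ H.mono :=
      H.mono.mul_mem (H.isMono_swp (by decide) hε) (H.isMono_swp (by decide) (one_mul 1))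
    have hfX : f ∈ X := hX.pairs _ _ (by rw [H.qmap_swp (by decide) hε]; exact H.two_c)
      (by rw [H.qmap_swp (by decide) hε, H.qmap_swp (by decide) (one_mul 1)]) hfm
    have sfix : ∀ {i j k : Fin 6} {δ : F}, k ≠ i → k ≠ j → (rO Q (e i - δ • e j) : V ≃ₗ[F] V) (e k) = e k :=
      fun h1 h2 => H.supp_swp _ (by simp [h1, h2])
    have f0 : (f : V ≃ₗ[F] V) (e 0) = ε • e 1 := by
      rw [hf, Subgroup.coe_mul, mul_app, sfix (by decide) (by decide), H.rO_swp_left (by decide) hε]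
    have f1 : (f : V ≃ₗ[F] V) (e 1) = ε • e 0 := by
      rw [hf, Subgroup.coe_mul, mul_app, sfix (by decide) (by decide), H.rO_swp_right (by decide) hε]
    have f2 : (f : V ≃ₗ[F] V) (e 2) = e 3 := by
      rw [hf, Subgroup.coe_mul, mul_app, H.rO_swp_left (by decide) (one_mul 1), one_smul,
        sfix (by decide) (by decide)]
    have f3 : (f : V ≃ₗ[F] V) (e 3) = e 2 := by
      rw [hf, Subgroup.coe_mul, mul_app, H.rO_swp_right (by decide) (one_mul 1), one_smul,
        sfix (by decide) (by decide)]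
    have f4 : (f : V ≃ₗ[F] V) (e 4) = e 4 := by
      rw [hf, Subgroup.coe_mul, mul_app, sfix (by decide) (by decide), sfix (by decide) (by decide)]
    have f5 : (f : V ≃ₗ[F] V) (e 5) = e 5 := by
      rw [hf, Subgroup.coe_mul, mul_app, sfix (by decide) (by decide), sfix (by decide) (by decide)]
    have hff : f * f = 1 := H.ext_e fun i => by
      rw [Subgroup.coe_mul, mul_app]
      rcases hall i with rfl | rfl | rfl | rfl | rfl | rfl <;> simp [f0, f1, f2, f3, f4, f5, map_smul, smul_smul, hε]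
    have hftr : trc H f = 2 := trc_two (r := 4) (s := 5) (by decide) fun i => by
      rcases hall i with rfl | rfl | rfl | rfl | rfl | rfl <;>
        simp [f0, f1, f2, f3, f4, f5, H.co_smul, H.co_self, H.co_ne]
    obtain ⟨φ, hφ⟩ := exists_per H hfm
    have hφ1 : φ ≠ 1 := fun h => by
      have := hφ.app_eq f0
      rw [h] at this
      simp at this
    -- a sign change of a pair is not conjugate to `f`
    have hno : ∀ {u : O Q}, u ∈ X → ∀ {i j : Fin 6}, i ≠ j → u * (rO Q (e i) * rO Q (e j)) * u⁻¹ ≠ f := by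
      intro u hu i j hij he
      obtain ⟨i', j', hij', he'⟩ := H.mono_pair (hX.weak hu hij (by rw [he]; exact hfm)) hij
      rw [he] at he'
      exact hφ1 (hφ.unique (he' ▸ per_diag (H.isDiag_pair hij')))
    set t := g * f * g⁻¹ with ht
    have htX : t ∈ X := X.mul_mem (X.mul_mem hg hfX) (X.inv_mem hg)
    set s := rO Q (e (0 : Fin 6)) * rO Q (e 1) with hs
    have hsd : H.IsDiag s {0, 1} := H.isDiag_pair (by decide)
    have h01 : (0 : Fin 6) ≠ 1 := by decide
    have hle : Subgroup.closure ({s, t} : Set (O Q)) ≤ X := by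
      rw [Subgroup.closure_le]
      rintro x (rfl | rfl)
      exacts [hX.pair h01, htX]
    obtain ⟨z, hz, hz1, hsz, htz, hcl⟩ := exists_central (ONB.IsDiag.sq H hsd) (mul_self_conj hff)
      fun x hx hxe => hno (X.mul_mem (X.inv_mem hg) (hle hx)) h01 (by
        rw [show g⁻¹ * x * (rO Q (e 0) * rO Q (e 1)) * (g⁻¹ * x)⁻¹ = g⁻¹ * (x * s * x⁻¹) * g by rw [hs]; group, hxe]
        group)
    have hzX := hle hz
    have hzm : z ∈ H.mono := hX.of_comm_diag hzX hsd (Or.inl (Finset.card_pair h01)) hsz.symm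
    have hzs : z * s ∈ H.mono := H.mono.mul_mem hzm (ONB.IsDiag.mono H hsd)
    rcases hcl with ⟨x, hx, hxe⟩ | ⟨-, x, hx, hxe⟩
    · obtain ⟨p', q', hpq', hze⟩ := H.mono_pair (hX.weak (hle hx) h01 (by rw [← hs, hxe]; exact hzs)) h01
      rw [← hs, hxe] at hze
      have hzdiag : H.IsDiag z (symmDiff {p', q'} {0, 1}) := by
        have h := ONB.IsDiag.mul H (hze ▸ H.isDiag_pair hpq') hsd
        rwa [mul_assoc, ONB.IsDiag.sq H hsd, mul_one] at h
      have hc := card_symmDiff_add ({p', q'} : Finset (Fin 6)) {0, 1}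
      rw [Finset.card_pair hpq', Finset.card_pair h01] at hc
      have hpos := Finset.card_pos.2 (H.isDiag_nonempty hzdiag hz1)
      exact hX.of_comm_diag htX hzdiag (by omega) htz
    · have hxe' : x * g * f * (x * g)⁻¹ = z * s := by rw [← hxe]; group
      obtain ⟨π, hπ⟩ := exists_per H hzs
      have hπ1 : π ≠ 1 := fun h => by
        subst h
        obtain ⟨B, hB⟩ := hπ.diag_of_one
        obtain ⟨i, j, hij, rfl⟩ := diag_two hX.three hB (by rw [← hxe', trc_conj, hftr])
        refine hno (X.inv_mem (X.mul_mem (hle hx) hg)) hij ?_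
        rw [← ONB.IsDiag.unique H hB (H.isDiag_pair hij), ← hxe']; group
      obtain ⟨hπ2, hcase⟩ := hπ.invol hX.three (hxe' ▸ mul_self_conj hff)
        (by rw [← hxe', trc_conj, hftr]) hπ1
      obtain ⟨a, p, q, ha, hpq, hp, hq⟩ := moved_two π (hcase.imp And.left And.left)
      have hzper : Per H z π := by
        have h := hπ.mul (per_diag hsd)
        rwa [mul_assoc, ONB.IsDiag.sq H hsd, mul_one, mul_one] at h
      exact hX.cent hzper ha (by simpa using congrArg (fun σ : Equiv.Perm (Fin 6) => σ a) hπ2) hpq hp hq htX htz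
  have h2 : Q (e (0 : Fin 6) - (1 : F) • e 1) ≠ 0 := by rw [H.qmap_swp (by decide) (one_mul 1)]; exact H.two_c
  have h2' : Q (e (0 : Fin 6) - (-1 : F) • e 1) ≠ 0 := by rw [H.qmap_swp (by decide) (by norm_num)]; exact H.two_c
  have hprod := H.mono.mul_mem (key 1 (one_mul 1)) (key (-1) (by norm_num))
  set u := rO Q (e (0 : Fin 6) - (1 : F) • e 1) with hu
  set u' := rO Q (e (0 : Fin 6) - (-1 : F) • e 1) with hu'
  set v := rO Q (e (2 : Fin 6) - (1 : F) • e 3) with hv
  have hsub : ∀ ε : F, e (0 : Fin 6) - ε • e 1 ∈ H.sub {0, 1} := fun ε =>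
    sub_mem (H.e_mem_sub (by simp)) (Submodule.smul_mem _ _ (H.e_mem_sub (by simp)))
  have hvu : v * u' = u' * v := H.rO_comm (H.dot_eq_zero_of_disjoint (B := {2, 3}) (C := {0, 1}) (by decide)
    (sub_mem (H.e_mem_sub (by simp)) (Submodule.smul_mem _ _ (H.e_mem_sub (by simp)))) (hsub (-1)))
  have huu : u * u' = rO Q (e (0 : Fin 6)) * rO Q (e 1) := by
    refine ONB.IsDiag.unique H (H.isDiag_plane (by decide) (hsub 1) (hsub (-1)) h2 h2' ?_)
      (H.isDiag_pair (by decide))
    simp only [H.dot_sub_left, H.dot_sub_right, H.dot_smul_left, H.dot_smul_right, H.dot_self_unit (H.val _),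
      show H.dot (e (0 : Fin 6)) (e 1) = 0 from H.co_ne (by decide),
      show H.dot (e (1 : Fin 6)) (e 0) = 0 from H.co_ne (by decide)]
    ring
  rw [show g * (u * v) * g⁻¹ * (g * (u' * v) * g⁻¹) = g * (u * (v * u') * v) * g⁻¹ by group, hvu,
    ← mul_assoc u u' v, mul_assoc (u * u') v v, rO_mul_self, mul_one, huu] at hprod
  exact hX.weak hg (by decide) hprod

end Cfsg.Agent.H69.SLFour.SixFrame
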