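import Cfsg.Agent.H69.SLFour.Klein
import Cfsg.Agent.H73.Pauli.Common

/-!
The standard central product of the scalars of order four and an extraspecial group 2^(1+4), and its action on the
six lines.
-/

set_option autoImplicit false

namespace Cfsg.Agent.H69.SLFour.Pauli

open Matrix Cfsg.Agent.H27.KleinCorr Cfsg.Agent.Orthogonal Cfsg.Agent.H97.Frame
open Cfsg.Agent.H73.Pauli Cfsg.Agent.H69.SLFour.Klein Cfsg.Agent.H69.SLFour.SixFrame
open scoped MatrixGroups

variable {F : Type*} [Field F]

local notation "V6" => Fin 3 ⊕ Fin 3 → F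
local notation "M4" => Matrix (Fin 4) (Fin 4) F
local notation "GL4" => GL (Fin 4) F
local notation "SL4" => Cfsg.Geo.specialLinear (Fin 4) F

/-- The four standard generators. -/
noncomputable def gA1 : GL4 :=
  ⟨sA1, sA1, by ext a b; fin_cases a <;> fin_cases b <;> simp [sA1, Matrix.mul_apply, Fin.sum_univ_four],
    by ext a b; fin_cases a <;> fin_cases b <;> simp [sA1, Matrix.mul_apply, Fin.sum_univ_four]⟩

/-- The second. -/
noncomputable def gB1 : GL4 :=
  ⟨sB1, sB1, by ext a b; fin_cases a <;> fin_cases b <;> simp [sB1, Matrix.mul_apply, Fin.sum_univ_four],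
    by ext a b; fin_cases a <;> fin_cases b <;> simp [sB1, Matrix.mul_apply, Fin.sum_univ_four]⟩

/-- The third. -/
noncomputable def gA2 : GL4 :=
  ⟨sA2, sA2, by ext a b; fin_cases a <;> fin_cases b <;> simp [sA2, Matrix.mul_apply, Fin.sum_univ_four],
    by ext a b; fin_cases a <;> fin_cases b <;> simp [sA2, Matrix.mul_apply, Fin.sum_univ_four]⟩

/-- The fourth. -/
noncomputable def gB2 : GL4 :=
  ⟨sB2, sB2, by ext a b; fin_cases a <;> fin_cases b <;> simp [sB2, Matrix.mul_apply, Fin.sum_univ_four],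
    by ext a b; fin_cases a <;> fin_cases b <;> simp [sB2, Matrix.mul_apply, Fin.sum_univ_four]⟩

theorem val_gA1 : ((gA1 : GL4) : M4) = sA1 := rfl
theorem val_gB1 : ((gB1 : GL4) : M4) = sB1 := rfl
theorem val_gA2 : ((gA2 : GL4) : M4) = sA2 := rfl
theorem val_gB2 : ((gB2 : GL4) : M4) = sB2 := rfl

variable {i : F} (hi : i * i = -1)

/-- The scalar of order four. -/
noncomputable def gi : GL4 :=
  ⟨i • (1 : M4), (-i) • (1 : M4),
    by rw [Matrix.smul_mul, Matrix.mul_smul, smul_smul, one_mul, mul_neg, hi, neg_neg, one_smul],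
    by rw [Matrix.smul_mul, Matrix.mul_smul, smul_smul, one_mul, neg_mul, hi, neg_neg, one_smul]⟩

theorem val_gi : ((gi hi : GL4) : M4) = i • (1 : M4) := rfl

theorem gi_comm (g : GL4) : gi hi * g = g * gi hi := (IsScalar.commute ⟨i, rfl⟩ g).eq

theorem gi_sq : gi hi * gi hi = -1 := Units.ext (by
  rw [Units.val_mul, val_gi, Matrix.smul_mul, Matrix.mul_smul, smul_smul, one_mul, hi, Units.val_neg, Units.val_one,
    neg_smul, one_smul])

/-- The standard group. -/
noncomputable def stdR : Subgroup GL4 := Subgroup.closure {gi hi, gA1, gB1, gA2, gB2}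

theorem gi_mem : gi hi ∈ stdR hi := Subgroup.subset_closure (by simp)
theorem gA1_mem : gA1 ∈ stdR hi := Subgroup.subset_closure (by simp)
theorem gB1_mem : gB1 ∈ stdR hi := Subgroup.subset_closure (by simp)
theorem gA2_mem : gA2 ∈ stdR hi := Subgroup.subset_closure (by simp)
theorem gB2_mem : gB2 ∈ stdR hi := Subgroup.subset_closure (by simp)

theorem neg_one_mem : (-1 : GL4) ∈ stdR hi := by
  rw [← gi_sq hi]
  exact mul_mem (gi_mem hi) (gi_mem hi)

theorem gen_sl {x : GL4} (hx : x ∈ ({gi hi, gA1, gB1, gA2, gB2} : Set GL4)) : x ∈ SL4 := by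
  refine mem_of_det ?_
  simp only [Set.mem_insert_iff, Set.mem_singleton_iff] at hx
  rcases hx with rfl | rfl | rfl | rfl | rfl
  · rw [val_gi, Matrix.det_smul, Matrix.det_one, mul_one, Fintype.card_fin]
    linear_combination (i * i - 1) * hi
  all_goals
    simp [val_gA1, val_gB1, val_gA2, val_gB2, sA1, sB1, sA2, sB2, Matrix.det_succ_row_zero, Fin.sum_univ_succ,
      Fin.succAbove]

theorem stdR_le : stdR hi ≤ SL4 := by
  rw [stdR, Subgroup.closure_le]
  exact fun x hx => gen_sl hi hx

theorem klein_gi (v : V6) : klein ((gi hi : GL4) : M4) v = -v := by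
  rw [val_gi, klein_smul, hi, map_one, neg_one_smul]; rfl

theorem klein_a1 (k : Fin 6) :
    klein (sA1 : M4) (frame i k) = if k ∈ ({0, 1, 2, 4} : Finset (Fin 6)) then -frame i k else frame i k := by
  fin_cases k <;> funext j <;> rcases j with j | j <;> fin_cases j <;>
    simp [frame, klein_apply, H27.KleinCorr.co, alt, Matrix.vecMul, dotProduct, Matrix.transpose_apply, sA1, Matrix.mul_apply, Fin.sum_univ_four]

theorem klein_b1 (k : Fin 6) :
    klein (sB1 : M4) (frame i k) = if k ∈ ({0, 1, 2, 5} : Finset (Fin 6)) then -frame i k else frame i k := by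
  fin_cases k <;> funext j <;> rcases j with j | j <;> fin_cases j <;>
    simp [frame, klein_apply, H27.KleinCorr.co, alt, Matrix.vecMul, dotProduct, Matrix.transpose_apply, sB1, Matrix.mul_apply, Fin.sum_univ_four]

theorem klein_a2 (k : Fin 6) :
    klein (sA2 : M4) (frame i k) = if k ∈ ({1, 3, 4, 5} : Finset (Fin 6)) then -frame i k else frame i k := by
  fin_cases k <;> funext j <;> rcases j with j | j <;> fin_cases j <;>
    simp [frame, klein_apply, H27.KleinCorr.co, alt, Matrix.vecMul, dotProduct, Matrix.transpose_apply, sA2, Matrix.mul_apply, Fin.sum_univ_four]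

theorem klein_b2 (k : Fin 6) :
    klein (sB2 : M4) (frame i k) = if k ∈ ({2, 3, 4, 5} : Finset (Fin 6)) then -frame i k else frame i k := by
  fin_cases k <;> funext j <;> rcases j with j | j <;> fin_cases j <;>
    simp [frame, klein_apply, H27.KleinCorr.co, alt, Matrix.vecMul, dotProduct, Matrix.transpose_apply, sB2, Matrix.mul_apply, Fin.sum_univ_four]

end Cfsg.Agent.H69.SLFour.Pauli
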