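import Cfsg.Agent.H95.BlockMax

/-!
Stabilisers of two complementary planes in dimension four, fields with at least four elements.
-/

set_option autoImplicit false

open Cfsg

namespace Cfsg.Agent.H69.SLFour

open scoped MatrixGroups Matrix
open Matrix Module
open Cfsg.Agent.H95

variable {ι : Type} [Fintype ι] [DecidableEq ι] {F : Type*} [Field F]

set_option linter.unusedSectionVars false

attribute [-simp] Matrix.coe_units_inv

section

variable {t m : ℕ} {D : Fin t → Submodule F (ι → F)} (hD : Geo.IsMDecomposition m D)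
  {M : Subgroup (GL ι F)}
  (hSM : Geo.decompositionStabilizer D ⊓ Geo.specialLinear ι F ≤ M) (hm : 2 ≤ m)
include hD hSM hm

/-- One transvection with centre in a member, moving another member, suffices. -/
lemma specialLinear_le_of_cross {k j : Fin t} (hkj : k ≠ j) {b1 φ c : ι → F} (hb1 : b1 ∈ D k)
    (hb10 : b1 ≠ 0) (hcD : c ∈ D j) (hj : φ ⬝ᵥ c ≠ 0) (h2 : InTv M b1 φ) :
    Geo.specialLinear ι F ≤ M := by
  classical
  -- a transvection between the members `k` and `j`
  have hc0 : c ≠ 0 := fun e => hj (by rw [e, dotProduct_zero])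
  obtain ⟨v, hv, hvc⟩ := exists_mem_notMem_span hD hSM hm j c
  obtain ⟨ξ, hξ1, hξ2⟩ := exists_covec (Submodule.span F {c}) (v := v) (by
    rw [Submodule.mem_span_singleton]; rintro ⟨r, hr⟩; exact hvc r hr.symm)
  obtain ⟨h0, hT⟩ := inTv_block hD hSM hm hcD (hξ2 c (Submodule.mem_span_singleton_self c))
  have h3 := h2.conj hT
  rw [tv_mulVec, onBlock_other hD ξ hb1 hkj.symm, zero_smul, add_zero,
    vecMul_inv_eq (ψ := φ - (φ ⬝ᵥ c) • onBlock hD j ξ) fun y => by
      rw [sub_dotProduct, smul_dotProduct, tv_mulVec, dotProduct_add, dotProduct_add,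
        dotProduct_smul, dotProduct_smul, h0, smul_zero, add_zero, smul_eq_mul, smul_eq_mul]
      ring] at h3
  have h4 := h2.sub_right h3
  rw [sub_sub_cancel] at h4
  have h5 := inTv_smul_left h4 (by rw [onBlock_other hD ξ hb1 hkj.symm])
  have hall := all_cross hD hSM hm hkj (Submodule.smul_mem _ _ hb1) (smul_ne_zero hj hb10) h5
    ⟨v, hv, by rw [hξ1]; exact one_ne_zero⟩
  have hpair : ∀ k' j', k' ≠ j' → ∀ b' ∈ D k', ∀ χ', InTv M b' (onBlock hD j' χ') := by
    intro k' j' hne b' hb' χ'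
    obtain ⟨π, hπk, hπj⟩ : ∃ π : Equiv.Perm (Fin t), π k = k' ∧ π j = j' := by
      refine ⟨Equiv.swap (Equiv.swap k k' j) j' * Equiv.swap k k', ?_, ?_⟩
      · rw [Equiv.Perm.mul_apply, Equiv.swap_apply_left, Equiv.swap_apply_of_ne_of_ne ?_ hne]
        intro e
        exact hkj ((Equiv.swap k k').injective (by rw [Equiv.swap_apply_left]; exact e))
      · rw [Equiv.Perm.mul_apply, Equiv.swap_apply_left]
    obtain ⟨g1, hg1, hg1π⟩ := exists_block_perm hD π
    obtain ⟨g2, -, hg2π⟩ := exists_block_perm hD π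
    set b0 := ((g1⁻¹ : GL ι F) : Matrix ι ι F) *ᵥ b' with hb0'
    have hback : ∀ i', ∀ y ∈ D (π i'), ((g1⁻¹ : GL ι F) : Matrix ι ι F) *ᵥ y ∈ D i' := by
      intro i' y hy
      refine mem_of_blockComp hD fun r hr => ?_
      have e : blockComp hD y (π r) =
          (g1 : Matrix ι ι F) *ᵥ blockComp hD (((g1⁻¹ : GL ι F) : Matrix ι ι F) *ᵥ y) r := by
        conv_lhs => rw [← mulVec_inv_mulVec g1 y,
          ← sum_blockComp hD (((g1⁻¹ : GL ι F) : Matrix ι ι F) *ᵥ y), mulVec_sum]
        have hadd : ∀ (S : Finset (Fin t)) (f : Fin t → ι → F),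
            blockComp hD (∑ s ∈ S, f s) (π r) = ∑ s ∈ S, blockComp hD (f s) (π r) := by
          intro S f
          simp only [blockComp, crd_sum, Finset.sum_smul]
          exact Finset.sum_comm
        rw [hadd, Finset.sum_eq_single r]
        · exact blockComp_self hD (hg1π r _ (blockComp_mem hD _ r))
        · intro s _ hs
          exact blockComp_of_ne hD (hg1π s _ (blockComp_mem hD _ s)) (π.injective.ne hs.symm)
        · simp
      rw [blockComp_of_ne hD hy (π.injective.ne hr)] at e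
      rw [← inv_mulVec_mulVec g1 (blockComp hD _ r), ← e, mulVec_zero]
    have h6 := (hall b0 (hback k b' (hπk.symm ▸ hb'))
      (χ' ᵥ* (g1 : Matrix ι ι F))).conj (hSM hg1)
    rw [hb0', mulVec_inv_mulVec] at h6
    convert h6 using 1
    refine (vecMul_inv_eq fun y => ?_).symm
    conv_lhs => rw [← sum_blockComp hD y, mulVec_sum, dotProduct_sum]
    rw [Finset.sum_eq_single j]
    · rw [onBlock_self hD χ' (hπj ▸ hg1π j _ (blockComp_mem hD y j)), onBlock_dot,
        dotProduct_mulVec]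
    · intro s _ hs
      exact onBlock_other hD χ' (hg1π s _ (blockComp_mem hD y s))
        (by rw [← hπj]; exact π.injective.ne hs.symm)
    · simp
  refine specialLinear_le_of_fan ?_
  rw [eq_top_iff, ← hD.iSup_eq_top, iSup_le_iff]
  intro i' y hy φ' hφ'
  have e : φ' = ∑ s, onBlock hD s φ' := by
    refine dotProduct_eq _ _ fun z => ?_
    rw [sum_dotProduct]
    simp only [onBlock_dot]
    rw [← dotProduct_sum, sum_blockComp]
  rw [e]
  induction (Finset.univ : Finset (Fin t)) using Finset.induction_on with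
  | empty => simpa using inTv_zero_right M _
  | insert s S hs ih =>
    rw [Finset.sum_insert hs]
    refine InTv.add_right ?_ ih
    rcases eq_or_ne s i' with rfl | hne
    · exact inTv_block hD hSM hm hy hφ'
    · exact hpair i' s hne.symm y hy φ'

/-- A transvection with split centre whose covector vanishes on a member. -/
lemma specialLinear_le_of_half {k l : Fin t} (hkl : k ≠ l) {a φ c : ι → F} (h : InTv M a φ)
    (hl : blockComp hD a l ≠ 0) (hφl : ∀ y ∈ D l, φ ⬝ᵥ y = 0) (hc : c ∈ D k) (hφc : φ ⬝ᵥ c ≠ 0) :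
    Geo.specialLinear ι F ≤ M := by
  obtain ⟨b, hb, hbne⟩ := exists_mem_notMem_span hD hSM hm l (blockComp hD a l)
  have hb0 : b ≠ 0 := by simpa using hbne 0
  have hnot : blockComp hD a l ∉ Submodule.span F {b} := by
    rw [Submodule.mem_span_singleton]
    rintro ⟨s, hs⟩
    rcases eq_or_ne s 0 with rfl | hs0
    · exact hl (by rw [← hs, zero_smul])
    · exact hbne s⁻¹ (by rw [← hs, smul_smul, inv_mul_cancel₀ hs0, one_smul])
  obtain ⟨χ, hχ1, hχ2⟩ := exists_covec (Submodule.span F {b}) hnot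
  obtain ⟨h0, hT⟩ := inTv_block hD hSM hm hb (hχ2 b (Submodule.mem_span_singleton_self b))
  have h1 := h.conj hT
  rw [tv_mulVec, onBlock_dot, hχ1, one_smul, vecMul_inv_eq (ψ := φ) fun x => by
    rw [tv_mulVec, dotProduct_add, dotProduct_smul, hφl b hb, smul_zero, add_zero]] at h1
  have h2 := h1.sub_left h
  rw [add_sub_cancel_left] at h2
  exact specialLinear_le_of_cross hD hSM hm hkl.symm hb hb0 hc hφc h2

end

/-- Stabilisers of two planes. -/
theorem specialLinear_le_of_planes [Fintype F] {D : Fin 2 → Submodule F (ι → F)}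
    (hD : Geo.IsMDecomposition 2 D) (hq : 4 ≤ Fintype.card F) {M : Subgroup (GL ι F)}
    (hSM : Geo.decompositionStabilizer D ⊓ Geo.specialLinear ι F ≤ M)
    {g : GL ι F} (hg : g ∈ M) (hgD : g ∉ Geo.decompositionStabilizer D) :
    Geo.specialLinear ι F ≤ M := by
  classical
  have hm : (2 : ℕ) ≤ 2 := le_rfl
  obtain ⟨i, x, hx, k, l, hkl, hgk, hgl⟩ := exists_two_comp hD hgD
  obtain ⟨w, hw, hwx⟩ := exists_mem_notMem_span hD hSM hm i x
  obtain ⟨χ, hχ1, hχ2⟩ := exists_covec (Submodule.span F {x}) (v := w) (by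
    rw [Submodule.mem_span_singleton]; rintro ⟨c, hc⟩; exact hwx c hc.symm)
  have h1 := (inTv_block hD hSM hm hx (hχ2 x (Submodule.mem_span_singleton_self x))).conj hg
  set a := (g : Matrix ι ι F) *ᵥ x with ha
  set φ := onBlock hD i χ ᵥ* ((g⁻¹ : GL ι F) : Matrix ι ι F) with hφ
  set ak := blockComp hD a k with hak
  set al := blockComp hD a l with hal
  have hsum : ∀ y, y = blockComp hD y k + blockComp hD y l := by
    intro y
    conv_lhs => rw [← sum_blockComp hD y]
    refine Finset.sum_eq_add k l hkl (fun s _ hs => ?_) (by simp) (by simp)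
    have := hs.1; have := hs.2; omega
  by_cases hk0 : ∀ y ∈ D k, φ ⬝ᵥ y = 0
  · obtain ⟨c, hc, hφc⟩ : ∃ c ∈ D l, φ ⬝ᵥ c ≠ 0 := by
      by_contra hcon
      push Not at hcon
      have : φ ⬝ᵥ ((g : Matrix ι ι F) *ᵥ w) = 1 := by
        rw [hφ, ← dotProduct_mulVec, inv_mulVec_mulVec, onBlock_self hD χ hw, hχ1]
      rw [hsum ((g : Matrix ι ι F) *ᵥ w), dotProduct_add, hk0 _ (blockComp_mem hD _ _),
        hcon _ (blockComp_mem hD _ _), add_zero] at this
      exact zero_ne_one this
    exact specialLinear_le_of_half hD hSM hm hkl.symm h1 hgk hk0 hc hφc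
  push Not at hk0
  obtain ⟨ck, hck, hφck⟩ := hk0
  by_cases hl0 : ∀ y ∈ D l, φ ⬝ᵥ y = 0
  · exact specialLinear_le_of_half hD hSM hm hkl h1 hgl hl0 hck hφck
  push Not at hl0
  obtain ⟨cl, hcl, hφcl⟩ := hl0
  have hakD : ak ∈ D k := blockComp_mem hD a k
  have halD : al ∈ D l := blockComp_mem hD a l
  by_cases hfk : φ ⬝ᵥ ak = 0
  swap
  · -- the centre moves into the member `k`
    obtain ⟨b, hb, hb0, hφb⟩ := exists_ker_mem hD hSM hm k φ
    have hnot : ak ∉ Submodule.span F {b} := by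
      rw [Submodule.mem_span_singleton]
      rintro ⟨s, hs⟩
      exact hfk (by rw [← hs, dotProduct_smul, hφb, smul_zero])
    obtain ⟨η, hη1, hη2⟩ := exists_covec (Submodule.span F {b}) hnot
    obtain ⟨h0, hT⟩ := inTv_block hD hSM hm hb (hη2 b (Submodule.mem_span_singleton_self b))
    have h2 := h1.conj hT
    rw [tv_mulVec, onBlock_dot, ← hak, hη1, one_smul, vecMul_inv_eq (ψ := φ) fun y => by
      rw [tv_mulVec, dotProduct_add, dotProduct_smul, hφb, smul_zero, add_zero]] at h2
    have h3 := h2.sub_left h1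
    rw [add_sub_cancel_left] at h3
    exact specialLinear_le_of_cross hD hSM hm hkl hb hb0 hcl hφcl h3
  have hfl : φ ⬝ᵥ al = 0 := by
    have h0 := h1.1
    rwa [hsum a, dotProduct_add, ← hak, ← hal, hfk, zero_add] at h0
  -- normalised vectors where the covector is one
  obtain ⟨wk, hwk, hφwk⟩ : ∃ v ∈ D k, φ ⬝ᵥ v = 1 :=
    ⟨(φ ⬝ᵥ ck)⁻¹ • ck, Submodule.smul_mem _ _ hck,
      by rw [dotProduct_smul, smul_eq_mul, inv_mul_cancel₀ hφck]⟩
  obtain ⟨wl, hwl, hφwl⟩ : ∃ v ∈ D l, φ ⬝ᵥ v = 1 :=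
    ⟨(φ ⬝ᵥ cl)⁻¹ • cl, Submodule.smul_mem _ _ hcl,
      by rw [dotProduct_smul, smul_eq_mul, inv_mul_cancel₀ hφcl]⟩
  set φk := onBlock hD k φ with hφk
  set φl := onBlock hD l φ with hφl
  have hsplit : ∀ y, φ ⬝ᵥ y = φk ⬝ᵥ y + φl ⬝ᵥ y := fun y => by
    rw [hφk, hφl, onBlock_dot, onBlock_dot, ← dotProduct_add, ← hsum y]
  have k1 : φk ⬝ᵥ wk = 1 := by rw [hφk, onBlock_self hD φ hwk, hφwk]
  have l1 : φl ⬝ᵥ wl = 1 := by rw [hφl, onBlock_self hD φ hwl, hφwl]
  have kl : φk ⬝ᵥ wl = 0 := onBlock_other hD φ hwl hkl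
  have lk : φl ⬝ᵥ wk = 0 := onBlock_other hD φ hwk hkl.symm
  have ka : φk ⬝ᵥ a = 0 := by rw [hφk, onBlock_dot, ← hak, hfk]
  have la : φl ⬝ᵥ a = 0 := by rw [hφl, onBlock_dot, ← hal, hfl]
  let W : F → F → Prop := fun p r => InTv M a (p • φk + r • φl)
  have hW1 : W 1 1 := by
    show InTv M a _
    convert h1 using 1
    refine dotProduct_eq _ _ fun y => ?_
    rw [one_smul, one_smul, add_dotProduct, hsplit]
  have hWsub : ∀ p r p' r', W p r → W p' r' → W (p - p') (r - r') := by
    intro p r p' r' h h'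
    have := h.sub_right h'
    show InTv M a _
    convert this using 1
    rw [sub_smul, sub_smul]; abel
  have hWs : ∀ (s : Fˣ) p r, W p r → W (p * s) (r * (s : F)⁻¹) := by
    intro s p r h
    have hU : dl wk φk s⁻¹ k1 * dl wl φl s l1 ∈ M :=
      hSM ⟨Subgroup.mul_mem _ (dl_mem_decompositionStabilizer hD s⁻¹ hwk k1)
        (dl_mem_decompositionStabilizer hD s hwl l1),
        mem_specialLinear_iff.2 (by rw [Units.val_mul, det_mul, dl_det, dl_det, Units.inv_mul])⟩
    have h2 := InTv.conj h hU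
    rw [mul_mulVec, dl_mulVec, dl_mulVec, la, mul_zero, zero_smul, add_zero, ka, mul_zero, zero_smul,
      add_zero, vecMul_inv_eq (ψ := (p * s) • φk + (r * (s : F)⁻¹) • φl) fun y => by
        simp only [mul_mulVec, dl_mulVec, add_dotProduct, smul_dotProduct, dotProduct_add,
          dotProduct_smul, k1, l1, kl, lk, smul_eq_mul, Units.val_inv_eq_inv_val]
        field_simp
        ring] at h2
    exact h2
  obtain ⟨ηk, hηk1, hηk2⟩ := exists_covec (Submodule.span F {wk}) (v := ak) (by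
    rw [Submodule.mem_span_singleton]
    rintro ⟨s, hs⟩
    rw [← hs, dotProduct_smul, hφwk, smul_eq_mul, mul_one] at hfk
    exact hgk (by rw [← hs, hfk, zero_smul]))
  obtain ⟨ηl, hηl1, hηl2⟩ := exists_covec (Submodule.span F {wl}) (v := al) (by
    rw [Submodule.mem_span_singleton]
    rintro ⟨s, hs⟩
    rw [← hs, dotProduct_smul, hφwl, smul_eq_mul, mul_one] at hfl
    exact hgl (by rw [← hs, hfl, zero_smul]))
  have e1 : onBlock hD k ηk ⬝ᵥ ak = 1 := by rw [onBlock_self hD ηk hakD, hηk1]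
  have e2 : onBlock hD l ηl ⬝ᵥ al = 1 := by rw [onBlock_self hD ηl halD, hηl1]
  have e3 : onBlock hD k ηk ⬝ᵥ wk = 0 := by
    rw [onBlock_self hD ηk hwk, hηk2 _ (Submodule.mem_span_singleton_self _)]
  have e4 : onBlock hD l ηl ⬝ᵥ wl = 0 := by
    rw [onBlock_self hD ηl hwl, hηl2 _ (Submodule.mem_span_singleton_self _)]
  have e5 : φk ⬝ᵥ ak = 0 := by rw [hφk, onBlock_self hD φ hakD, hfk]
  have e6 : φl ⬝ᵥ al = 0 := by rw [hφl, onBlock_self hD φ halD, hfl]
  have e7 : φk ⬝ᵥ al = 0 := onBlock_other hD φ halD hkl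
  have e8 : φl ⬝ᵥ ak = 0 := onBlock_other hD φ hakD hkl.symm
  have hWc : ∀ (s : Fˣ) p r, W p r → W (p * (s : F) ^ 2) (r * (s : F) ^ 2) := by
    intro s p r h
    have hU : dl ak (onBlock hD k ηk) s e1 * dl al (onBlock hD l ηl) s e2 *
        (dl wk φk s⁻¹ k1 * dl wl φl s⁻¹ l1) ∈ M := by
      refine hSM ⟨Subgroup.mul_mem _ (Subgroup.mul_mem _
        (dl_mem_decompositionStabilizer hD s hakD e1) (dl_mem_decompositionStabilizer hD s halD e2))
        (Subgroup.mul_mem _ (dl_mem_decompositionStabilizer hD s⁻¹ hwk k1)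
          (dl_mem_decompositionStabilizer hD s⁻¹ hwl l1)), mem_specialLinear_iff.2 ?_⟩
      simp only [Units.val_mul, det_mul, dl_det, Units.val_inv_eq_inv_val]
      have := s.ne_zero
      field_simp
    have h2 := InTv.conj h hU
    have hUa : ((dl ak (onBlock hD k ηk) s e1 * dl al (onBlock hD l ηl) s e2 *
        (dl wk φk s⁻¹ k1 * dl wl φl s⁻¹ l1) : GL ι F) : Matrix ι ι F) *ᵥ a = (s : F) • a := by
      simp only [mul_mulVec, dl_mulVec, ka, la, dotProduct_add, dotProduct_smul, mul_zero,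
        zero_smul, add_zero, onBlock_dot, blockComp_of_ne hD halD hkl, dotProduct_zero, smul_zero,
        ← hak, ← hal, hηk1, hηl1]
      conv_rhs => rw [hsum a, ← hak, ← hal]
      conv_lhs => rw [hsum a, ← hak, ← hal]
      rw [mul_one, smul_add, sub_smul, sub_smul, one_smul, one_smul]
      abel
    rw [hUa, vecMul_inv_eq (ψ := (s : F) • (p • φk + r • φl)) fun y => by
      simp only [mul_mulVec, dl_mulVec, add_dotProduct, smul_dotProduct, dotProduct_add,
        dotProduct_smul, k1, l1, kl, lk, e5, e6, e7, e8, smul_eq_mul, Units.val_inv_eq_inv_val]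
      field_simp
      ring] at h2
    have h3 := inTv_smul_right h2 (by
      rw [smul_dotProduct, add_dotProduct, smul_dotProduct, smul_dotProduct, ka, la, smul_zero,
        smul_zero, add_zero, smul_zero])
    show InTv M a _
    convert h3 using 1
    ext i
    simp only [Pi.add_apply, Pi.smul_apply, smul_eq_mul]
    ring
  have hW0 : W 0 0 := by
    show InTv M a _
    rw [zero_smul, zero_smul, add_zero]
    exact inTv_zero_right M a
  have hsq : ∀ v : F, W (v ^ 2) (v ^ 2) := by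
    intro v
    rcases eq_or_ne v 0 with rfl | hv
    · simpa using hW0
    · simpa using hWc (Units.mk0 v hv) 1 1 hW1
  have hscal : ∀ v : F, W v v := by
    intro v
    by_cases hc2 : ringChar F = 2
    · obtain ⟨r, hr⟩ := FiniteField.isSquare_of_char_two hc2 v
      rw [hr, ← sq]; exact hsq r
    · have h2 : (2 : F) ≠ 0 := Ring.two_ne_zero hc2
      have := hWsub _ _ _ _ (hsq ((v + 1) / 2)) (hsq ((v - 1) / 2))
      convert this using 1 <;> field_simp <;> ring
  obtain ⟨s, hs⟩ : ∃ s : Fˣ, (s : F) ^ 2 ≠ 1 := by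
    by_contra hcon
    push Not at hcon
    let P : Polynomial F := Polynomial.X ^ 2 - Polynomial.C 1
    have hP : P ≠ 0 := (Polynomial.monic_X_pow_sub_C (1 : F) (n := 2) (by norm_num)).ne_zero
    refine hP (Polynomial.eq_zero_of_natDegree_lt_card_of_eval_eq_zero P
      (f := fun ν : Fˣ => (ν : F)) (fun _ _ h => Units.ext h) (fun ν => ?_) ?_)
    · simp only [P, Polynomial.eval_sub, Polynomial.eval_pow, Polynomial.eval_X, Polynomial.eval_C,
        hcon ν, sub_self]
    · rw [Fintype.card_units]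
      simp only [P, Polynomial.natDegree_X_pow_sub_C]
      omega
  have hz := hWsub _ _ _ _ (hWs s 1 1 hW1) (hscal ((1 : F) * (s : F)⁻¹))
  rw [sub_self] at hz
  have h4 : InTv M a (((1 : F) * s - 1 * (s : F)⁻¹) • φk) := by
    have h5 : InTv M a _ := hz
    rwa [zero_smul, add_zero] at h5
  refine specialLinear_le_of_half hD hSM hm hkl h4 hgl
    (fun y hy => by rw [smul_dotProduct, hφk, onBlock_other hD φ hy hkl, smul_zero]) hwk ?_
  rw [smul_dotProduct, k1, smul_eq_mul, mul_one, one_mul, one_mul, sub_ne_zero]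
  intro e
  apply hs
  rw [sq]
  nth_rewrite 2 [e]
  exact mul_inv_cancel₀ s.ne_zero

end Cfsg.Agent.H69.SLFour
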