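import Cfsg.Agent.H57.SLSmall.Quad
import Cfsg.Agent.S5644

/-!
The similarity group of a quadratic form in dimension four, odd characteristic.
-/

set_option autoImplicit false

open Cfsg

namespace Cfsg.Agent.H69.SLFour

open scoped MatrixGroups Matrix
open Matrix QuadraticMap
open Cfsg.Agent.H95 hiding exists_iso_perp exists_iso_nonorth

variable {ι : Type} [Fintype ι] [DecidableEq ι] {F : Type*} [Field F] {Q : (ι → F) → F}
  (hQ : Geo.IsNondegenerateQuadraticForm Q)
include hQ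

set_option linter.unusedSectionVars false

attribute [-simp] Matrix.coe_units_inv

/-- An isotropic vector orthogonal to a given one. -/
lemma exists_iso_perp [Fintype F] (h2 : (2 : F) ≠ 0) (hn : 4 ≤ Fintype.card ι) {v : ι → F}
    (hv0 : v = 0 ∨ Q v ≠ 0) : ∃ e, e ≠ 0 ∧ Q e = 0 ∧ polar Q e v = 0 := by
  obtain ⟨x, hx, hx'⟩ := exists_aniso_ker hQ h2 ![dv (polar Q) v] (by omega)
  obtain ⟨y, hy, hy'⟩ := H57.SLSmall.exists_aniso_ker_half hQ h2 ![dv (polar Q) v, dv (polar Q) x]
    (by omega) 1 (v := x) rfl hx'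
  have a1 : polar Q x v = 0 := by rw [← qv_dot hQ]; exact hx 0
  have a2 : polar Q y v = 0 := by rw [← qv_dot hQ]; exact hy 0
  have b1 : polar Q y x = 0 := by rw [← qv_dot hQ]; exact hy 1
  have nx : polar Q x x ≠ 0 := by rw [p_self hQ]; exact mul_ne_zero h2 hx'
  have ny : polar Q y y ≠ 0 := by rw [p_self hQ]; exact mul_ne_zero h2 hy'
  obtain ⟨z, hz, hz'⟩ := H57.SLSmall.exists_aniso_proj hQ h2
    ![dv (polar Q) v, dv (polar Q) x, dv (polar Q) y] (by omega) fun z => by
    refine ⟨z - (polar Q z v / polar Q v v) • v - (polar Q z x / polar Q x x) • x -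
      (polar Q z y / polar Q y y) • y, fun j => ?_, fun w hw => ?_⟩
    · fin_cases j
      · show dv (polar Q) v ⬝ᵥ _ = 0
        rw [qv_dot hQ]
        rcases hv0 with rfl | hv
        · exact p_zero_right hQ _
        · simp only [p_sub_left hQ, p_smul_left hQ, a1, a2, mul_zero, sub_zero]
          rw [div_mul_cancel₀ _ (by rw [p_self hQ]; exact mul_ne_zero h2 hv), sub_self]
      · show dv (polar Q) x ⬝ᵥ _ = 0
        rw [qv_dot hQ]
        simp only [p_sub_left hQ, p_smul_left hQ, b1, p_comm hQ v x, a1, mul_zero, sub_zero]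
        rw [div_mul_cancel₀ _ nx, sub_self]
      · show dv (polar Q) y ⬝ᵥ _ = 0
        rw [qv_dot hQ]
        simp only [p_sub_left hQ, p_smul_left hQ, p_comm hQ v y, p_comm hQ x y, b1, a2, mul_zero,
          sub_zero]
        rw [div_mul_cancel₀ _ ny, sub_self]
    · have w1 : polar Q v w = 0 := by rw [p_comm hQ, ← qv_dot hQ]; exact hw 0
      have w2 : polar Q x w = 0 := by rw [p_comm hQ, ← qv_dot hQ]; exact hw 1
      have w3 : polar Q y w = 0 := by rw [p_comm hQ, ← qv_dot hQ]; exact hw 2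
      simp only [p_sub_left hQ, p_smul_left hQ, w1, w2, w3, mul_zero, sub_zero]
  have a3 : polar Q z v = 0 := by rw [← qv_dot hQ]; exact hz 0
  have b2 : polar Q z x = 0 := by rw [← qv_dot hQ]; exact hz 1
  have b3 : polar Q z y = 0 := by rw [← qv_dot hQ]; exact hz 2
  let W : Submodule F (ι → F) :=
    { carrier := {w | polar Q w v = 0}
      add_mem' := fun {a b} (ha : polar Q a v = 0) (hb : polar Q b v = 0) =>
        show polar Q (a + b) v = 0 by rw [p_add_left hQ, ha, hb, add_zero]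
      zero_mem' := p_zero_left hQ v
      smul_mem' := fun c a (ha : polar Q a v = 0) =>
        show polar Q (c • a) v = 0 by rw [p_smul_left hQ, ha, mul_zero] }
  obtain ⟨e, he, he0, he'⟩ := exists_iso_of_three hQ h2 (W := W) a1 a2 a3 hx' hy' hz'
    (by rw [p_comm hQ, b1]) (by rw [p_comm hQ, b2]) (by rw [p_comm hQ, b3])
  exact ⟨e, he0, he', he⟩

/-- An isotropic vector orthogonal to `v` and non-orthogonal to `u`. -/
lemma exists_iso_nonorth [Fintype F] (h2 : (2 : F) ≠ 0) (hn : 4 ≤ Fintype.card ι) {v u : ι → F}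
    (hv0 : v = 0 ∨ Q v ≠ 0) (h : ∃ y, polar Q y v = 0 ∧ polar Q u y ≠ 0) :
    ∃ e, Q e = 0 ∧ polar Q e v = 0 ∧ polar Q u e ≠ 0 := by
  obtain ⟨e₀, he₀0, he₀, he₀v⟩ := exists_iso_perp hQ h2 hn hv0
  by_contra hcon
  push Not at hcon
  obtain ⟨y, hyv, huy⟩ := h
  have hu0 : polar Q u e₀ = 0 := hcon e₀ he₀ he₀v
  have key : ∀ y, polar Q y v = 0 → polar Q e₀ y ≠ 0 → polar Q u y = 0 := by
    intro y hy hne
    have h1 := hcon (y - (Q y / polar Q e₀ y) • e₀)
      (by rw [q_sub hQ, q_smul hQ, he₀, p_smul_right hQ, p_comm hQ y e₀, div_mul_cancel₀ _ hne]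
          ring)
      (by rw [p_sub_left hQ, p_smul_left hQ, hy, he₀v, mul_zero, sub_zero])
    rwa [p_sub_right hQ, p_smul_right hQ, hu0, mul_zero, sub_zero] at h1
  rcases eq_or_ne (polar Q e₀ y) 0 with h0 | h0
  · obtain ⟨y1, hy1, hy1'⟩ : ∃ y1, polar Q y1 v = 0 ∧ polar Q e₀ y1 ≠ 0 := by
      by_contra hc
      push Not at hc
      obtain ⟨⟨w, hw⟩, -⟩ := hQ.nondegenerate e₀ he₀0
      rcases hv0 with hv | hv
      · exact hw (by rw [p_comm hQ]; exact hc w (by rw [hv, p_zero_right hQ]))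
      · have h3 := hc (w - (polar Q w v / polar Q v v) • v)
          (by rw [p_sub_left hQ, p_smul_left hQ, div_mul_cancel₀ _
            (by rw [p_self hQ]; exact mul_ne_zero h2 hv), sub_self])
        rw [p_sub_right hQ, p_smul_right hQ, he₀v, mul_zero, sub_zero, p_comm hQ] at h3
        exact hw h3
    have h3 := key (y + y1) (by rw [p_add_left hQ, hyv, hy1, add_zero])
      (by rw [p_add_right hQ, h0, zero_add]; exact hy1')
    rw [p_add_right hQ, key y1 hy1 hy1', add_zero] at h3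
    exact huy h3
  · exact huy (key y hyv h0)

/-- A form vanishing on all isotropic vectors of `Q` is a multiple of `Q`. -/
lemma eq_smul_of_zeros [Fintype F] (h2 : (2 : F) ≠ 0) (hn : 4 ≤ Fintype.card ι) {Q' : (ι → F) → F}
    (hQ' : Geo.IsNondegenerateQuadraticForm Q') (h : ∀ e, Q e = 0 → Q' e = 0) :
    ∃ l : F, ∀ v, Q' v = l * Q v := by
  obtain ⟨e, he0, he, -⟩ := exists_iso_perp hQ h2 hn (v := (0 : ι → F)) (Or.inl rfl)
  obtain ⟨-, y₀, hy₀⟩ := hQ.nondegenerate e he0
  obtain ⟨f₁, hf₁, -, hef₁⟩ := exists_iso_nonorth hQ h2 hn (v := (0 : ι → F)) (u := e) (Or.inl rfl)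
    ⟨y₀, p_zero_right hQ _, hy₀⟩
  set f := (polar Q e f₁)⁻¹ • f₁ with hfdef
  have hf : Q f = 0 := by rw [hfdef, q_smul hQ, hf₁, mul_zero]
  have hef : polar Q e f = 1 := by rw [hfdef, p_smul_right hQ, inv_mul_cancel₀ hef₁]
  have hfe : polar Q f e = 1 := by rw [p_comm hQ]; exact hef
  set l := polar Q' e f with hl
  have hrel : ∀ x, polar Q e x = 0 → polar Q f x = 0 →
      polar Q' e x = Q x * polar Q' x f ∧ Q' x = l * Q x := by
    intro x hex hfx
    have hs : ∀ s : F, s ^ 2 = 1 →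
        Q' x + s * (polar Q' e x - Q x * polar Q' x f) - Q x * l = 0 := by
      intro s hs
      have hz : Q (e + s • x - Q x • f) = 0 := by
        rw [q_sub hQ, q_add hQ, q_smul hQ, q_smul hQ, p_smul_right hQ, p_smul_right hQ,
          p_add_left hQ, p_smul_left hQ, he, hf, hex, hef, p_comm hQ x f, hfx, hs]
        ring
      have h1 := h _ hz
      rw [q_sub hQ', q_add hQ', q_smul hQ', q_smul hQ', p_smul_right hQ', p_smul_right hQ',
        p_add_left hQ', p_smul_left hQ', h e he, h f hf, hs, ← hl] at h1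
      linear_combination h1
    have k1 := hs 1 (one_pow 2)
    have k2 := hs (-1) (by ring)
    constructor
    · have : (2 : F) * (polar Q' e x - Q x * polar Q' x f) = 0 := by linear_combination k1 - k2
      exact sub_eq_zero.1 ((mul_eq_zero.1 this).resolve_left h2)
    · have : (2 : F) * (Q' x - l * Q x) = 0 := by linear_combination k1 + k2
      exact sub_eq_zero.1 ((mul_eq_zero.1 this).resolve_left h2)
  have hR : ∀ x y, polar Q e x = 0 → polar Q f x = 0 → polar Q e y = 0 → polar Q f y = 0 →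
      Q y * polar Q' x f + polar Q x y * polar Q' y f = 0 := by
    intro x y ex fx ey fy
    have k1 := (hrel (x + y) (by rw [p_add_right hQ, ex, ey, add_zero])
      (by rw [p_add_right hQ, fx, fy, add_zero])).1
    have k2 := (hrel (x - y) (by rw [p_sub_right hQ, ex, ey, sub_zero])
      (by rw [p_sub_right hQ, fx, fy, sub_zero])).1
    have k3 := (hrel x ex fx).1
    rw [p_add_right hQ', p_add_left hQ', q_add hQ] at k1
    rw [p_sub_right hQ', p_sub_left hQ', q_sub hQ] at k2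
    have : (2 : F) * (Q y * polar Q' x f + polar Q x y * polar Q' y f) = 0 := by
      linear_combination 2 * k3 - k1 - k2
    exact (mul_eq_zero.1 this).resolve_left h2
  have hR0 : ∀ x, polar Q e x = 0 → polar Q f x = 0 → Q x ≠ 0 → polar Q' x f = 0 := by
    intro x ex fx hx
    have nx : polar Q x x ≠ 0 := by rw [p_self hQ]; exact mul_ne_zero h2 hx
    have xe : polar Q x e = 0 := by rw [p_comm hQ]; exact ex
    have xf : polar Q x f = 0 := by rw [p_comm hQ]; exact fx
    obtain ⟨y, hy, hy'⟩ := H57.SLSmall.exists_aniso_proj hQ h2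
      ![dv (polar Q) e, dv (polar Q) f, dv (polar Q) x] (by omega) fun z => by
      refine ⟨z - polar Q z f • e - polar Q z e • f - (polar Q z x / polar Q x x) • x,
        fun j => ?_, fun w hw => ?_⟩
      · fin_cases j
        · show dv (polar Q) e ⬝ᵥ _ = 0
          rw [qv_dot hQ]
          simp only [p_sub_left hQ, p_smul_left hQ, p_self hQ e, he, hfe, xe, mul_zero, sub_zero,
            mul_one, sub_self]
        · show dv (polar Q) f ⬝ᵥ _ = 0
          rw [qv_dot hQ]
          simp only [p_sub_left hQ, p_smul_left hQ, p_self hQ f, hf, hef, xf, mul_zero, sub_zero,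
            mul_one, sub_self]
        · show dv (polar Q) x ⬝ᵥ _ = 0
          rw [qv_dot hQ]
          simp only [p_sub_left hQ, p_smul_left hQ, ex, fx, mul_zero, sub_zero]
          rw [div_mul_cancel₀ _ nx, sub_self]
      · have w1 : polar Q e w = 0 := by rw [p_comm hQ, ← qv_dot hQ]; exact hw 0
        have w2 : polar Q f w = 0 := by rw [p_comm hQ, ← qv_dot hQ]; exact hw 1
        have w3 : polar Q x w = 0 := by rw [p_comm hQ, ← qv_dot hQ]; exact hw 2
        simp only [p_sub_left hQ, p_smul_left hQ, w1, w2, w3, mul_zero, sub_zero]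
    have y1 : polar Q e y = 0 := by rw [p_comm hQ, ← qv_dot hQ]; exact hy 0
    have y2 : polar Q f y = 0 := by rw [p_comm hQ, ← qv_dot hQ]; exact hy 1
    have y3 : polar Q x y = 0 := by rw [p_comm hQ, ← qv_dot hQ]; exact hy 2
    have := hR x y ex fx y1 y2
    rw [y3, zero_mul, add_zero] at this
    exact (mul_eq_zero.1 this).resolve_left hy'
  obtain ⟨y₁, hy₁, hy₁'⟩ := H57.SLSmall.exists_aniso_proj hQ h2
    ![dv (polar Q) e, dv (polar Q) f] (by omega) fun z => by
    refine ⟨z - polar Q z f • e - polar Q z e • f, fun j => ?_, fun w hw => ?_⟩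
    · fin_cases j
      · show dv (polar Q) e ⬝ᵥ _ = 0
        rw [qv_dot hQ]
        simp only [p_sub_left hQ, p_smul_left hQ, p_self hQ e, he, hfe, mul_zero, sub_zero,
          mul_one, sub_self]
      · show dv (polar Q) f ⬝ᵥ _ = 0
        rw [qv_dot hQ]
        simp only [p_sub_left hQ, p_smul_left hQ, p_self hQ f, hf, hef, mul_zero, sub_zero,
          mul_one, sub_self]
    · have w1 : polar Q e w = 0 := by rw [p_comm hQ, ← qv_dot hQ]; exact hw 0
      have w2 : polar Q f w = 0 := by rw [p_comm hQ, ← qv_dot hQ]; exact hw 1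
      simp only [p_sub_left hQ, p_smul_left hQ, w1, w2, mul_zero, sub_zero]
  have e1 : polar Q e y₁ = 0 := by rw [p_comm hQ, ← qv_dot hQ]; exact hy₁ 0
  have f1 : polar Q f y₁ = 0 := by rw [p_comm hQ, ← qv_dot hQ]; exact hy₁ 1
  have hRall : ∀ x, polar Q e x = 0 → polar Q f x = 0 → polar Q' x f = 0 := by
    intro x ex fx
    have := hR x y₁ ex fx e1 f1
    rw [hR0 y₁ e1 f1 hy₁', mul_zero, add_zero] at this
    exact (mul_eq_zero.1 this).resolve_left hy₁'
  refine ⟨l, fun v => ?_⟩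
  set w := v - polar Q v f • e - polar Q v e • f with hw
  have hew : polar Q e w = 0 := by
    rw [p_comm hQ, hw]
    simp only [p_sub_left hQ, p_smul_left hQ, p_self hQ e, he, hfe, mul_zero, sub_zero, mul_one,
      sub_self]
  have hfw : polar Q f w = 0 := by
    rw [p_comm hQ, hw]
    simp only [p_sub_left hQ, p_smul_left hQ, p_self hQ f, hf, hef, mul_zero, sub_zero, mul_one,
      sub_self]
  have hv : v = polar Q v f • e + polar Q v e • f + w := by rw [hw]; abel
  obtain ⟨k1, k2⟩ := hrel w hew hfw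
  have hwf : polar Q' f w = 0 := by rw [p_comm hQ']; exact hRall w hew hfw
  rw [hRall w hew hfw, mul_zero] at k1
  generalize polar Q v f = s at hv
  generalize polar Q v e = t at hv
  rw [hv]
  simp only [q_add hQ, q_smul hQ, p_add_left hQ, p_smul_left hQ, p_smul_right hQ, he, hf, hef, hew,
    hfw, q_add hQ', q_smul hQ', p_add_left hQ', p_smul_left hQ', p_smul_right hQ', h e he, h f hf,
    k1, k2, hwf, ← hl]
  ring

variable (h2 : (2 : F) ≠ 0) {M : Subgroup (GL ι F)}
  (hM : ∀ a b (ha : Q a ≠ 0) (hb : Q b ≠ 0), rfl' hQ h2 a ha * rfl' hQ h2 b hb ∈ M)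
include h2 hM

/-- Composition of `A`, a commuting involution up to the centre, and their translates. -/
lemma tv_of_sandwich {A : GL ι F} (hA : A ∈ M) {h : GL ι F} (hh : h ∈ M) {a u φ α : ι → F} {ε : F}
    (hε : ε * ε = 1)
    (hAz : ∀ z, (A : Matrix ι ι F) *ᵥ z = z + (φ ⬝ᵥ z) • a + (α ⬝ᵥ z) • u)
    (hhh : ∀ z, (h : Matrix ι ι F) *ᵥ ((h : Matrix ι ι F) *ᵥ z) = z)
    (hha : (h : Matrix ι ι F) *ᵥ a = -a) (hhu : (h : Matrix ι ι F) *ᵥ u = ε • u)
    (hφa : φ ⬝ᵥ a = 0) (hφu : φ ⬝ᵥ u = 0) (hαu : α ⬝ᵥ u = 0)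
    (hφh : ∀ z, φ ⬝ᵥ ((h : Matrix ι ι F) *ᵥ z) = φ ⬝ᵥ z) :
    InTv M u (α + ε • (α ᵥ* (h : Matrix ι ι F)) - (ε * (α ⬝ᵥ a)) • φ) := by
  have h0 : (α + ε • (α ᵥ* (h : Matrix ι ι F)) - (ε * (α ⬝ᵥ a)) • φ) ⬝ᵥ u = 0 := by
    rw [sub_dotProduct, add_dotProduct, smul_dotProduct, smul_dotProduct, ← dotProduct_mulVec,
      hhu, dotProduct_smul, hαu, hφu]
    simp
  refine ⟨h0, ?_⟩
  convert M.mul_mem (M.mul_mem hh hA) (M.mul_mem hh hA) using 1
  refine gl_ext fun z => ?_
  rw [tv_mulVec, mul_mulVec, mul_mulVec, mul_mulVec, hAz z]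
  simp only [mulVec_add, mulVec_smul, mulVec_neg, neg_neg, hha, hhu, hAz, dotProduct_add, dotProduct_smul, hφh,
    hφa, hφu, hαu, dotProduct_neg, smul_eq_mul, mul_zero, add_zero, neg_zero, hhh,
    sub_dotProduct, add_dotProduct, smul_dotProduct, ← dotProduct_mulVec]
  ext i
  simp only [Pi.add_apply, Pi.smul_apply, Pi.neg_apply, smul_eq_mul]
  linear_combination (-(α ⬝ᵥ z * u i)) * hε

variable (hsg : ∀ e c (he : Q e = 0) (hec : polar Q e c = 0), sg hQ e c he hec ∈ M)
include hsg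

/-- The conjugate of a Siegel transformation. -/
lemma exists_siegel_conj {g : GL ι F} (hg : g ∈ M) {e c : ι → F} (he : Q e = 0)
    (hce : polar Q c e = 0) :
    ∃ A ∈ M, ∃ φ α : ι → F,
      (∀ y, φ ⬝ᵥ ((g : Matrix ι ι F) *ᵥ y) = polar Q y e) ∧
      (∀ y, α ⬝ᵥ ((g : Matrix ι ι F) *ᵥ y) = -(polar Q y c + Q c * polar Q y e)) ∧
      ∀ z, (A : Matrix ι ι F) *ᵥ z = z + (φ ⬝ᵥ z) • ((g : Matrix ι ι F) *ᵥ c) +
        (α ⬝ᵥ z) • ((g : Matrix ι ι F) *ᵥ e) := by
  have hec : polar Q e c = 0 := by rw [p_comm hQ]; exact hce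
  set g' := ((g⁻¹ : GL ι F) : Matrix ι ι F) with hg'
  refine ⟨g * sg hQ e c he hec * g⁻¹, M.mul_mem (M.mul_mem hg (hsg e c he hec)) (M.inv_mem hg),
    dv (polar Q) e ᵥ* g', (-(dv (polar Q) c) - Q c • dv (polar Q) e) ᵥ* g',
    fun y => ?_, fun y => ?_, fun z => ?_⟩
  · rw [← dotProduct_mulVec, hg', inv_mulVec_mulVec, qv_dot hQ]
  · rw [← dotProduct_mulVec, hg', inv_mulVec_mulVec, sub_dotProduct, neg_dotProduct,
      smul_dotProduct, qv_dot hQ, qv_dot hQ, smul_eq_mul]
    ring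
  · rw [← dotProduct_mulVec, ← dotProduct_mulVec, sub_dotProduct, neg_dotProduct, smul_dotProduct,
      qv_dot hQ, qv_dot hQ, mul_mulVec, mul_mulVec, sg_mulVec]
    simp only [mulVec_add, mulVec_sub, mulVec_smul, hg', mulVec_inv_mulVec, smul_eq_mul]
    ext i
    simp only [Pi.add_apply, Pi.sub_apply, Pi.smul_apply, smul_eq_mul]
    ring

/-- The favourable case. -/
lemma tv_of_good {g : GL ι F} (hg : g ∈ M) {e c : ι → F} (he : Q e = 0)
    (hge : Q ((g : Matrix ι ι F) *ᵥ e) ≠ 0) (hce : polar Q c e = 0)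
    (hgce : polar Q ((g : Matrix ι ι F) *ᵥ c) ((g : Matrix ι ι F) *ᵥ e) = 0) (hc : Q c ≠ 0)
    (hgc : Q ((g : Matrix ι ι F) *ᵥ c) ≠ 0) :
    ∃ v ψ, Q v ≠ 0 ∧ ψ ≠ 0 ∧ InTv M v ψ := by
  obtain ⟨A, hA, φ, α, hφ, hα, hAz⟩ := exists_siegel_conj hQ h2 hM hsg hg he hce
  set a := (g : Matrix ι ι F) *ᵥ c
  set u := (g : Matrix ι ι F) *ᵥ e
  set h := rfl' hQ h2 a hgc * rfl' hQ h2 u hge with hh
  have hua : polar Q u a = 0 := by rw [p_comm hQ]; exact hgce
  have hval : ∀ z, (h : Matrix ι ι F) *ᵥ z =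
      z - (polar Q z u / Q u) • u - (polar Q z a / Q a) • a := by
    intro z
    rw [hh, mul_mulVec, rfl'_mulVec, rfl'_mulVec, p_sub_left hQ, p_smul_left hQ, hua, mul_zero,
      sub_zero]
  have hha : (h : Matrix ι ι F) *ᵥ a = -a := by
    rw [hval, hgce, p_self hQ, mul_div_assoc, div_self hgc, mul_one, two_smul]
    simp
  have hhu : (h : Matrix ι ι F) *ᵥ u = (-1 : F) • u := by
    rw [hval, hua, p_self hQ, mul_div_assoc, div_self hge, mul_one, two_smul]
    simp
  have hφa : φ ⬝ᵥ a = 0 := (hφ c).trans hce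
  have hφu : φ ⬝ᵥ u = 0 := (hφ e).trans (by rw [p_self hQ, he, mul_zero])
  have hαu : α ⬝ᵥ u = 0 := (hα e).trans (by
    rw [p_self hQ, he, p_comm hQ e c, hce]; ring)
  have hαa : α ⬝ᵥ a = -(2 * Q c) := (hα c).trans (by rw [p_self hQ, hce]; ring)
  have hhh : ∀ z, (h : Matrix ι ι F) *ᵥ ((h : Matrix ι ι F) *ᵥ z) = z := by
    intro z
    rw [hval z, mulVec_sub, mulVec_sub, mulVec_smul, mulVec_smul, hha, hhu, hval z]
    ext i
    simp only [Pi.sub_apply, Pi.smul_apply, Pi.neg_apply, smul_eq_mul]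
    ring
  have hT := tv_of_sandwich hQ h2 hM hA (h := h) (hM a u hgc hge) (ε := -1) (by ring) hAz hhh hha hhu hφa
    hφu hαu fun z => by
      rw [hval, dotProduct_sub, dotProduct_sub, dotProduct_smul, dotProduct_smul, hφa, hφu,
        smul_zero, smul_zero, sub_zero, sub_zero]
  refine ⟨u, _, hge, fun e0 => ?_, hT⟩
  have h1 := congrArg (fun f => f ⬝ᵥ a) e0
  simp only [sub_dotProduct, add_dotProduct, smul_dotProduct, ← dotProduct_mulVec, hha,
    dotProduct_neg, hαa, hφa, zero_dotProduct, smul_eq_mul] at h1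
  have : (2 : F) * (2 * Q c) = 0 := by linear_combination -h1
  exact mul_ne_zero h2 (mul_ne_zero h2 hc) this

/-- A transvection. -/
theorem exists_tv_four [Fintype F] (hι : Fintype.card ι = 4) {g : GL ι F} (hg : g ∈ M)
    {e : ι → F} (he : Q e = 0) (hge : Q ((g : Matrix ι ι F) *ᵥ e) ≠ 0) :
    ∃ v ψ, Q v ≠ 0 ∧ ψ ≠ 0 ∧ InTv M v ψ := by
  set G := (g : Matrix ι ι F) with hG
  set u := G *ᵥ e with hu
  by_cases hgood : ∃ c, polar Q c e = 0 ∧ polar Q (G *ᵥ c) u = 0 ∧ Q c ≠ 0 ∧ Q (G *ᵥ c) ≠ 0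
  · obtain ⟨c, h1, h3, h4, h5⟩ := hgood
    exact tv_of_good hQ h2 hM hsg hg he hge h1 h3 h4 h5
  push Not at hgood
  have he0 : e ≠ 0 := fun e0 => hge (by rw [hu, e0, mulVec_zero, q_zero hQ])
  have huu : polar Q u u ≠ 0 := by rw [p_self hQ]; exact mul_ne_zero h2 hge
  have hee : polar Q e e = 0 := by rw [p_self hQ, he, mul_zero]
  let π : (ι → F) → ι → F := fun z => z - (polar Q (G *ᵥ z) u / polar Q u u) • e
  have hπ : ∀ z, polar Q z e = 0 →
      polar Q (π z) e = 0 ∧ polar Q (G *ᵥ π z) u = 0 ∧ Q (π z) = Q z := by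
    intro z hz
    refine ⟨?_, ?_, ?_⟩
    · simp only [π, p_sub_left hQ, p_smul_left hQ, hz, hee, mul_zero, sub_zero]
    · simp only [π, mulVec_sub, mulVec_smul, ← hu, p_sub_left hQ, p_smul_left hQ]
      rw [div_mul_cancel₀ _ huu, sub_self]
    · simp only [π, q_sub hQ, q_smul hQ, he, p_smul_right hQ, hz, mul_zero, sub_zero, add_zero]
  obtain ⟨z₀, hz₀, hz₀'⟩ := exists_aniso_ker hQ h2 ![dv (polar Q) e] (by omega)
  have hz₀e : polar Q z₀ e = 0 := by rw [← qv_dot hQ]; exact hz₀ 0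
  obtain ⟨hbe, hbu, hbQ⟩ := hπ z₀ hz₀e
  set b := π z₀
  have hb : Q b ≠ 0 := by rw [hbQ]; exact hz₀'
  set a := G *ᵥ b with ha
  have hQa : Q a = 0 := hgood b hbe hbu hb
  -- a vector of the space `U` with anisotropic image
  have hQg : Geo.IsNondegenerateQuadraticForm fun x => Q (G *ᵥ x) := by
    have := S5644.twist hQ g⁻¹
    rwa [inv_inv] at this
  have hpg : ∀ x y, polar (fun x => Q (G *ᵥ x)) x y = polar Q (G *ᵥ x) (G *ᵥ y) := fun x y => by
    simp only [polar, mulVec_add]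
  obtain ⟨a₀, hca, hga₀⟩ := H57.SLSmall.exists_aniso_ker_half hQg h2
    ![dv (polar fun x => Q (G *ᵥ x)) e, dv (polar Q) e] (by omega) 0 (v := e) rfl hge
  have ha₀e : polar Q a₀ e = 0 := by rw [← qv_dot hQ]; exact hca 1
  have ha₀u : polar Q (G *ᵥ a₀) u = 0 := by rw [hu, ← hpg, ← qv_dot hQg]; exact hca 0
  have hQa₀ : Q a₀ = 0 := by
    by_contra h'
    exact hga₀ (hgood a₀ ha₀e ha₀u h')
  set P := polar Q (G *ᵥ a₀) a with hP
  have hP0 : P ≠ 0 := by
    intro h0
    have k : ∀ s : F, Q (a₀ + s • b) = 0 := by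
      intro s
      by_contra h'
      refine hga₀ ?_
      have := hgood (a₀ + s • b) (by rw [p_add_left hQ, p_smul_left hQ, ha₀e, hbe]; ring)
        (by rw [mulVec_add, mulVec_smul, p_add_left hQ, p_smul_left hQ, ha₀u, hbu]; ring) h'
      rwa [mulVec_add, mulVec_smul, ← ha, q_add hQ, q_smul hQ, hQa, p_smul_right hQ, ← hP, h0,
        mul_zero, mul_zero, add_zero, add_zero] at this
    have k1 := k 1
    have k2 := k (-1)
    rw [q_add hQ, q_smul hQ, p_smul_right hQ, hQa₀] at k1 k2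
    have : (2 : F) * Q b = 0 := by linear_combination k1 + k2
    exact mul_ne_zero h2 hb this
  set b₂ := a₀ - (Q (G *ᵥ a₀) / P) • b with hb₂
  have hb₂e : polar Q b₂ e = 0 := by
    rw [hb₂, p_sub_left hQ, p_smul_left hQ, ha₀e, hbe]; ring
  set a₂ := G *ᵥ b₂ with ha₂
  have ha₂' : a₂ = G *ᵥ a₀ - (Q (G *ᵥ a₀) / P) • a := by rw [ha₂, hb₂, mulVec_sub, mulVec_smul]
  have hQa₂ : Q a₂ = 0 := by
    rw [ha₂', q_sub hQ, q_smul hQ, hQa, p_smul_right hQ, ← hP, div_mul_cancel₀ _ hP0]; ring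
  have haa₂ : polar Q a₂ a = P := by
    rw [ha₂', p_sub_left hQ, p_smul_left hQ, p_self hQ, hQa, ← hP]; ring
  have hb₂u : polar Q a₂ u = 0 := by
    rw [ha₂', p_sub_left hQ, p_smul_left hQ, ha₀u, hbu]; ring
  have hbb₂ : polar Q b₂ b = 0 := by
    have k : ∀ s : F, s ≠ 0 → Q (b + s • b₂) = 0 := by
      intro s hs
      by_contra h'
      have := hgood (b + s • b₂) (by rw [p_add_left hQ, p_smul_left hQ, hb₂e, hbe]; ring)
        (by rw [mulVec_add, mulVec_smul, ← ha₂, p_add_left hQ, p_smul_left hQ, hb₂u, hbu]; ring) h'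
      rw [mulVec_add, mulVec_smul, ← ha₂, ← ha, q_add hQ, q_smul hQ, hQa, hQa₂, p_smul_right hQ,
        p_comm hQ, haa₂] at this
      simp [hs, hP0] at this
    have k1 := k 1 one_ne_zero
    have k2 := k (-1) (neg_ne_zero.2 one_ne_zero)
    rw [q_add hQ, q_smul hQ, p_smul_right hQ, p_comm hQ b b₂] at k1 k2
    have : (2 : F) * polar Q b₂ b = 0 := by linear_combination k1 - k2
    exact (mul_eq_zero.1 this).resolve_left h2
  obtain ⟨A, hA, φ, α, hφ, hα, hAz⟩ := exists_siegel_conj hQ h2 hM hsg hg he hbe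
  rw [← hG, ← hu, ← ha] at hAz
  rw [← hG] at hφ hα
  have hφa : φ ⬝ᵥ a = 0 := (hφ b).trans hbe
  have hφu : φ ⬝ᵥ u = 0 := (hφ e).trans hee
  have hφa₂ : φ ⬝ᵥ a₂ = 0 := (hφ b₂).trans hb₂e
  have hαu : α ⬝ᵥ u = 0 := (hα e).trans (by rw [hee, p_comm hQ e b, hbe]; ring)
  have hαa : α ⬝ᵥ a = -(2 * Q b) := (hα b).trans (by rw [p_self hQ, hbe]; ring)
  have hαa₂ : α ⬝ᵥ a₂ = 0 := (hα b₂).trans (by rw [hbb₂, hb₂e]; ring)
  -- the pole of the axis
  obtain ⟨l, hl⟩ := exists_qv hQ φ
  have hlp : ∀ z, polar Q z l = φ ⬝ᵥ z := fun z => by rw [← hl, qv_dot hQ]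
  have hQl : Q l ≠ 0 := by
    intro hl0
    let L : (ι → F) →ₗ[F] (Fin 3 → F) :=
      { toFun := fun z => ![polar Q z u, polar Q z a, polar Q z a₂]
        map_add' := fun p r => by ext i; fin_cases i <;> simp [p_add_left hQ]
        map_smul' := fun s p => by ext i; fin_cases i <;> simp [p_smul_left hQ] }
    have hLsurj : LinearMap.range L = ⊤ := by
      rw [eq_top_iff]
      intro t _
      refine ⟨(t 0 / polar Q u u) • u + (t 1 / P) • a₂ + (t 2 / P) • a, ?_⟩
      funext i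
      fin_cases i
      · show polar Q _ u = t 0
        simp only [p_add_left hQ, p_smul_left hQ, hb₂u, hbu]
        rw [div_mul_cancel₀ _ huu]; ring
      · show polar Q _ a = t 1
        simp only [p_add_left hQ, p_smul_left hQ, haa₂, p_comm hQ u a, hbu, p_self hQ a, hQa]
        rw [div_mul_cancel₀ _ hP0]; ring
      · show polar Q _ a₂ = t 2
        simp only [p_add_left hQ, p_smul_left hQ, p_comm hQ u a₂, p_comm hQ a a₂, hb₂u, haa₂,
          p_self hQ a₂, hQa₂]
        rw [div_mul_cancel₀ _ hP0]; ring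
    have hrk := LinearMap.finrank_range_add_finrank_ker L
    rw [hLsurj, finrank_top, Module.finrank_fin_fun, Module.finrank_fintype_fun_eq_card, hι] at hrk
    have hlK : l ∈ LinearMap.ker L := by
      rw [LinearMap.mem_ker]
      funext i
      fin_cases i <;> show polar Q l _ = 0 <;> rw [p_comm hQ, hlp]
      · exact hφu
      · exact hφa
      · exact hφa₂
    have hl00 : l ≠ 0 := by
      intro e0
      obtain ⟨⟨y, hy⟩, -⟩ := hQ.nondegenerate e he0
      exact hy (by rw [← hφ y, ← hlp, e0, p_zero_right hQ])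
    have hker : LinearMap.ker L = Submodule.span F {l} :=
      (Submodule.eq_of_le_of_finrank_le ((Submodule.span_singleton_le_iff_mem _ _).2 hlK)
        (by rw [finrank_span_singleton hl00]; omega)).symm
    obtain ⟨⟨y, hy⟩, -⟩ := hQ.nondegenerate l hl00
    apply hy
    obtain ⟨w, hw⟩ : ∃ w, y - ((polar Q y u / polar Q u u) • u + (polar Q y a / P) • a₂ +
        (polar Q y a₂ / P) • a) = w := ⟨_, rfl⟩
    have hwK : w ∈ LinearMap.ker L := by
      rw [LinearMap.mem_ker, ← hw, map_sub, map_add, map_add, map_smul, map_smul, map_smul]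
      funext i
      fin_cases i
      · show polar Q y u - (polar Q y u / polar Q u u * polar Q u u +
          polar Q y a / P * polar Q a₂ u + polar Q y a₂ / P * polar Q a u) = 0
        rw [hb₂u, hbu, div_mul_cancel₀ _ huu]; ring
      · show polar Q y a - (polar Q y u / polar Q u u * polar Q u a +
          polar Q y a / P * polar Q a₂ a + polar Q y a₂ / P * polar Q a a) = 0
        rw [p_comm hQ u a, hbu, haa₂, p_self hQ a, hQa, div_mul_cancel₀ _ hP0]; ring
      · show polar Q y a₂ - (polar Q y u / polar Q u u * polar Q u a₂ +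
          polar Q y a / P * polar Q a₂ a₂ + polar Q y a₂ / P * polar Q a a₂) = 0
        rw [p_comm hQ u a₂, hb₂u, p_comm hQ a a₂, haa₂, p_self hQ a₂, hQa₂,
          div_mul_cancel₀ _ hP0]; ring
    rw [hker, Submodule.mem_span_singleton] at hwK
    obtain ⟨s, hs⟩ := hwK
    have hy' : y = s • l + ((polar Q y u / polar Q u u) • u + (polar Q y a / P) • a₂ +
        (polar Q y a₂ / P) • a) := by rw [hs, ← hw]; abel
    rw [hy']
    simp only [p_add_left hQ, p_smul_left hQ, p_self hQ l, hl0]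
    rw [hlp, hlp, hlp, hφu, hφa, hφa₂]
    ring
  by_cases hαl : α ⬝ᵥ l = 0
  · -- a product of two reflections negating the plane
    have hQ1 : Q (a + a₂) ≠ 0 := by
      rw [q_add hQ, hQa, hQa₂, p_comm hQ, haa₂]; simpa using hP0
    have hQ2 : Q (a - a₂) ≠ 0 := by
      rw [q_sub hQ, hQa, hQa₂, p_comm hQ, haa₂]; simpa using hP0
    set h := rfl' hQ h2 (a + a₂) hQ1 * rfl' hQ h2 (a - a₂) hQ2 with hh
    have hval : ∀ z, (h : Matrix ι ι F) *ᵥ z =
        z - (2 * polar Q z a₂ / P) • a - (2 * polar Q z a / P) • a₂ := by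
      intro z
      rw [hh, mul_mulVec, rfl'_mulVec, rfl'_mulVec]
      simp only [p_sub_left hQ, p_smul_left hQ, p_add_right hQ, p_sub_right hQ, p_self hQ, hQa,
        hQa₂, p_comm hQ a a₂, haa₂, q_add hQ, q_sub hQ]
      ext i
      simp only [Pi.sub_apply, Pi.smul_apply, Pi.add_apply, smul_eq_mul]
      field_simp
      ring_nf
      simp only [mul_inv_cancel₀ hP0, one_mul, mul_comm P, mul_inv_cancel_right₀ hP0, inv_mul_cancel₀ hP0]
      field_simp
    have hha : (h : Matrix ι ι F) *ᵥ a = -a := by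
      rw [hval, p_self hQ, hQa, p_comm hQ a a₂, haa₂, mul_div_assoc, div_self hP0, mul_one, two_smul]
      simp
    have hha₂ : (h : Matrix ι ι F) *ᵥ a₂ = -a₂ := by
      rw [hval, p_self hQ, hQa₂, haa₂, mul_div_assoc 2 P, div_self hP0, mul_one, two_smul]
      simp
    have hhu : (h : Matrix ι ι F) *ᵥ u = (1 : F) • u := by
      rw [hval, p_comm hQ u a₂, hb₂u, p_comm hQ u a, hbu]; simp
    have hhl : (h : Matrix ι ι F) *ᵥ l = l := by
      rw [hval, p_comm hQ l a₂, hlp, hφa₂, p_comm hQ l a, hlp, hφa]; simp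
    have hhh : ∀ z, (h : Matrix ι ι F) *ᵥ ((h : Matrix ι ι F) *ᵥ z) = z := by
      intro z
      rw [hval z, mulVec_sub, mulVec_sub, mulVec_smul, mulVec_smul, hha, hha₂, hval z]
      ext i
      simp only [Pi.sub_apply, Pi.smul_apply, Pi.neg_apply, smul_eq_mul]
      ring
    have hT := tv_of_sandwich hQ h2 hM hA (h := h) (hM _ _ hQ1 hQ2) (ε := 1) (one_mul 1) hAz hhh hha hhu
      hφa hφu hαu fun z => by
        rw [hval, dotProduct_sub, dotProduct_sub, dotProduct_smul, dotProduct_smul, hφa, hφa₂,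
          smul_zero, smul_zero, sub_zero, sub_zero]
    refine ⟨u, _, hge, fun e0 => ?_, hT⟩
    have h1 := congrArg (fun f => f ⬝ᵥ l) e0
    simp only [sub_dotProduct, add_dotProduct, smul_dotProduct, ← dotProduct_mulVec, hhl, hαl,
      hαa, ← hlp, p_self hQ, zero_dotProduct, smul_eq_mul] at h1
    have : (2 : F) * Q b * (2 * Q l) = 0 := by linear_combination h1
    exact mul_ne_zero (mul_ne_zero h2 hb) (mul_ne_zero h2 hQl) this
  · -- the favourable case for `A`
    set x := (α ⬝ᵥ l) / (2 * Q b) with hx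
    have hx0 : x ≠ 0 := div_ne_zero hαl (mul_ne_zero h2 hb)
    set z := l + x • a + (-Q l / (x * P)) • a₂ with hz
    have hφl : φ ⬝ᵥ l = 2 * Q l := by rw [← hlp, p_self hQ]
    have hlu : polar Q l u = 0 := by rw [p_comm hQ, hlp, hφu]
    have hla : polar Q l a = 0 := by rw [p_comm hQ, hlp, hφa]
    have hla₂ : polar Q l a₂ = 0 := by rw [p_comm hQ, hlp, hφa₂]
    have hQz : Q z = 0 := by
      rw [hz, q_add hQ, q_add hQ, q_smul hQ, q_smul hQ, hQa, hQa₂, p_smul_right hQ, p_smul_right hQ,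
        p_add_left hQ, p_smul_left hQ, hla, hla₂, p_comm hQ a a₂, haa₂]
      field_simp
      ring
    have hzu : polar Q z u = 0 := by
      rw [hz, p_add_left hQ, p_add_left hQ, p_smul_left hQ, p_smul_left hQ, hlu, hbu, hb₂u]; ring
    have hφz : φ ⬝ᵥ z = 2 * Q l := by
      rw [hz, dotProduct_add, dotProduct_add, dotProduct_smul, dotProduct_smul, hφa, hφa₂, hφl]
      simp
    have hαz : α ⬝ᵥ z = 0 := by
      rw [hz, dotProduct_add, dotProduct_add, dotProduct_smul, dotProduct_smul, hαa, hαa₂,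
        smul_eq_mul, smul_eq_mul, hx, mul_zero, add_zero, mul_neg, div_mul_cancel₀ _
          (mul_ne_zero h2 hb), add_neg_cancel]
    have hAu : (A : Matrix ι ι F) *ᵥ u = u := by
      rw [hAz, hφu, hαu, zero_smul, zero_smul, add_zero, add_zero]
    have hAzz : (A : Matrix ι ι F) *ᵥ z = z + (2 * Q l) • a := by
      rw [hAz, hφz, hαz, zero_smul, add_zero]
    have hza : polar Q z a = -Q l / x := by
      rw [hz, p_add_left hQ, p_add_left hQ, p_smul_left hQ, p_smul_left hQ, hla, p_self hQ, hQa,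
        haa₂]
      field_simp
      ring
    refine tv_of_good hQ h2 hM hsg hA hQz ?_ (by rw [p_comm hQ]; exact hzu) ?_ hge
      (by rw [hAu]; exact hge)
    · rw [hAzz, q_add hQ, hQz, q_smul hQ, hQa, p_smul_right hQ, hza, mul_zero, zero_add, zero_add]
      exact mul_ne_zero (mul_ne_zero h2 hQl) (div_ne_zero (neg_ne_zero.2 hQl) hx0)
    · rw [hAu, hAzz, p_add_right hQ, p_smul_right hQ, p_comm hQ u z, hzu, p_comm hQ u a, hbu]
      ring

omit hM in
/-- From a transvection with anisotropic centre to SL. -/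
theorem specialLinear_le_of_tv [Fintype F] (hn : 4 ≤ Fintype.card ι) {v φ : ι → F} (hv : Q v ≠ 0)
    (hφ : φ ≠ 0) (hT : InTv M v φ) : Geo.specialLinear ι F ≤ M := by
  have h22 : polar Q v v ≠ 0 := by rw [p_self hQ]; exact mul_ne_zero h2 hv
  obtain ⟨u₀, rfl⟩ := exists_qv hQ φ
  have hu₀v : polar Q u₀ v = 0 := by
    rw [p_comm hQ, ← qv_dot hQ]; exact hT.1
  -- the Siegel transformations fixing `v` move the covector
  have hmove : ∀ u e c, InTv M v (dv (polar Q) u) → Q e = 0 → polar Q e v = 0 → polar Q e c = 0 →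
      polar Q c v = 0 →
      InTv M v (dv (polar Q) (polar Q u e • c - (polar Q u c + Q c * polar Q u e) • e)) := by
    intro u e c hu he hev hec hcv
    have h1 := hu.conj (hsg e c he hec)
    rw [sg_mulVec, p_comm hQ v e, hev, p_comm hQ v c, hcv] at h1
    simp only [zero_smul, zero_add, add_zero, mul_zero, sub_zero] at h1
    rw [vecMul_inv_eq (ψ := dv (polar Q) (u + polar Q u e • c -
      (polar Q u c + Q c * polar Q u e) • e)) fun x => ?_] at h1
    · have h3 := h1.sub_right hu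
      rwa [add_sub_assoc, qv_add hQ, add_sub_cancel_left] at h3
    · rw [qv_dot hQ, qv_dot hQ, sg_mulVec]
      simp only [p_sub_left hQ, p_sub_right hQ, p_add_left hQ, p_add_right hQ, p_smul_left hQ,
        p_smul_right hQ, p_self hQ, he, hec, p_comm hQ c e, p_comm hQ u, p_comm hQ c x,
        p_comm hQ e x]
      ring
  have hlin : ∀ u e c, InTv M v (dv (polar Q) u) → Q e = 0 → polar Q e v = 0 → polar Q e c = 0 →
      polar Q c v = 0 → InTv M v (dv (polar Q) (polar Q u e • c - polar Q u c • e)) ∧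
        InTv M v (dv (polar Q) ((Q c * polar Q u e) • e)) := by
    intro u e c hu he hev hec hcv
    have key : ∀ c, polar Q e c = 0 → polar Q c v = 0 →
        InTv M v (dv (polar Q) (polar Q u e • c - polar Q u c • e)) := by
      intro c hec hcv
      set c' := (2 : F)⁻¹ • c with hc'
      have a1 := hmove u e c' hu he hev (by rw [hc', p_smul_right hQ, hec, mul_zero])
        (by rw [hc', p_smul_left hQ, hcv, mul_zero])
      have a2 := hmove u e (-c') hu he hev
        (by rw [p_neg_right hQ, hc', p_smul_right hQ, hec, mul_zero, neg_zero])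
        (by rw [p_neg_left hQ, hc', p_smul_left hQ, hcv, mul_zero, neg_zero])
      have a3 := a1.sub_right a2
      convert a3 using 1
      rw [q_neg hQ, p_neg_right hQ, hc', p_smul_right hQ]
      ext i
      simp only [dv, Pi.sub_apply, p_sub_right hQ, p_smul_right hQ, p_neg_right hQ]
      field_simp
      ring
    refine ⟨key c hec hcv, ?_⟩
    have a1 := (key c hec hcv).sub_right (hmove u e c hu he hev hec hcv)
    convert a1 using 1
    ext i
    simp only [dv, Pi.sub_apply, p_sub_right hQ, p_smul_right hQ]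
    ring
  -- the whole line of the isotropic vector and the hyperplane it determines
  have hplane : ∀ u e, InTv M v (dv (polar Q) u) → Q e = 0 → polar Q e v = 0 →
      polar Q u e ≠ 0 → ∀ c, polar Q e c = 0 → polar Q c v = 0 → InTv M v (dv (polar Q) c) := by
    intro u e hu he hev hue c hec hcv
    obtain ⟨h, hh, hh'⟩ := H57.SLSmall.exists_aniso_ker_half hQ h2 ![dv (polar Q) e, dv (polar Q) v]
      (by omega) 1 (v := v) rfl hv
    have hhe : polar Q e h = 0 := by rw [p_comm hQ, ← qv_dot hQ]; exact hh 0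
    have hhv : polar Q h v = 0 := by rw [← qv_dot hQ]; exact hh 1
    have hline : ∀ t : F, InTv M v (dv (polar Q) (t • e)) := by
      intro t
      -- the polarisation of the quadratic part
      set k := t / (2 * Q h * polar Q u e) with hk
      have a1 := (hlin u e (k • h + h) hu he hev
        (by rw [p_add_right hQ, p_smul_right hQ, hhe]; ring)
        (by rw [p_add_left hQ, p_smul_left hQ, hhv]; ring)).2
      have a2 := (hlin u e (k • h) hu he hev (by rw [p_smul_right hQ, hhe]; ring)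
        (by rw [p_smul_left hQ, hhv]; ring)).2
      have a3 := (hlin u e h hu he hev hhe hhv).2
      have a4 := (a1.sub_right a2).sub_right a3
      convert a4 using 1
      ext i
      simp only [dv, Pi.sub_apply, p_smul_right hQ, q_add hQ, q_smul hQ, p_smul_left hQ, p_self hQ]
      rw [hk]
      field_simp
      ring
    have a1 := (hlin u e ((polar Q u e)⁻¹ • c) hu he hev (by rw [p_smul_right hQ, hec, mul_zero])
      (by rw [p_smul_left hQ, hcv, mul_zero])).1
    have a2 := a1.add_right (hline (polar Q u ((polar Q u e)⁻¹ • c)))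
    convert a2 using 1
    rw [smul_smul, mul_inv_cancel₀ hue, one_smul, ← qv_add hQ, sub_add_cancel]
  obtain ⟨e, he, hev, hue⟩ := exists_iso_nonorth hQ h2 hn (Or.inr hv) (u := u₀) (v := v) (by
    by_contra hc
    push Not at hc
    apply hφ
    refine dotProduct_eq _ _ fun y => ?_
    rw [qv_dot hQ, zero_dotProduct, p_comm hQ]
    have := hc (y - (polar Q y v / polar Q v v) • v)
      (by rw [p_sub_left hQ, p_smul_left hQ, div_mul_cancel₀ _ h22, sub_self])
    rwa [p_sub_right hQ, p_smul_right hQ, hu₀v, mul_zero, sub_zero] at this)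
  have he0 : e ≠ 0 := fun e' => hue (by rw [e', p_zero_right hQ])
  obtain ⟨f, hf, hfv, hef⟩ : ∃ f, Q f = 0 ∧ polar Q f v = 0 ∧ polar Q e f ≠ 0 := by
    refine exists_iso_nonorth hQ h2 hn (Or.inr hv) ?_
    obtain ⟨-, y, hy⟩ := hQ.nondegenerate e he0
    refine ⟨y - (polar Q y v / polar Q v v) • v,
      by rw [p_sub_left hQ, p_smul_left hQ, div_mul_cancel₀ _ h22, sub_self], ?_⟩
    rwa [p_sub_right hQ, p_smul_right hQ, hev, mul_zero, sub_zero]
  have heM : InTv M v (dv (polar Q) e) :=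
    hplane u₀ e hT he hev hue e (by rw [p_self hQ, he, mul_zero]) hev
  have hall : ∀ c, polar Q c v = 0 → InTv M v (dv (polar Q) c) := by
    intro c hcv
    set t := polar Q e c / polar Q e f
    have a1 := hplane u₀ e hT he hev hue (c - t • f)
      (by rw [p_sub_right hQ, p_smul_right hQ, div_mul_cancel₀ _ hef, sub_self])
      (by rw [p_sub_left hQ, p_smul_left hQ, hcv, hfv, mul_zero, sub_zero])
    have a2 := hplane e f heM hf hfv hef (t • f)
      (by rw [p_smul_right hQ, p_self hQ, hf, mul_zero, mul_zero])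
      (by rw [p_smul_left hQ, hfv, mul_zero])
    have a3 := a1.add_right a2
    rwa [← qv_add hQ, sub_add_cancel] at a3
  have hvfan : v ∈ fan M := by
    intro φ hφ'
    obtain ⟨c, rfl⟩ := exists_qv hQ φ
    rw [qv_dot hQ, p_comm hQ] at hφ'
    exact hall c hφ'
  -- the fan is everything
  obtain ⟨d, hd, -, hvd⟩ := exists_iso_nonorth hQ h2 hn (Or.inl rfl) (u := v) (v := (0 : ι → F))
    ⟨v, p_zero_right hQ v, h22⟩
  have hmove' : ∀ c, polar Q d c = 0 →
      polar Q v d • c - (polar Q v c + Q c * polar Q v d) • d ∈ fan M := by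
    intro c hdc
    have := (fan M).sub_mem (mulVec_mem_fan (hsg d c hd hdc) hvfan) hvfan
    rwa [sg_mulVec, add_sub_assoc, add_sub_cancel_left] at this
  have hL : ∀ c, polar Q d c = 0 → polar Q v d • c - polar Q v c • d ∈ fan M ∧
      (Q c * polar Q v d) • d ∈ fan M := by
    intro c hdc
    have key : ∀ c, polar Q d c = 0 → polar Q v d • c - polar Q v c • d ∈ fan M := by
      intro c hdc
      have a1 := hmove' ((2 : F)⁻¹ • c) (by rw [p_smul_right hQ, hdc, mul_zero])
      have a2 := hmove' (-((2 : F)⁻¹ • c))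
        (by rw [p_neg_right hQ, p_smul_right hQ, hdc, mul_zero, neg_zero])
      have a3 := (fan M).sub_mem a1 a2
      rw [q_neg hQ, p_neg_right hQ, p_smul_right hQ] at a3
      convert a3 using 1
      ext i
      simp only [Pi.sub_apply, Pi.smul_apply, Pi.neg_apply, smul_eq_mul]
      field_simp
      ring
    refine ⟨key c hdc, ?_⟩
    have := (fan M).sub_mem (key c hdc) (hmove' c hdc)
    convert this using 1
    ext i
    simp only [Pi.sub_apply, Pi.smul_apply, smul_eq_mul]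
    ring
  obtain ⟨h, hh, hh'⟩ := exists_aniso_ker hQ h2 ![dv (polar Q) d] (by omega)
  have hhd : polar Q d h = 0 := by rw [p_comm hQ, ← qv_dot hQ]; exact hh 0
  have hdfan : d ∈ fan M := by
    have := (fan M).smul_mem (Q h * polar Q v d)⁻¹ (hL h hhd).2
    rwa [smul_smul, inv_mul_cancel₀ (mul_ne_zero hh' hvd), one_smul] at this
  have hperp : ∀ c, polar Q d c = 0 → c ∈ fan M := by
    intro c hdc
    have := (fan M).smul_mem (polar Q v d)⁻¹
      ((fan M).add_mem (hL c hdc).1 ((fan M).smul_mem (polar Q v c) hdfan))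
    rwa [sub_add_cancel, smul_smul, inv_mul_cancel₀ hvd, one_smul] at this
  refine specialLinear_le_of_fan (eq_top_iff.2 fun y _ => ?_)
  set t := polar Q d y / polar Q d v
  have hdv : polar Q d v ≠ 0 := by rw [p_comm hQ]; exact hvd
  have := (fan M).add_mem (hperp (y - t • v)
    (by rw [p_sub_right hQ, p_smul_right hQ, div_mul_cancel₀ _ hdv, sub_self]))
    ((fan M).smul_mem t hvfan)
  rwa [sub_add_cancel] at this

omit hM hsg h2 hQ in
/-- The maximality statement. -/
theorem quadratic_maximal_four {F : Type*} [Field F] [Fintype F] (hodd : Odd (Fintype.card F))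
    (Q : (Fin 4 → F) → F) (hQ : Geo.IsNondegenerateQuadraticForm Q) :
    Geo.IsMaximalIn (Geo.specialLinear (Fin 4) F)
      (Geo.quadSimilarityGroup Q ⊓ Geo.specialLinear (Fin 4) F) := by
  have hn : 4 ≤ Fintype.card (Fin 4) := (Fintype.card_fin 4).ge
  have h2 : (2 : F) ≠ 0 := by
    refine Ring.two_ne_zero fun h => ?_
    have := FiniteField.even_card_of_char_two (F := F) h
    rw [Nat.odd_iff] at hodd
    omega
  set SL := Geo.specialLinear (Fin 4) F with hSL
  refine ⟨lt_of_le_of_ne inf_le_right ?_, fun M hSM hMSL => ?_⟩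
  · intro hEq
    obtain ⟨a, -, ha⟩ := exists_aniso_ker hQ h2 (![] : Fin 0 → Fin 4 → F) (by omega)
    obtain ⟨b, hb', hb⟩ := exists_aniso_ker hQ h2 ![dv (polar Q) a] (by omega)
    have hab : polar Q b a = 0 := by rw [← qv_dot hQ]; exact hb' 0
    have h0 : dv (polar Q) b ⬝ᵥ a = 0 := by rw [qv_dot hQ, p_comm hQ, hab]
    obtain ⟨⟨μ, hμ⟩, -⟩ : tv a (dv (polar Q) b) h0 ∈ Geo.quadSimilarityGroup Q ⊓ SL :=
      hEq.symm ▸ tv_mem_specialLinear _ _ h0
    have e1 := hμ a
    rw [tv_mulVec, h0, zero_smul, add_zero] at e1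
    have hμ1 : (μ : F) = 1 := (mul_eq_right₀ ha).1 e1.symm
    have e2 := hμ b
    rw [tv_mulVec, qv_dot hQ, q_add hQ, q_smul hQ, p_smul_right hQ, hab, p_self hQ, hμ1, one_mul,
      mul_zero, add_zero, add_eq_left, mul_eq_zero, sq_eq_zero_iff, mul_eq_zero] at e2
    rcases e2 with (h | h) | h
    · exact h2 h
    · exact hb h
    · exact ha h
  by_cases hMS : M ≤ Geo.quadSimilarityGroup Q ⊓ SL
  · exact Or.inl (le_antisymm hMS hSM)
  right
  refine le_antisymm hMSL ?_
  obtain ⟨g, hgM, hgS⟩ := SetLike.not_le_iff_exists.1 hMS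
  have hM : ∀ a b (ha : Q a ≠ 0) (hb : Q b ≠ 0), rfl' hQ h2 a ha * rfl' hQ h2 b hb ∈ M :=
    fun a b ha hb => hSM (S5644.refl_pair_mem hQ h2 a b ha hb)
  have hsg : ∀ e c (he : Q e = 0) (hec : polar Q e c = 0), sg hQ e c he hec ∈ M :=
    fun e c he hec => hSM ⟨⟨1, fun v => by rw [Units.val_one, one_mul, sg_iso hQ]⟩,
      sg_mem_specialLinear hQ e c he hec⟩
  by_cases hmove : ∃ e, Q e = 0 ∧ Q ((g : Matrix (Fin 4) (Fin 4) F) *ᵥ e) ≠ 0
  · obtain ⟨e, he, hge⟩ := hmove
    obtain ⟨v, ψ, hv, hψ, hT⟩ := exists_tv_four hQ h2 hM hsg (Fintype.card_fin 4) hgM he hge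
    exact specialLinear_le_of_tv hQ h2 hsg hn hv hψ hT
  exfalso
  push Not at hmove
  apply hgS
  refine ⟨?_, hMSL hgM⟩
  have hQg : Geo.IsNondegenerateQuadraticForm
      fun x => Q ((g : Matrix (Fin 4) (Fin 4) F) *ᵥ x) := by
    have := S5644.twist hQ g⁻¹
    rwa [inv_inv] at this
  obtain ⟨l, hl⟩ := eq_smul_of_zeros hQ h2 hn hQg hmove
  have hl0 : l ≠ 0 := by
    rintro rfl
    obtain ⟨a, -, ha⟩ := exists_aniso_ker hQg h2 (![] : Fin 0 → Fin 4 → F) (by omega)
    exact ha (by rw [hl a, zero_mul])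
  exact ⟨Units.mk0 l hl0, hl⟩

end Cfsg.Agent.H69.SLFour
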