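import Cfsg.Agent.H69.SLFour.Frame
import Cfsg.Agent.H69.SLFour.Planes
import Cfsg.Agent.H69.SLFour.Quad
import Cfsg.Agent.H69.SLFour.Unitary
import Cfsg.Agent.S5639
import Cfsg.Agent.S5886
import Cfsg.Agent.H98.SmallLinear.Subspace
import Cfsg.Agent.H57.SLSmall.Geometric

/-!
The clauses of the geometric maximality statement for `SL₄` apart from the symplectic-type normaliser.
-/

set_option autoImplicit false

open Cfsg

namespace Cfsg.Agent.H69.SLFour

open scoped MatrixGroups Matrix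
open Matrix Cfsg.Agent.H95

variable {F : Type*} [Field F] [Fintype F]

theorem lines_maximal (hq : 7 ≤ Fintype.card F) {t : ℕ} (D : Fin t → Submodule F (Fin 4 → F))
    (hD : Geo.IsMDecomposition 1 D) :
    Geo.IsMaximalIn (Geo.specialLinear (Fin 4) F)
      (Geo.decompositionStabilizer D ⊓ Geo.specialLinear (Fin 4) F) := by
  have ht := hD.two_le
  set i : Fin t := ⟨0, by omega⟩
  set j : Fin t := ⟨1, by omega⟩
  have hij : i ≠ j := by simp [i, j, Fin.ext_iff]
  refine ⟨lt_of_le_of_ne inf_le_right ?_, fun M hSM hMSL => ?_⟩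
  · intro hEq
    set a := blockBasis D hD ⟨i, 0⟩
    set c := blockBasis D hD ⟨j, 0⟩
    have h0 : crdVec hD ⟨j, 0⟩ ⬝ᵥ a = 0 := by
      rw [crdVec_dot, crd_basis, if_neg]
      intro e
      exact hij (congrArg Sigma.fst e)
    refine not_mem_decompositionStabilizer hD (blockBasis_mem hD ⟨j, 0⟩) hij
      (g := tv a _ h0) (ja := 0) (jb := 0) ?_ ?_ ?_
    · rw [tv_mulVec, crdVec_dot, crd_basis, if_pos rfl, one_smul, crd_add, crd_basis, crd_basis,
        if_neg (fun e => hij (congrArg Sigma.fst e).symm), if_pos rfl, zero_add]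
      exact one_ne_zero
    · rw [tv_mulVec, crdVec_dot, crd_basis, if_pos rfl, one_smul, crd_add, crd_basis, crd_basis,
        if_pos rfl, if_neg (fun e => hij (congrArg Sigma.fst e)), add_zero]
      exact one_ne_zero
    · exact (hEq.symm ▸ tv_mem_specialLinear a _ h0 :
        tv a _ h0 ∈ Geo.decompositionStabilizer D ⊓ Geo.specialLinear (Fin 4) F).1
  by_cases hMS : M ≤ Geo.decompositionStabilizer D ⊓ Geo.specialLinear (Fin 4) F
  · exact Or.inl (le_antisymm hMS hSM)
  right
  obtain ⟨g, hgM, hgS⟩ := SetLike.not_le_iff_exists.1 hMS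
  exact le_antisymm hMSL (specialLinear_le_of_lines_four hD hq (Fintype.card_fin 4) hSM hMSL hgM
    fun h => hgS ⟨h, hMSL hgM⟩)

theorem planes_maximal (hq : 4 ≤ Fintype.card F) (D : Fin 2 → Submodule F (Fin 4 → F))
    (hD : Geo.IsMDecomposition 2 D) :
    Geo.IsMaximalIn (Geo.specialLinear (Fin 4) F)
      (Geo.decompositionStabilizer D ⊓ Geo.specialLinear (Fin 4) F) := by
  have hij : (0 : Fin 2) ≠ 1 := by decide
  refine ⟨lt_of_le_of_ne inf_le_right ?_, fun M hSM hMSL => ?_⟩
  · intro hEq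
    set a := blockBasis D hD ⟨0, 0⟩
    set c := blockBasis D hD ⟨1, 0⟩
    have h0 : crdVec hD ⟨1, 0⟩ ⬝ᵥ a = 0 := by
      rw [crdVec_dot, crd_basis, if_neg]
      intro e
      exact hij (congrArg Sigma.fst e)
    refine not_mem_decompositionStabilizer hD (blockBasis_mem hD ⟨1, 0⟩) hij
      (g := tv a _ h0) (ja := 0) (jb := 0) ?_ ?_ ?_
    · rw [tv_mulVec, crdVec_dot, crd_basis, if_pos rfl, one_smul, crd_add, crd_basis, crd_basis,
        if_neg (fun e => hij (congrArg Sigma.fst e).symm), if_pos rfl, zero_add]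
      exact one_ne_zero
    · rw [tv_mulVec, crdVec_dot, crd_basis, if_pos rfl, one_smul, crd_add, crd_basis, crd_basis,
        if_pos rfl, if_neg (fun e => hij (congrArg Sigma.fst e)), add_zero]
      exact one_ne_zero
    · exact (hEq.symm ▸ tv_mem_specialLinear a _ h0 :
        tv a _ h0 ∈ Geo.decompositionStabilizer D ⊓ Geo.specialLinear (Fin 4) F).1
  by_cases hMS : M ≤ Geo.decompositionStabilizer D ⊓ Geo.specialLinear (Fin 4) F
  · exact Or.inl (le_antisymm hMS hSM)
  right
  obtain ⟨g, hgM, hgS⟩ := SetLike.not_le_iff_exists.1 hMS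
  exact le_antisymm hMSL (specialLinear_le_of_planes hD hq hSM hgM
    fun h => hgS ⟨h, hMSL hgM⟩)

theorem extension_maximal (K : Subalgebra F (Matrix (Fin 4) (Fin 4) F))
    (hK : Geo.IsFieldSubalgebra 2 K) :
    Geo.IsMaximalIn (Geo.specialLinear (Fin 4) F)
      (Geo.subalgebraNormalizer K ⊓ Geo.specialLinear (Fin 4) F) :=
  (S5886.result 4 2 Nat.prime_two (by norm_num) (by norm_num) K hK).2

theorem subfield_maximal_four (F₀ : Subfield F) (r : ℕ) (P : GL (Fin 4) F) (hr : r.Prime)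
    (hcard : Fintype.card F = Nat.card F₀ ^ r) :
    Geo.IsMaximalIn (Geo.specialLinear (Fin 4) F)
      (Geo.subfieldSubgroup F₀ P ⊓ Geo.specialLinear (Fin 4) F) := by
  obtain ⟨hlt, hmax⟩ := S5639.standard (ι := Fin 4) F₀ hr hcard (Fintype.card_fin 4).ge
  set SL := Geo.specialLinear (Fin 4) F with hSL
  haveI : SL.Normal := by rw [hSL, Geo.specialLinear]; infer_instance
  set c : GL (Fin 4) F ≃* GL (Fin 4) F := MulAut.conj P with hc
  have hSLc : SL.map c.toMonoidHom = SL := by
    refine le_antisymm ?_ ?_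
    · rintro _ ⟨x, hx, rfl⟩
      exact Subgroup.Normal.conj_mem inferInstance x hx P
    · intro x hx
      refine ⟨c.symm x, ?_, c.apply_symm_apply x⟩
      show P⁻¹ * x * P ∈ SL
      simpa using Subgroup.Normal.conj_mem inferInstance x hx P⁻¹
  have hS : (baseGrp F₀ (Fin 4) ⊓ SL).map c.toMonoidHom = Geo.subfieldSubgroup F₀ P ⊓ SL := by
    rw [Subgroup.map_inf _ _ _ c.injective, hSLc]
    rfl
  rw [← hS]
  conv => congr; rw [← hSLc]
  refine ⟨(Subgroup.map_lt_map_iff_of_injective c.injective).2 hlt, fun M h1 h2 => ?_⟩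
  have h1' : baseGrp F₀ (Fin 4) ⊓ SL ≤ M.comap c.toMonoidHom := Subgroup.map_le_iff_le_comap.1 h1
  have h2' : M.comap c.toMonoidHom ≤ SL := by
    intro x hx
    obtain ⟨y, hy, hxy⟩ := h2 hx
    rwa [c.injective hxy] at hy
  have hM : (M.comap c.toMonoidHom).map c.toMonoidHom = M :=
    Subgroup.map_comap_eq_self_of_surjective c.surjective M
  rcases hmax _ h1' h2' with h | h
  · left; rw [← hM, h]
  · right; rw [← hM, h]

end Cfsg.Agent.H69.SLFour
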