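import Cfsg.Agent.H95.BlockMax

/-!
Stabilisers of four independent lines in dimension four, fields with at least seven elements.
-/

set_option autoImplicit false

open Cfsg

namespace Cfsg.Agent.H69.SLFour

open scoped MatrixGroups Matrix
open Matrix
open Cfsg.Agent.H95

variable {ι : Type} [Fintype ι] [DecidableEq ι] {F : Type*} [Field F]

set_option linter.unusedSectionVars false

attribute [-simp] Matrix.coe_units_inv

lemma entry_mp_conj (g : GL ι F) (c : ι → Fˣ) (i j : ι) :
    ((g * mp 1 c * g⁻¹ : GL ι F) : Matrix ι ι F) i j =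
      ∑ t, (g : Matrix ι ι F) i t * ((c t : F) * ((g⁻¹ : GL ι F) : Matrix ι ι F) t j) := by
  refine (mulVec_single_one_apply _ j i).symm.trans ?_
  rw [mul_mulVec, mul_mulVec]
  show ∑ t, (g : Matrix ι ι F) i t *
    (((mp 1 c : GL ι F) : Matrix ι ι F) *ᵥ
      (((g⁻¹ : GL ι F) : Matrix ι ι F) *ᵥ Pi.single j 1)) t = _
  refine Finset.sum_congr rfl fun t _ => ?_
  rw [mp_apply, Equiv.Perm.one_apply, mulVec_single_one_apply]

lemma products_col (g : GL ι F) (l : ι) :
    ∑ t, (g : Matrix ι ι F) t l * ((g⁻¹ : GL ι F) : Matrix ι ι F) l t = 1 := by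
  have h : ((g⁻¹ * g : GL ι F) : Matrix ι ι F) l l = 1 := by
    rw [inv_mul_cancel, Units.val_one, one_apply_eq]
  rw [Units.val_mul, Matrix.mul_apply] at h
  rw [← h]
  exact Finset.sum_congr rfl fun t _ => mul_comm _ _

lemma products_row (g : GL ι F) (p : ι) :
    ∑ t, (g : Matrix ι ι F) p t * ((g⁻¹ : GL ι F) : Matrix ι ι F) t p = 1 := by
  have h : ((g * g⁻¹ : GL ι F) : Matrix ι ι F) p p = 1 := by
    rw [mul_inv_cancel, Units.val_one, one_apply_eq]
  rwa [Units.val_mul, Matrix.mul_apply] at h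

/-- Diagonal, `x` everywhere except `x⁻³` at `r`. -/
def dg (r : ι) (x : Fˣ) : GL ι F := mp 1 (Function.update (fun _ => x) r (x ^ 3)⁻¹)

lemma dg_apply (r : ι) (x : Fˣ) (z : ι → F) (i : ι) :
    ((dg r x : Matrix ι ι F) *ᵥ z) i = (if i = r then ((x : F) ^ 3)⁻¹ else (x : F)) * z i := by
  rw [dg, mp_apply, Equiv.Perm.one_apply]
  congr 1
  split_ifs with h
  · subst h; simp
  · simp [h]

lemma dg_mulVec (r : ι) (x : Fˣ) (z : ι → F) :
    (dg r x : Matrix ι ι F) *ᵥ z =
      (x : F) • z + ((((x : F) ^ 3)⁻¹ - (x : F)) * z r) • Pi.single r 1 := by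
  ext i
  rw [dg_apply]
  split_ifs with h
  · subst h; simp; ring
  · simp [h]

lemma dg_inv (r : ι) (x : Fˣ) : (dg r x)⁻¹ = dg r x⁻¹ := by
  refine inv_eq_of_mul_eq_one_right (gl_ext fun z => ?_)
  ext i
  rw [mul_mulVec, Units.val_one, one_mulVec, dg_apply, dg_apply]
  split_ifs with h
  · simp
  · simp [Units.val_inv_eq_inv_val]

section

variable [Fintype F] {M : Subgroup (GL ι F)}
  (hmp : ∀ σ c, (mp σ c : Matrix ι ι F).det = 1 → mp σ c ∈ M) (hι : Fintype.card ι = 4)
include hmp hι

lemma dg_mem (r : ι) (x : Fˣ) : dg r x ∈ M := by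
  refine hmp _ _ ?_
  rw [mp_det, Equiv.Perm.sign_one, Units.val_one, Int.cast_one, mul_one,
    ← Finset.mul_prod_erase Finset.univ _ (Finset.mem_univ r), Function.update_self,
    Finset.prod_congr rfl (g := fun _ => (x : F)) (fun i hi => by
      rw [Function.update_of_ne (Finset.ne_of_mem_erase hi)]),
    Finset.prod_const, Finset.card_erase_of_mem (Finset.mem_univ r), Finset.card_univ, hι]
  simp

variable {x : Fˣ} (hx : (x : F) ^ 4 ≠ 1)
include hx

lemma ratio_ne : ((x : F) ^ 3)⁻¹ - (x : F) ≠ 0 := by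
  rw [sub_ne_zero]
  intro h
  apply hx
  calc (x : F) ^ 4 = (x : F) * (x : F) ^ 3 := by ring
    _ = ((x : F) ^ 3)⁻¹ * (x : F) ^ 3 := by rw [h]
    _ = 1 := inv_mul_cancel₀ (pow_ne_zero _ x.ne_zero)

/-- Isolating a coordinate of the covector. -/
lemma isolate_covec {a ψ : ι → F} (h : InTv M a ψ) {r : ι} (hψ : ψ r ≠ 0) (har : a r = 0) :
    ∃ s : F, s ≠ 0 ∧ InTv M a (s • Pi.single r 1) := by
  have hc : (dg r x : Matrix ι ι F) *ᵥ a = (x : F) • a := by
    rw [dg_mulVec, har, mul_zero, zero_smul, add_zero]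
  have h1 := h.conj (dg_mem hmp hι r x)
  rw [hc] at h1
  have h2 := h1.1
  rw [dotProduct_smul, smul_eq_mul] at h2
  have h3 := (inTv_smul_right h1 ((mul_eq_zero.1 h2).resolve_left x.ne_zero)).sub_right h
  refine ⟨((x : F) ^ 4 - 1) * ψ r, mul_ne_zero (sub_ne_zero.2 hx) hψ, ?_⟩
  convert h3 using 1
  ext i
  rw [dg, vecMul_mp_inv]
  rcases eq_or_ne i r with rfl | hi
  · simp [Units.val_inv_eq_inv_val]; ring
  · simp [hi, mul_div_assoc', mul_div_cancel_left₀ _ x.ne_zero]

/-- Isolating a coordinate of the centre. -/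
lemma isolate_centre {a ψ : ι → F} (h : InTv M a ψ) {r : ι} (ha : a r ≠ 0) (hψr : ψ r = 0) :
    ∃ s : F, s ≠ 0 ∧ InTv M (s • Pi.single r 1) ψ := by
  have h0 := h.1
  have hcov : ψ ᵥ* (((dg r x)⁻¹ : GL ι F) : Matrix ι ι F) = (x : F)⁻¹ • ψ := by
    ext i
    rw [dg, vecMul_mp_inv]
    rcases eq_or_ne i r with rfl | hi
    · simp [hψr]
    · simp [hi, div_eq_inv_mul]
  have h1 := h.conj (dg_mem hmp hι r x)
  rw [hcov] at h1
  have h0' := h1.1
  rw [smul_dotProduct, smul_eq_mul] at h0'
  have h3 := (inTv_smul_left h1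
    ((mul_eq_zero.1 h0').resolve_left (inv_ne_zero x.ne_zero))).sub_left h
  refine ⟨(x : F)⁻¹ * ((((x : F) ^ 3)⁻¹ - (x : F)) * a r),
    mul_ne_zero (inv_ne_zero x.ne_zero) (mul_ne_zero (ratio_ne hmp hι hx) ha), ?_⟩
  convert h3 using 1
  rw [dg_mulVec, smul_add, smul_smul, inv_mul_cancel₀ x.ne_zero, one_smul, add_sub_cancel_left,
    smul_smul]

lemma hasElem_of_centre_out {a : ι → F} {r : ι} {s : F} (hs : s ≠ 0) (har : a r = 0) (ha : a ≠ 0)
    (h : InTv M a (s • Pi.single r 1)) : HasElem M := by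
  obtain ⟨p, hp⟩ := Function.ne_iff.1 ha
  have hpr : p ≠ r := fun e => hp (e ▸ har)
  obtain ⟨t, ht, h1⟩ := isolate_centre hmp hι hx (inTv_smul_left h (by simp [har]))
    (r := p) (by rw [Pi.smul_apply, smul_eq_mul]; exact mul_ne_zero hs hp) (by simp [hpr])
  exact ⟨p, r, hpr, t, ht, h1⟩

lemma hasElem_of_centre_in {a ψ : ι → F} (h : InTv M a ψ) {r : ι} (ha : a r ≠ 0) (hψr : ψ r = 0)
    (hψ : ψ ≠ 0) : HasElem M := by
  obtain ⟨s, hs, h1⟩ := isolate_centre hmp hι hx h ha hψr
  obtain ⟨m, hm⟩ := Function.ne_iff.1 hψ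
  have hmr : m ≠ r := fun e => hm (e ▸ hψr)
  obtain ⟨t, ht, h2⟩ := isolate_covec hmp hι hx h1 (r := m) hm (by simp [hmr])
  refine ⟨r, m, hmr.symm, t * s, mul_ne_zero ht hs, ?_⟩
  rw [← smul_smul]
  exact inTv_smul_left h2 (by simp [hmr])

/-- Two homologies with one centre give a transvection. -/
lemma tv_of_common_centre {g g₂ : GL ι F} (hg : g ∈ M) (hg₂ : g₂ ∈ M) {l : ι} {μ : F} (hμ : μ ≠ 0)
    (hcol : (g₂ : Matrix ι ι F) *ᵥ Pi.single l 1 = μ • (g : Matrix ι ι F) *ᵥ Pi.single l 1) :
    InTv M ((g : Matrix ι ι F) *ᵥ Pi.single l 1) ((((x : F) ^ 3)⁻¹ / x - 1) •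
      (μ • (fun t => ((g₂⁻¹ : GL ι F) : Matrix ι ι F) l t) -
        fun t => ((g⁻¹ : GL ι F) : Matrix ι ι F) l t)) := by
  set a := (g : Matrix ι ι F) *ᵥ Pi.single l 1 with ha
  have hdot : ∀ (h : GL ι F) z, (fun t => ((h⁻¹ : GL ι F) : Matrix ι ι F) l t) ⬝ᵥ z =
      (((h⁻¹ : GL ι F) : Matrix ι ι F) *ᵥ z) l := fun h z => rfl
  have h1 : (((g⁻¹ : GL ι F) : Matrix ι ι F) *ᵥ a) l = 1 := by
    rw [ha, inv_mulVec_mulVec, Pi.single_eq_same]
  have h2 : (((g₂⁻¹ : GL ι F) : Matrix ι ι F) *ᵥ a) l = μ⁻¹ := by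
    have := congrArg (fun v => (((g₂⁻¹ : GL ι F) : Matrix ι ι F) *ᵥ v) l) hcol
    simp only [inv_mulVec_mulVec, Pi.single_eq_same, mulVec_smul, Pi.smul_apply, smul_eq_mul] at this
    exact eq_inv_of_mul_eq_one_right this.symm
  have h0 : ((((x : F) ^ 3)⁻¹ / x - 1) • (μ • (fun t => ((g₂⁻¹ : GL ι F) : Matrix ι ι F) l t) -
        fun t => ((g⁻¹ : GL ι F) : Matrix ι ι F) l t)) ⬝ᵥ a = 0 := by
    rw [smul_dotProduct, sub_dotProduct, smul_dotProduct, hdot, hdot, h1, h2, smul_eq_mul,
      smul_eq_mul, mul_inv_cancel₀ hμ, sub_self, mul_zero]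
  refine ⟨h0, ?_⟩
  convert M.mul_mem (M.mul_mem (M.mul_mem hg₂ (dg_mem hmp hι l x)) (M.inv_mem hg₂))
    (M.mul_mem (M.mul_mem hg (dg_mem hmp hι l x⁻¹)) (M.inv_mem hg)) using 1
  refine gl_ext fun z => ?_
  have hx0 := x.ne_zero
  simp only [mul_mulVec, tv_mulVec, dg_mulVec, mulVec_add, mulVec_smul, mulVec_inv_mulVec, hcol,
    ← ha, Pi.add_apply, Pi.smul_apply, smul_eq_mul, h1, h2, smul_dotProduct, sub_dotProduct, hdot,
    Units.val_inv_eq_inv_val]
  ext i
  simp only [Pi.add_apply, Pi.smul_apply, smul_eq_mul]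
  field_simp
  ring

variable (hSL : M ≤ Geo.specialLinear ι F) (hq : 7 ≤ Fintype.card F)
include hSL hq

/-- The main statement for monomial matrices. -/
theorem hasElem_four {g₀ : GL ι F} (hg₀ : g₀ ∈ M) (hm₀ : ¬ IsMono g₀) : HasElem M := by
  classical
  by_contra hno
  set k := ((x : F) ^ 3)⁻¹ / x - 1 with hk
  have hk0 : k ≠ 0 := by
    rw [hk, sub_ne_zero, Ne, div_eq_iff x.ne_zero, one_mul, ← sub_eq_zero]
    exact ratio_ne hmp hι hx
  -- a zero of the column is a zero of the inverse row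
  have hsymm : ∀ g ∈ M, ∀ r l, (g : Matrix ι ι F) r l = 0 →
      ((g⁻¹ : GL ι F) : Matrix ι ι F) l r = 0 := by
    intro g hg r l hrl
    by_contra hne
    set a := (g : Matrix ι ι F) *ᵥ Pi.single l 1 with ha
    have har : a r = 0 := by rw [ha, mulVec_single_one_apply, hrl]
    have hcol : ((dg r x * g : GL ι F) : Matrix ι ι F) *ᵥ Pi.single l 1 = (x : F) • a := by
      rw [mul_mulVec, ← ha, dg_mulVec, har, mul_zero, zero_smul, add_zero]
    have h1 := tv_of_common_centre hmp hι hx hg (M.mul_mem (dg_mem hmp hι r x) hg) x.ne_zero hcol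
    have hrow : ∀ i, (((dg r x * g)⁻¹ : GL ι F) : Matrix ι ι F) l i =
        ((g⁻¹ : GL ι F) : Matrix ι ι F) l i * (if i = r then (x : F) ^ 3 else (x : F)⁻¹) := by
      intro i
      rw [_root_.mul_inv_rev, dg_inv, ← mulVec_single_one_apply
        ((g⁻¹ * dg r x⁻¹ : GL ι F) : Matrix ι ι F) i l, mul_mulVec]
      have e : (dg r x⁻¹ : Matrix ι ι F) *ᵥ Pi.single i 1 =
          (if i = r then (x : F) ^ 3 else (x : F)⁻¹) • Pi.single i 1 := by
        ext t
        rw [dg_apply]
        rcases eq_or_ne t i with rfl | hti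
        · split_ifs <;> simp [Units.val_inv_eq_inv_val]
        · simp [hti]
      rw [e, mulVec_smul, Pi.smul_apply, mulVec_single_one_apply, smul_eq_mul, mul_comm]
    refine hno (hasElem_of_centre_out hmp hι hx (s := k * (((x : F) ^ 4 - 1) *
      ((g⁻¹ : GL ι F) : Matrix ι ι F) l r)) ?_ har ?_ ?_)
    · exact mul_ne_zero hk0 (mul_ne_zero (sub_ne_zero.2 hx) hne)
    · intro e
      have := congrFun (inv_mulVec_mulVec g (Pi.single l 1)) l
      rw [← ha, e, mulVec_zero] at this
      simp at this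
    · convert h1 using 1
      ext i
      simp only [Pi.smul_apply, Pi.sub_apply, smul_eq_mul, hrow, hk]
      rcases eq_or_ne i r with rfl | hi
      · simp only [↓reduceIte, Pi.single_eq_same, mul_one]; ring
      · simp only [if_neg hi, Pi.single_eq_of_ne hi, mul_zero]; field_simp; ring
  -- no column of a non-monomial element is a multiple of a basis vector
  have hsingle : ∀ g ∈ M, ¬ IsMono g → ∀ n r, ∃ i, i ≠ r ∧ (g : Matrix ι ι F) i n ≠ 0 := by
    intro g hg hgm n r
    by_contra hcon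
    push Not at hcon
    set ε : Fˣ := Units.map (Int.castRingHom F).toMonoidHom (Equiv.Perm.sign (Equiv.swap n r))
      with hε
    set m := mp (Equiv.swap n r) (Function.update (1 : ι → Fˣ) n ε⁻¹) with hm
    have hmM : m ∈ M := by
      refine hmp _ _ ?_
      rw [mp_det, Finset.prod_eq_single n (fun t _ ht => by simp [ht]) (by simp),
        Function.update_self, show ((Equiv.Perm.sign (Equiv.swap n r) : ℤ) : F) = (ε : F) by simp [hε],
        Units.inv_mul]
    set g₁ := g * m with hg₁
    have hg₁M : g₁ ∈ M := M.mul_mem hg hmM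
    have hg₁P : g₁ ∈ lineFix M r := by
      refine ⟨hg₁M, fun a ha => ?_⟩
      rw [← mulVec_single_one_apply (g₁ : Matrix ι ι F) r a, hg₁, mul_mulVec, hm,
        mp_single _ _ (Equiv.swap_apply_left n r), mulVec_smul, Pi.smul_apply,
        mulVec_single_one_apply, hcon a ha, smul_zero]
    have hrowzero : ∀ h ∈ lineFix M r, ∀ c, c ≠ r → (h : Matrix ι ι F) r c = 0 := by
      intro h hh c hc
      have := hsymm h⁻¹ ((lineFix M r).inv_mem hh).1 c r (((lineFix M r).inv_mem hh).2 c hc)
      rwa [inv_inv] at this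
    have hg₁m : ¬ IsMono g₁ := by
      intro h
      apply hgm
      obtain ⟨σ, c, e⟩ := isMono_eq_mp h
      intro i
      refine ⟨σ.symm ((Equiv.swap n r) i), fun t ht => ?_⟩
      have e2 : g = mp σ c * m⁻¹ := by rw [← e, hg₁, mul_inv_cancel_right]
      have hminv : m⁻¹ = mp (Equiv.swap n r)⁻¹
          (fun s => ((Function.update (1 : ι → Fˣ) n ε⁻¹) ((Equiv.swap n r).symm s))⁻¹) := by
        refine inv_eq_of_mul_eq_one_right (gl_ext fun z => ?_)
        ext s
        rw [mul_mulVec, hm, mp_apply, mp_apply, Units.val_one, one_mulVec]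
        simp
      rw [e2, hminv]
      refine (mulVec_single_one_apply _ i t).symm.trans ?_
      rw [mul_mulVec, mp_apply, mp_apply]
      rw [Pi.single_eq_of_ne (fun h' => ht ?_), mul_zero, mul_zero]
      rw [← h', Equiv.eq_symm_apply]
      simp
    have hq5 : 5 ≤ Fintype.card F := by omega
    have hmp' : ∀ σ c, mp σ c ∈ (quotMap M r).range := fun σ c =>
      (quot_mp hmp r σ c).imp fun _ h => h.1
    have hnm : ¬ IsMono (quotMap M r ⟨g₁, hg₁P⟩) := by
      intro hA
      apply hg₁m
      intro i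
      rcases eq_or_ne i r with rfl | hi
      · exact ⟨i, fun a ha => hg₁P.2 a ha⟩
      · obtain ⟨j, hj⟩ := hA ⟨i, hi⟩
        refine ⟨j.1, fun a ha => ?_⟩
        rcases eq_or_ne a r with rfl | har
        · exact hrowzero _ hg₁P i hi
        · exact hj ⟨a, har⟩ fun e => ha (congrArg Subtype.val e)
    obtain ⟨a, b, hab, s, hs, h0, G, hG⟩ := hasElem_of_not_isMono hq5
      (by rw [Fintype.card_subtype_compl, Fintype.card_subtype_eq, hι]) hmp'
      ⟨⟨g₁, hg₁P⟩, rfl⟩ hnm
    have hab' : a.1 ≠ b.1 := fun e => hab (Subtype.ext e)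
    have hE0 : Pi.single b.1 (1 : F) ⬝ᵥ (s • Pi.single a.1 1 : ι → F) = 0 := by
      simp [Ne.symm hab']
    have hGr : (G.1 : Matrix ι ι F) r r ≠ 0 := by
      intro e
      have := products_col G.1 r
      rw [Finset.sum_eq_zero fun t _ => ?_] at this
      · exact zero_ne_one this
      · rcases eq_or_ne t r with rfl | ht
        · rw [e, zero_mul]
        · rw [G.2.2 t ht, zero_mul]
    set c : ι → Fˣ := Function.update 1 r (Units.mk0 _ hGr) with hc
    have hGeq : G.1 = tv (s • Pi.single a.1 1) (Pi.single b.1 1) hE0 * mp 1 c := by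
      refine gl_ext fun z => ?_
      ext i
      rw [mul_mulVec, tv_mulVec, single_dotProduct_one]
      show ((G.1 : Matrix ι ι F) *ᵥ z) i = _
      rw [Matrix.mulVec, dotProduct, Fintype.sum_eq_add_sum_subtype_ne _ r, Pi.add_apply, mp_apply,
        Pi.smul_apply, Pi.smul_apply, mp_apply, smul_eq_mul, smul_eq_mul, Equiv.Perm.one_apply,
        Equiv.Perm.one_apply]
      rcases eq_or_ne i r with rfl | hi
      · rw [Finset.sum_eq_zero fun (t : {m // m ≠ i}) _ => by
            rw [hrowzero _ G.2 t.1 t.2, zero_mul]]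
        simp [hc, Ne.symm a.2]
      · have hGi : ∀ t : {m // m ≠ r}, (G.1 : Matrix ι ι F) i t.1 =
            (if i = t.1 then 1 else 0) + (if i = a.1 then s else 0) * (if t.1 = b.1 then 1 else 0) := by
          intro t
          have := quotMap_apply G ⟨i, hi⟩ t
          rw [hG, tv_val, tvMat, Matrix.add_apply, one_apply, vecMulVec_apply] at this
          rw [← this]
          simp only [Pi.smul_apply, Pi.single_apply, smul_eq_mul, Subtype.ext_iff]
          split_ifs <;> simp
        rw [G.2.2 i hi, zero_mul, zero_add]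
        simp only [hGi, add_mul, Finset.sum_add_distrib, mul_assoc]
        rw [← Finset.mul_sum, Finset.sum_eq_single (⟨i, hi⟩ : {m // m ≠ r})
          (fun t _ ht => by rw [if_neg fun e => ht (Subtype.ext e.symm), zero_mul]) (by simp),
          Finset.sum_eq_single b (fun t _ ht => by rw [if_neg fun e => ht (Subtype.ext e), zero_mul])
            (by simp), if_pos rfl, if_pos rfl]
        simp [hc, hi, b.2, Pi.single_apply]
        split_ifs <;> ring
    have hdet : (mp 1 c : Matrix ι ι F).det = 1 := by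
      have h1 := mem_specialLinear_iff.1 (hSL G.2.1)
      rwa [hGeq, Units.val_mul, det_mul, mem_specialLinear_iff.1 (tv_mem_specialLinear _ _ hE0),
        one_mul] at h1
    refine hno ⟨a.1, b.1, hab', s, hs, hE0, ?_⟩
    rw [show tv (s • Pi.single a.1 1) (Pi.single b.1 1) hE0 = G.1 * (mp 1 c)⁻¹ by
      rw [hGeq, mul_inv_cancel_right]]
    exact M.mul_mem G.2.1 (M.inv_mem (hmp _ _ hdet))
  -- columns with a zero have exactly two non-zero entries with equal products
  have hpair : ∀ g ∈ M, ∀ l r p q, p ≠ q → (g : Matrix ι ι F) r l = 0 →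
      (g : Matrix ι ι F) p l ≠ 0 → (g : Matrix ι ι F) q l ≠ 0 →
      (∀ s, s ≠ p → s ≠ q → (g : Matrix ι ι F) s l = 0) ∧
      2 * ((g : Matrix ι ι F) p l * ((g⁻¹ : GL ι F) : Matrix ι ι F) l p) = 1 := by
    intro g hg l r p q hpq hr hp hq'
    set h := g * dg l x * g⁻¹ with hh
    set A := fun i j => (g : Matrix ι ι F) i l * ((g⁻¹ : GL ι F) : Matrix ι ι F) l j with hA
    have hent : ∀ i j, (h : Matrix ι ι F) i j =
        (x : F) * (if i = j then 1 else 0) + (((x : F) ^ 3)⁻¹ - (x : F)) * A i j := by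
      intro i j
      rw [hh]
      refine (mulVec_single_one_apply _ j i).symm.trans ?_
      rw [mul_mulVec, mul_mulVec, dg_mulVec, mulVec_add,
        mulVec_smul, mulVec_smul, mulVec_inv_mulVec]
      simp [hA, Pi.single_apply]
      ring
    have hkk := ratio_ne hmp hι hx
    have hg' : ∀ i, (g : Matrix ι ι F) i l ≠ 0 → ((g⁻¹ : GL ι F) : Matrix ι ι F) l i ≠ 0 := by
      intro i hi e
      have := hsymm g⁻¹ (M.inv_mem hg) l i e
      rw [inv_inv] at this
      exact hi this
    have hmono : IsMono h := by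
      by_contra hn
      obtain ⟨i, hi, hne⟩ := hsingle h (M.mul_mem (M.mul_mem hg (dg_mem hmp hι l x)) (M.inv_mem hg))
        hn r r
      apply hne
      rw [hent, if_neg hi, mul_zero, zero_add, hA]
      simp [hsymm g hg r l hr]
    have hcolp : ∀ p q, p ≠ q → (g : Matrix ι ι F) p l ≠ 0 → (g : Matrix ι ι F) q l ≠ 0 →
        (∀ s, s ≠ p → s ≠ q → (g : Matrix ι ι F) s l = 0) ∧
        (x : F) + (((x : F) ^ 3)⁻¹ - (x : F)) * A p p = 0 := by
      intro p q hpq hp hq'
      obtain ⟨j, hj⟩ := hmono p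
      have hqp : (h : Matrix ι ι F) q p ≠ 0 := by
        rw [hent, if_neg hpq.symm, mul_zero, zero_add]
        exact mul_ne_zero hkk (mul_ne_zero hq' (hg' p hp))
      have hjq : q = j := by by_contra e; exact hqp (hj q e)
      subst hjq
      refine ⟨fun s hsp hsq => ?_, ?_⟩
      · have := hj s hsq
        rw [hent, if_neg hsp, mul_zero, zero_add] at this
        exact (mul_eq_zero.1 ((mul_eq_zero.1 this).resolve_left hkk)).resolve_right (hg' p hp)
      · have := hj p hpq
        rwa [hent, if_pos rfl, mul_one] at this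
    obtain ⟨h1, h2⟩ := hcolp p q hpq hp hq'
    obtain ⟨-, h3⟩ := hcolp q p hpq.symm hq' hp
    have he : A p p = A q q := mul_left_cancel₀ hkk (by linear_combination h2 - h3)
    refine ⟨h1, ?_⟩
    have := products_col g l
    rw [Finset.sum_eq_add p q hpq (fun t _ ht => by rw [h1 t ht.1 ht.2, zero_mul]) (by simp)
      (by simp)] at this
    simp only [hA] at he ⊢
    linear_combination this + he
  -- full columns have all products equal to a quarter
  have hquarter : ∀ g ∈ M, ∀ l, (∀ i, (g : Matrix ι ι F) i l ≠ 0) → ∀ p,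
      4 * ((g : Matrix ι ι F) p l * ((g⁻¹ : GL ι F) : Matrix ι ι F) l p) = 1 := by
    intro g hg l hfull p
    set a := (g : Matrix ι ι F) *ᵥ Pi.single l 1 with ha
    have hai : ∀ i, a i = (g : Matrix ι ι F) i l := fun i => by rw [ha, mulVec_single_one_apply]
    have heq : ∀ i j, (g : Matrix ι ι F) i l * ((g⁻¹ : GL ι F) : Matrix ι ι F) l i =
        (g : Matrix ι ι F) j l * ((g⁻¹ : GL ι F) : Matrix ι ι F) l j := by
      intro u v
      rcases eq_or_ne u v with rfl | huv
      · rfl
      obtain ⟨w, -, hw⟩ := Finset.exists_mem_notMem_of_card_lt_card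
        (s := ({u, v} : Finset ι)) (t := Finset.univ)
        (lt_of_le_of_lt Finset.card_le_two (by rw [Finset.card_univ]; omega))
      obtain ⟨o, -, ho⟩ := Finset.exists_mem_notMem_of_card_lt_card
        (s := ({u, v, w} : Finset ι)) (t := Finset.univ)
        (lt_of_le_of_lt Finset.card_le_three (by rw [Finset.card_univ]; omega))
      simp at hw ho
      set σ := Equiv.swap u v * Equiv.swap v w with hσ
      set c : ι → Fˣ := fun i => Units.mk0 (a i / a (σ i))
        (div_ne_zero (by rw [hai]; exact hfull _) (by rw [hai]; exact hfull _)) with hc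
      have hsign : Equiv.Perm.sign σ = 1 := by
        rw [hσ, map_mul, Equiv.Perm.sign_swap huv, Equiv.Perm.sign_swap (Ne.symm hw.2)]
        decide
      have hmem : mp σ c ∈ M := by
        refine hmp _ _ ?_
        rw [mp_det, hsign, Units.val_one, Int.cast_one, mul_one]
        simp only [hc, Units.val_mk0]
        rw [Finset.prod_div_distrib, Equiv.prod_comp σ (fun i => a i),
          div_self (Finset.prod_ne_zero_iff.2 fun i _ => by rw [hai]; exact hfull _)]
      have hcol : ((mp σ c * g : GL ι F) : Matrix ι ι F) *ᵥ Pi.single l 1 = (1 : F) • a := by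
        rw [mul_mulVec, ← ha, one_smul]
        ext i
        rw [mp_apply]
        simp only [hc, Units.val_mk0]
        rw [div_mul_cancel₀ _ (by rw [hai]; exact hfull _)]
      have h1 := tv_of_common_centre hmp hι hx hg (M.mul_mem hmem hg) one_ne_zero hcol
      have hrow : ∀ i, (((mp σ c * g)⁻¹ : GL ι F) : Matrix ι ι F) l i =
          ((g⁻¹ : GL ι F) : Matrix ι ι F) l (σ i) / (c i : F) := by
        intro i
        rw [_root_.mul_inv_rev, Units.val_mul]
        exact congrFun (vecMul_mp_inv σ c fun t => ((g⁻¹ : GL ι F) : Matrix ι ι F) l t) i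
      have hσo : σ o = o := by
        rw [hσ, Equiv.Perm.mul_apply, Equiv.swap_apply_of_ne_of_ne ho.2.1 ho.2.2,
          Equiv.swap_apply_of_ne_of_ne ho.1 ho.2.1]
      have hco : (c o : F) = 1 := by simp [hc, hσo, hai, hfull o]
      by_contra hne
      refine hno (hasElem_of_centre_in hmp hι hx h1 (r := o) (by rw [← ha, hai]; exact hfull o) ?_ ?_)
      · simp only [Pi.smul_apply, Pi.sub_apply, smul_eq_mul, hrow, hσo, hco]
        ring
      · intro e
        apply hne
        have h3 := congrFun e v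
        have hσv : σ v ≠ v := by
          rw [hσ, Equiv.Perm.mul_apply, Equiv.swap_apply_left,
            Equiv.swap_apply_of_ne_of_ne hw.1 hw.2]
          exact hw.2
        have hσw : σ w = u := by
          rw [hσ, Equiv.Perm.mul_apply, Equiv.swap_apply_right, Equiv.swap_apply_right]
        have hσu : σ u = v := by
          rw [hσ, Equiv.Perm.mul_apply, Equiv.swap_apply_of_ne_of_ne huv (Ne.symm hw.1),
            Equiv.swap_apply_left]
        have h4 := congrFun e u
        simp only [Pi.smul_apply, Pi.sub_apply, smul_eq_mul, hrow, Pi.zero_apply, one_mul] at h4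
        simp only [hc, Units.val_mk0, hσu, hai, mul_eq_zero, sub_eq_zero] at h4
        replace h4 := h4.resolve_left (by rw [← sub_eq_zero]; exact hk0)
        have := hfull u
        have := hfull v
        field_simp at h4
        linear_combination -h4
    have h1 := products_col g l
    rw [Finset.sum_congr rfl fun t _ => heq t p, Finset.sum_const, Finset.card_univ, hι,
      nsmul_eq_mul] at h1
    exact_mod_cast h1
  -- nothing has exactly one non-zero in a column, so zeros come in pairs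
  have hzero : ∀ g ∈ M, ¬ IsMono g → ∀ r l, (g : Matrix ι ι F) r l = 0 → ∀ p,
      (g : Matrix ι ι F) p l ≠ 0 →
      2 * ((g : Matrix ι ι F) p l * ((g⁻¹ : GL ι F) : Matrix ι ι F) l p) = 1 := by
    intro g hg hgm r l hr p hp
    obtain ⟨q, hqp, hq'⟩ := hsingle g hg hgm l p
    exact (hpair g hg l r p q hqp.symm hr hp hq').2
  -- hence there is no zero at all
  have hfullAll : ∀ g ∈ M, ¬ IsMono g → ∀ r l, (g : Matrix ι ι F) r l ≠ 0 := by
    intro g hg hgm p m hpm
    have hgm' : ¬ IsMono g⁻¹ := fun h => hgm (inv_inv g ▸ isMono_inv h)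
    obtain ⟨l, hl⟩ : ∃ l, (g : Matrix ι ι F) p l ≠ 0 := by
      by_contra hcon
      push Not at hcon
      have := products_row g p
      rw [Finset.sum_eq_zero fun t _ => by rw [hcon t, zero_mul]] at this
      exact zero_ne_one this
    have hmp' : ((g⁻¹ : GL ι F) : Matrix ι ι F) m p = 0 := hsymm g hg p m hpm
    have hlp : ((g⁻¹ : GL ι F) : Matrix ι ι F) l p ≠ 0 := fun e => hl (by
      have := hsymm g⁻¹ (M.inv_mem hg) l p e
      rwa [inv_inv] at this)
    have hhalf : 2 * ((g : Matrix ι ι F) p l * ((g⁻¹ : GL ι F) : Matrix ι ι F) l p) = 1 := by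
      have := hzero g⁻¹ (M.inv_mem hg) hgm' m p hmp' l hlp
      rw [inv_inv] at this
      linear_combination this
    have h2 : (2 : F) ≠ 0 := fun e => by rw [e, zero_mul] at hhalf; exact zero_ne_one hhalf
    -- the column `l` has exactly two non-zero entries
    obtain ⟨q, hqp, hq'⟩ := hsingle g hg hgm l p
    obtain ⟨r, hr⟩ : ∃ r, (g : Matrix ι ι F) r l = 0 := by
      by_contra hcon
      push Not at hcon
      have h4 := hquarter g hg l hcon p
      have : (1 : F) = 0 := by linear_combination h4 - 2 * hhalf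
      exact one_ne_zero this
    obtain ⟨hout, -⟩ := hpair g hg l r p q hqp.symm hr hl hq'
    obtain ⟨ν, hν1, hν2⟩ : ∃ ν : Fˣ, (ν : F) ^ 2 ≠ 1 ∧ (ν : F) ^ 2 ≠ -1 := by
      by_contra hcon
      push Not at hcon
      let P : Polynomial F := Polynomial.X ^ 4 - Polynomial.C 1
      have hP : P ≠ 0 := (Polynomial.monic_X_pow_sub_C (1 : F) (n := 4) (by norm_num)).ne_zero
      refine hP (Polynomial.eq_zero_of_natDegree_lt_card_of_eval_eq_zero P
        (f := fun ν : Fˣ => (ν : F)) (fun _ _ h => Units.ext h) (fun ν => ?_) ?_)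
      · simp only [P, Polynomial.eval_sub, Polynomial.eval_pow, Polynomial.eval_X, Polynomial.eval_C]
        rcases eq_or_ne ((ν : F) ^ 2) 1 with h | h
        · linear_combination ((ν : F) ^ 2 + 1) * h
        · linear_combination ((ν : F) ^ 2 - 1) * hcon ν h
      · rw [Fintype.card_units]
        simp only [P, Polynomial.natDegree_X_pow_sub_C]
        omega
    have hlm : l ≠ m := fun e => hl (e ▸ hpm)
    set d := g * pr l m ν * g⁻¹ with hd
    have hdent : ∀ i, (d : Matrix ι ι F) i p = (if i = p then 1 else 0) +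
        ((ν : F) - 1) * ((g : Matrix ι ι F) i l * ((g⁻¹ : GL ι F) : Matrix ι ι F) l p) := by
      intro i
      rw [hd]
      refine (mulVec_single_one_apply _ p i).symm.trans ?_
      rw [mul_mulVec, mul_mulVec, pr_mulVec hlm, mulVec_add,
        mulVec_add, mulVec_smul, mulVec_smul, mulVec_inv_mulVec]
      simp [Pi.single_apply, hmp']
      ring
    have hdinv : d⁻¹ = g * pr l m ν⁻¹ * g⁻¹ := by
      have : (pr l m ν)⁻¹ = pr l m ν⁻¹ := by
        refine inv_eq_of_mul_eq_one_right (gl_ext fun z => ?_)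
        ext t
        rw [mul_mulVec, Units.val_one, one_mulVec, pr, pr, mp_apply, mp_apply]
        by_cases htl : t = l
        · subst htl; simp [hlm]
        by_cases htm : t = m
        · subst htm; simp [Ne.symm hlm]
        · simp [htl, htm]
      rw [hd, _root_.mul_inv_rev, _root_.mul_inv_rev, inv_inv, this, mul_assoc]
    have hdpp' : ((d⁻¹ : GL ι F) : Matrix ι ι F) p p = 1 + ((ν : F)⁻¹ - 1) *
        ((g : Matrix ι ι F) p l * ((g⁻¹ : GL ι F) : Matrix ι ι F) l p) := by
      rw [hdinv]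
      refine (mulVec_single_one_apply _ p p).symm.trans ?_
      rw [mul_mulVec, mul_mulVec, pr_mulVec hlm, mulVec_add,
        mulVec_add, mulVec_smul, mulVec_smul, mulVec_inv_mulVec]
      simp [hmp', Units.val_inv_eq_inv_val]
      ring
    have hν0 : (ν : F) ≠ 1 := fun e => hν1 (by rw [e, one_pow])
    have hdpp : (d : Matrix ι ι F) p p ≠ 0 := by
      rw [hdent, if_pos rfl]
      intro e
      apply hν1
      have h3 : (ν : F) = -1 := by linear_combination 2 * e - ((ν : F) - 1) * hhalf
      rw [h3]; ring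
    have hdqp : (d : Matrix ι ι F) q p ≠ 0 := by
      rw [hdent, if_neg hqp, zero_add]
      exact mul_ne_zero (sub_ne_zero.2 hν0) (mul_ne_zero hq' hlp)
    have hdM : d ∈ M := M.mul_mem (M.mul_mem hg (pr_mem hmp hlm ν)) (M.inv_mem hg)
    obtain ⟨s, hsp, hsq⟩ : ∃ s, s ≠ p ∧ s ≠ q := by
      obtain ⟨s, -, hs⟩ := Finset.exists_mem_notMem_of_card_lt_card
        (s := ({p, q} : Finset ι)) (t := Finset.univ)
        (lt_of_le_of_lt Finset.card_le_two (by rw [Finset.card_univ]; omega))
      simp at hs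
      exact ⟨s, hs⟩
    obtain ⟨-, h1⟩ := hpair d hdM p s p q hqp.symm (by
      rw [hdent, if_neg hsp, hout s hsp hsq]; ring) hdpp hdqp
    rw [hdent, if_pos rfl, hdpp'] at h1
    apply hν2
    set u := (g : Matrix ι ι F) p l * ((g⁻¹ : GL ι F) : Matrix ι ι F) l p
    have hu : u = 2⁻¹ := eq_inv_of_mul_eq_one_right hhalf
    rw [hu] at h1
    have := ν.ne_zero
    field_simp at h1
    linear_combination h1
  -- but a conjugate of a diagonal element has one
  have hm₀' : ¬ IsMono g₀⁻¹ := fun h => hm₀ (inv_inv g₀ ▸ isMono_inv h)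
  have hA := hfullAll g₀ hg₀ hm₀
  have hA' := hfullAll g₀⁻¹ (M.inv_mem hg₀) hm₀'
  have h4 : ∀ p l, 4 * ((g₀ : Matrix ι ι F) p l * ((g₀⁻¹ : GL ι F) : Matrix ι ι F) l p) = 1 :=
    fun p l => hquarter g₀ hg₀ l (fun i => hA i l) p
  have h40 : (4 : F) ≠ 0 := by
    haveI : Nonempty ι := Fintype.card_pos_iff.1 (by omega)
    obtain ⟨p⟩ := ‹Nonempty ι›
    intro e
    have := h4 p p
    rw [e, zero_mul] at this
    exact zero_ne_one this
  have h20 : (2 : F) ≠ 0 := fun e => h40 (by linear_combination 2 * e)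
  obtain ⟨p, q, hqp⟩ := Fintype.exists_pair_of_one_lt_card (α := ι) (by omega)
  set c : ι → F := fun t => (g₀ : Matrix ι ι F) q t * ((g₀⁻¹ : GL ι F) : Matrix ι ι F) t p with hc
  have hc0 : ∀ t, c t ≠ 0 := fun t => mul_ne_zero (hA _ _) (hA' _ _)
  have hcsum : ∑ t, c t = 0 := by
    have h : ((g₀ * g₀⁻¹ : GL ι F) : Matrix ι ι F) q p = 0 := by
      rw [mul_inv_cancel, Units.val_one, one_apply_ne hqp.symm]
    rwa [Units.val_mul, Matrix.mul_apply] at h
  obtain ⟨dd, hdd, hddc, hdds, t₁, t₂, hne⟩ : ∃ dd : ι → Fˣ, ((mp 1 dd : GL ι F) : Matrix ι ι F).det = 1 ∧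
      ∑ t, (dd t : F) * c t = 0 ∧ ∑ t, (dd t : F) ≠ 0 ∧ ∃ t₁ t₂, dd t₁ ≠ dd t₂ := by
    by_cases hsq : ∃ i j, c i ^ 2 ≠ c j ^ 2
    · obtain ⟨i, j, hij⟩ := hsq
      have hne : i ≠ j := fun e => hij (by rw [e])
      set ν : Fˣ := Units.mk0 (c j / c i) (div_ne_zero (hc0 j) (hc0 i)) with hν
      have hνv : (ν : F) = c j / c i := rfl
      have hν1 : (ν : F) ^ 2 ≠ 1 := by
        rw [hνv, div_pow, Ne, div_eq_iff (pow_ne_zero _ (hc0 i)), one_mul]
        exact Ne.symm hij
      have hsum : ∀ f : ι → F, ∑ t, ((Function.update (Function.update (1 : ι → Fˣ) i ν) j ν⁻¹ t : Fˣ) : F) * f t =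
          ∑ t, f t + ((ν : F) - 1) * f i + ((ν : F)⁻¹ - 1) * f j := by
        intro f
        have : ∀ t, ((Function.update (Function.update (1 : ι → Fˣ) i ν) j ν⁻¹ t : Fˣ) : F) * f t =
            f t + (if t = i then ((ν : F) - 1) * f i else 0) +
              (if t = j then ((ν : F)⁻¹ - 1) * f j else 0) := by
          intro t
          by_cases hti : t = i
          · subst hti; simp [hne]; ring
          by_cases htj : t = j
          · subst htj; simp [hne.symm, Units.val_inv_eq_inv_val]; ring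
          · simp [hti, htj]
        simp only [this, Finset.sum_add_distrib, Finset.sum_ite_eq', Finset.mem_univ, if_true]
      refine ⟨_, pr_det hne ν, ?_, ?_, i, j, ?_⟩
      · rw [hsum, hcsum, hνv]
        have := hc0 i
        have := hc0 j
        field_simp
        ring
      · have := hsum 1
        simp only [Pi.one_apply, mul_one, Finset.sum_const, Finset.card_univ, hι, nsmul_eq_mul,
          Nat.cast_ofNat] at this
        rw [this]
        intro e
        apply hν1
        have hν0 := ν.ne_zero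
        field_simp at e
        have h3 : ((ν : F) + 1) ^ 2 = 0 := by linear_combination e
        rw [pow_eq_zero_iff two_ne_zero, add_eq_zero_iff_eq_neg] at h3
        rw [h3]; ring
      · simp only [Function.update_self, Function.update_of_ne hne]
        intro e
        apply hν1
        have := congrArg (fun u : Fˣ => (u : F)) (congrArg (· * ν) e)
        simp only [inv_mul_cancel, Units.val_mul, Units.val_one] at this
        rw [sq]; exact this
    push Not at hsq
    have hpm : ∀ t, c t = c p ∨ c t = -c p := fun t => sq_eq_sq_iff_eq_or_eq_neg.1 (hsq t p)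
    obtain ⟨i, hi⟩ : ∃ i, c i = -c p := by
      by_contra hcon
      push Not at hcon
      rw [Finset.sum_congr rfl fun t _ => (hpm t).resolve_right (hcon t), Finset.sum_const,
        Finset.card_univ, hι, nsmul_eq_mul, Nat.cast_ofNat] at hcsum
      exact mul_ne_zero h40 (hc0 p) hcsum
    have hip : i ≠ p := fun e => by
      rw [e] at hi
      exact mul_ne_zero h20 (hc0 p) (by linear_combination hi)
    obtain ⟨lam, hl1, hl2⟩ : ∃ ν : Fˣ, (ν : F) ^ 2 ≠ 1 ∧ (ν : F) ^ 2 ≠ -1 := by
      by_contra hcon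
      push Not at hcon
      let P : Polynomial F := Polynomial.X ^ 4 - Polynomial.C 1
      have hP : P ≠ 0 := (Polynomial.monic_X_pow_sub_C (1 : F) (n := 4) (by norm_num)).ne_zero
      refine hP (Polynomial.eq_zero_of_natDegree_lt_card_of_eval_eq_zero P
        (f := fun ν : Fˣ => (ν : F)) (fun _ _ h => Units.ext h) (fun ν => ?_) ?_)
      · simp only [P, Polynomial.eval_sub, Polynomial.eval_pow, Polynomial.eval_X, Polynomial.eval_C]
        rcases eq_or_ne ((ν : F) ^ 2) 1 with h | h
        · linear_combination ((ν : F) ^ 2 + 1) * h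
        · linear_combination ((ν : F) ^ 2 - 1) * hcon ν h
      · rw [Fintype.card_units]
        simp only [P, Polynomial.natDegree_X_pow_sub_C]
        omega
    set dd : ι → Fˣ := fun t => if t = i ∨ t = p then lam else lam⁻¹ with hdd
    have hsum : ∀ f : ι → F, ∑ t, (dd t : F) * f t =
        (lam : F)⁻¹ * ∑ t, f t + ((lam : F) - (lam : F)⁻¹) * (f i + f p) := by
      intro f
      have : ∀ t, (dd t : F) * f t = (lam : F)⁻¹ * f t + (if t = i then ((lam : F) - (lam : F)⁻¹) * f i else 0)
          + (if t = p then ((lam : F) - (lam : F)⁻¹) * f p else 0) := by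
        intro t
        by_cases hti : t = i
        · subst hti; simp [hdd, hip]; ring
        by_cases htp : t = p
        · subst htp; simp [hdd, hip.symm]; ring
        · simp [hdd, hti, htp]
      simp only [this, Finset.sum_add_distrib, Finset.sum_ite_eq', Finset.mem_univ, if_true,
        Finset.mul_sum]
      ring
    refine ⟨dd, ?_, ?_, ?_, ?_⟩
    · rw [mp_det, Equiv.Perm.sign_one, Units.val_one, Int.cast_one, mul_one, ← Units.coe_prod,
        ← Units.val_one]
      congr 1
      simp only [hdd, Finset.prod_ite, Finset.prod_const]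
      have e1 : (Finset.univ.filter fun t => t = i ∨ t = p) = {i, p} := by ext t; simp
      have e2 : (Finset.univ.filter fun t => ¬ (t = i ∨ t = p)).card = 2 := by
        rw [Finset.filter_not, Finset.card_sdiff, e1]
        simp [Finset.card_pair hip, hι]
      rw [e2, e1, Finset.card_pair hip, inv_pow, mul_inv_cancel]
    · rw [hsum, hcsum, hi]; ring
    · have := hsum 1
      simp only [Pi.one_apply, mul_one, Finset.sum_const, Finset.card_univ, hι, nsmul_eq_mul,
        Nat.cast_ofNat] at this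
      rw [this]
      intro e
      apply hl2
      have hl0 := lam.ne_zero
      field_simp at e
      have h3 : (2 : F) * ((lam : F) ^ 2 + 1) = 0 := by linear_combination e
      linear_combination (mul_eq_zero.1 h3).resolve_left h20
    · obtain ⟨o, -, ho⟩ := Finset.exists_mem_notMem_of_card_lt_card
        (s := ({i, p} : Finset ι)) (t := Finset.univ)
        (lt_of_le_of_lt Finset.card_le_two (by rw [Finset.card_univ]; omega))
      simp at ho
      refine ⟨p, o, fun e => hl1 ?_⟩
      simp [hdd, ho.1, ho.2] at e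
      have := congrArg (fun u : Fˣ => (u : F)) (congrArg (· * lam) e)
      simp only [inv_mul_cancel, Units.val_mul, Units.val_one] at this
      rw [sq]; exact this
  set B := g₀ * mp 1 dd * g₀⁻¹ with hB
  have hBM : B ∈ M := M.mul_mem (M.mul_mem hg₀ (hmp _ _ hdd)) (M.inv_mem hg₀)
  have hBqp : (B : Matrix ι ι F) q p = 0 := by
    rw [hB, entry_mp_conj, ← hddc]
    exact Finset.sum_congr rfl fun t _ => by simp only [hc]; ring
  have hBpp : (B : Matrix ι ι F) p p ≠ 0 := by
    rw [hB, entry_mp_conj]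
    intro e
    apply hdds
    have : ∀ t, (dd t : F) = 4 * ((g₀ : Matrix ι ι F) p t * ((dd t : F) *
        ((g₀⁻¹ : GL ι F) : Matrix ι ι F) t p)) := fun t => by
      linear_combination -(dd t : F) * h4 p t
    rw [Finset.sum_congr rfl fun t _ => this t, ← Finset.mul_sum, e, mul_zero]
  refine hfullAll B hBM (fun hBm => ?_) q p hBqp
  obtain ⟨z, hz⟩ := hBm p
  have hzp : p = z := by by_contra e; exact hBpp (hz p e)
  subst hzp
  have hvec : (B : Matrix ι ι F) *ᵥ Pi.single p 1 = (B : Matrix ι ι F) p p • Pi.single p 1 := by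
    ext t
    rw [mulVec_single_one_apply]
    rcases eq_or_ne t p with rfl | ht
    · simp
    · simp [ht, hz t ht]
  have h5 := congrArg (fun v => ((g₀⁻¹ : GL ι F) : Matrix ι ι F) *ᵥ v) hvec
  simp only [hB, mul_mulVec, mulVec_smul, inv_mulVec_mulVec] at h5
  have h6 : ∀ t, (dd t : F) = (B : Matrix ι ι F) p p := fun t => by
    have := congrFun h5 t
    rw [mp_apply, Equiv.Perm.one_apply, Pi.smul_apply, mulVec_single_one_apply, smul_eq_mul] at this
    exact mul_right_cancel₀ (hA' t p) this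
  exact hne (Units.ext ((h6 t₁).trans (h6 t₂).symm))

end

/-- Stabilisers of frames in dimension four. -/
theorem specialLinear_le_of_lines_four [Fintype F] {t : ℕ} {D : Fin t → Submodule F (ι → F)}
    (hD : Geo.IsMDecomposition 1 D) (hq : 7 ≤ Fintype.card F) (hι : Fintype.card ι = 4)
    {M : Subgroup (GL ι F)}
    (hSM : Geo.decompositionStabilizer D ⊓ Geo.specialLinear ι F ≤ M)
    (hSL : M ≤ Geo.specialLinear ι F) {g : GL ι F} (hg : g ∈ M)
    (hgD : g ∉ Geo.decompositionStabilizer D) : Geo.specialLinear ι F ≤ M := by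
  classical
  obtain ⟨e, P, hP⟩ := exists_adapted hD
  have hconj : ∀ π c, P * mp π c * P⁻¹ ∈ Geo.decompositionStabilizer D := fun π c => by
    let f : Fin t ≃ ι := (Equiv.sigmaUnique (Fin t) fun _ => Fin 1).symm.trans e.symm
    refine conj_mp_mem hD hP π (f.trans (π.trans f.symm)) (fun i => ?_) c
    have h : ∀ r, f (e r).1 = r := by
      intro r
      show e.symm _ = r
      rw [Equiv.symm_apply_eq]
      exact Sigma.ext rfl (heq_of_eq (Subsingleton.elim _ _))
    rw [Equiv.trans_apply, Equiv.trans_apply, h, Equiv.eq_symm_apply, h]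
  set M' := M.comap (MulAut.conj P).toMonoidHom with hM'
  have hmem : ∀ h : GL ι F, h ∈ M' ↔ P * h * P⁻¹ ∈ M := fun h => by
    rw [hM', Subgroup.mem_comap]; rfl
  have hdetc : ∀ h : GL ι F, (((P * h * P⁻¹ : GL ι F)) : Matrix ι ι F).det =
      (h : Matrix ι ι F).det := fun h => by
    rw [Units.val_mul, Units.val_mul, det_mul, det_mul,
      mul_right_comm, ← det_mul, ← Units.val_mul, mul_inv_cancel, Units.val_one, det_one, one_mul]
  have hmp : ∀ σ c, (mp σ c : Matrix ι ι F).det = 1 → mp σ c ∈ M' := fun σ c hd =>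
    (hmem _).2 (hSM ⟨hconj σ c, mem_specialLinear_iff.2 (by rw [hdetc, hd])⟩)
  have hSL' : M' ≤ Geo.specialLinear ι F := fun h hh => by
    rw [mem_specialLinear_iff, ← hdetc]
    exact mem_specialLinear_iff.1 (hSL ((hmem h).1 hh))
  obtain ⟨x, hx⟩ : ∃ x : Fˣ, (x : F) ^ 4 ≠ 1 := by
    by_contra hcon
    push Not at hcon
    let Q : Polynomial F := Polynomial.X ^ 4 - Polynomial.C 1
    have hQ : Q ≠ 0 := (Polynomial.monic_X_pow_sub_C (1 : F) (n := 4) (by norm_num)).ne_zero
    refine hQ (Polynomial.eq_zero_of_natDegree_lt_card_of_eval_eq_zero Q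
      (f := fun ν : Fˣ => (ν : F)) (fun _ _ h => Units.ext h) (fun ν => ?_) ?_)
    · simp only [Q, Polynomial.eval_sub, Polynomial.eval_pow, Polynomial.eval_X, Polynomial.eval_C,
        hcon ν, sub_self]
    · rw [Fintype.card_units]
      simp only [Q, Polynomial.natDegree_X_pow_sub_C]
      omega
  have hle : Geo.specialLinear ι F ≤ M' := by
    refine specialLinear_le_of_hasElem hmp (by omega)
      (hasElem_four hmp hι hx hSL' hq (g₀ := P⁻¹ * g * P)
        ((hmem _).2 (by simpa [mul_assoc] using hg)) fun hm => ?_)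
    obtain ⟨σ, c, h⟩ := isMono_eq_mp hm
    apply hgD
    have h2 := hconj σ c
    rw [← h] at h2
    simpa [mul_assoc] using h2
  intro h hh
  have h1 : P⁻¹ * h * P ∈ M' := hle (by
    rw [mem_specialLinear_iff, ← hdetc, show P * (P⁻¹ * h * P) * P⁻¹ = h by group]
    exact mem_specialLinear_iff.1 hh)
  rw [hmem] at h1
  simpa [mul_assoc] using h1

end Cfsg.Agent.H69.SLFour
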