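import Cfsg.Agent.H27.KleinCorr
import Cfsg.Agent.H69.SLFour.SixMain
import Cfsg.Prelude.Def_GeometricClasses

/-!
The exterior square of `F^4` with six orthonormal lines for the Pfaffian, and lifts of products of two reflections.
-/

set_option autoImplicit false

namespace Cfsg.Agent.H69.SLFour.Klein

open Matrix Module Cfsg.Agent.H27.KleinCorr Cfsg.Agent.Orthogonal Cfsg.Agent.H97.Frame
open scoped MatrixGroups

section identities

variable {R : Type*} [CommRing R]

/-- The polar of the Pfaffian. -/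
def pl (u v : Fin 3 ⊕ Fin 3 → R) : R := pf (u + v) - pf u - pf v

set_option maxHeartbeats 4000000 in
theorem alt_three (u v : Fin 3 ⊕ Fin 3 → R) :
    alt u * alt (dual v) * alt u = pf u • alt v - pl u v • alt u := by
  ext i j
  fin_cases i <;> fin_cases j <;>
    simp [pl, pf, alt, dual_inl, dual_inr, Matrix.mul_apply, Fin.sum_univ_four] <;> ring

theorem alt_transpose (u : Fin 3 ⊕ Fin 3 → R) : (alt u)ᵀ = -alt u := by
  ext i j
  fin_cases i <;> fin_cases j <;> simp [alt]

theorem pf_dual (u : Fin 3 ⊕ Fin 3 → R) : pf (dual u) = pf u := by simp [pf, dual_inl, dual_inr]; ring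

theorem pl_dual (u v : Fin 3 ⊕ Fin 3 → R) : pl (dual u) (dual v) = pl u v := by
  rw [pl, pl, ← map_add, pf_dual, pf_dual, pf_dual]

end identities

variable {F : Type*} [Field F]

local notation "V6" => Fin 3 ⊕ Fin 3 → F
local notation "M4" => Matrix (Fin 4) (Fin 4) F

/-- A coordinate as a linear form. -/
def pr (k : Fin 3 ⊕ Fin 3) : V6 →ₗ[F] F := LinearMap.proj k

/-- The Pfaffian as a quadratic form. -/
noncomputable def qp : QuadraticForm F V6 :=
  QuadraticMap.linMulLin (pr (.inl 0)) (pr (.inr 0)) + QuadraticMap.linMulLin (pr (.inl 1)) (pr (.inr 1)) +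
    QuadraticMap.linMulLin (pr (.inl 2)) (pr (.inr 2))

theorem qp_apply (v : V6) : qp v = pf v := by simp [qp, pr, pf]

theorem polar_qp (u v : V6) : QuadraticMap.polar (qp (F := F)) u v = pl u v := by
  simp only [QuadraticMap.polar, pl, qp_apply]

/-- The six lines. -/
def frame (i : F) : Fin 6 → V6 :=
  ![Sum.elim ![1, 0, 0] ![1, 0, 0], Sum.elim ![i, 0, 0] ![-i, 0, 0], Sum.elim ![0, 0, i] ![0, 0, -i],
    Sum.elim ![0, i, 0] ![0, -i, 0], Sum.elim ![0, 1, 0] ![0, 1, 0], Sum.elim ![0, 0, 1] ![0, 0, 1]]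

theorem frame_onb {i : F} (hi : i * i = -1) (h2 : (2 : F) ≠ 0) : ONB qp (frame i) 1 where
  two := h2
  c0 := one_ne_zero
  val k := by fin_cases k <;> simp [qp_apply, pf, frame, hi]
  orth k l hkl := by
    rw [polar_qp]
    fin_cases k <;> fin_cases l <;> first | exact absurd rfl hkl | (simp [pl, pf, frame] <;> ring_nf <;>
      (first | done | linear_combination hi | linear_combination 2 * hi))
  top := by
    have hi0 : i ≠ 0 := fun h => by rw [h, mul_zero] at hi; exact neg_ne_zero.2 one_ne_zero hi.symm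
    rw [eq_top_iff]
    intro v _
    rw [Submodule.mem_span_range_iff_exists_fun]
    refine ⟨![(v (.inl 0) + v (.inr 0)) / 2, (v (.inl 0) - v (.inr 0)) / (2 * i), (v (.inl 2) - v (.inr 2)) / (2 * i),
      (v (.inl 1) - v (.inr 1)) / (2 * i), (v (.inl 1) + v (.inr 1)) / 2, (v (.inl 2) + v (.inr 2)) / 2], ?_⟩
    funext k
    rcases k with k | k <;> fin_cases k <;> simp [Fin.sum_univ_six, frame] <;> field_simp <;> ring

theorem det_of_mem {g : GL (Fin 4) F} (hg : g ∈ Cfsg.Geo.specialLinear (Fin 4) F) : (g : M4).det = 1 := by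
  simpa using congrArg (fun u : Fˣ => (u : F)) (MonoidHom.mem_ker.1 hg)

theorem mem_of_det {g : GL (Fin 4) F} (hg : (g : M4).det = 1) : g ∈ Cfsg.Geo.specialLinear (Fin 4) F :=
  MonoidHom.mem_ker.2 (Units.ext (by simpa using hg))

/-- The action on the exterior square. -/
noncomputable def rho : ↥(Cfsg.Geo.specialLinear (Fin 4) F) →* O (qp (F := F)) :=
  MonoidHom.codRestrict
    ((LinearMap.GeneralLinearGroup.generalLinearEquiv F V6).toMonoidHom.comp
      ((Units.map (klein (R := F))).comp (Cfsg.Geo.specialLinear (Fin 4) F).subtype))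
    (O qp) fun g x => by
    show qp (klein ((g : GL (Fin 4) F) : M4) x) = qp x
    rw [qp_apply, qp_apply, pf_klein, det_of_mem g.2, one_mul]

theorem rho_app (g : ↥(Cfsg.Geo.specialLinear (Fin 4) F)) (v : V6) :
    ((rho g : O (qp (F := F))) : V6 ≃ₗ[F] V6) v = klein ((g : GL (Fin 4) F) : M4) v := rfl

theorem eq_one_of_rho {g : ↥(Cfsg.Geo.specialLinear (Fin 4) F)} (h : rho g = 1) :
    ∃ c : F, c * c = 1 ∧ ((g : GL (Fin 4) F) : M4) = c • (1 : M4) := by
  obtain ⟨c, hc, e⟩ := scalar_of_klein_eq_one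
    (A := (⟨((g : GL (Fin 4) F) : M4), det_of_mem g.2⟩ : Matrix.SpecialLinearGroup (Fin 4) F)) fun v => by
      show klein ((g : GL (Fin 4) F) : M4) v = v
      rw [← rho_app, h]; rfl
  exact ⟨c, hc, e⟩

/-- Scalars act through their square. -/
theorem klein_smul (c : F) (A : M4) (v : V6) : klein (c • A) v = (c * c) • klein A v := by
  rw [klein_apply, klein_apply, Matrix.transpose_smul, Matrix.smul_mul, Matrix.smul_mul, Matrix.mul_smul, smul_smul,
    map_smul]

/-- The product of two reflections comes from the product of two alternating matrices. -/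
theorem klein_lift (u w : V6) (hu : pf u ≠ 0) (hw : pf w ≠ 0) (v : V6) :
    klein (alt u * alt (dual w)) v =
      (pf u * pf w) • ((rO (qp (F := F)) u * rO qp w : O (qp (F := F))) : V6 ≃ₗ[F] V6) v := by
  have h3 : ∀ z, alt (dual w) * alt z * alt (dual w) = pf w • alt (dual z) - pl w z • alt (dual w) := fun z => by
    conv_lhs => rw [← dual_dual z]
    rw [alt_three, pf_dual, pl_dual]
  set x := pf w • v - pl w v • w with hx
  have e1 : klein (alt u * alt (dual w)) v = pf u • x - pl u x • u := by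
    rw [klein_apply, Matrix.transpose_mul, alt_transpose, alt_transpose, neg_mul_neg,
      show alt u * alt (dual w) * alt v * (alt (dual w) * alt u) =
        alt u * (alt (dual w) * alt v * alt (dual w)) * alt u by noncomm_ring, h3,
      show pf w • alt (dual v) - pl w v • alt (dual w) = alt (dual x) by
        rw [hx, map_sub, map_sub, map_smul, map_smul, map_smul, map_smul],
      alt_three, map_sub, map_smul, map_smul, co_alt, co_alt]
  have hr : ∀ {z : V6} (t : V6), pf z ≠ 0 →
      pf z • (rO (qp (F := F)) z : V6 ≃ₗ[F] V6) t = pf z • t - pl z t • z := fun {z} t hz => by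
    rw [rO_app, smul_sub, smul_smul, qp_apply, polar_qp, ← mul_assoc, mul_inv_cancel₀ hz, one_mul]
  rw [e1, Subgroup.coe_mul, mul_app, mul_smul, ← map_smul, hr v hw, ← hx, hr x hu]

/-- Products of two reflections in vectors of equal norm lift. -/
theorem exists_lift {u w : V6} (hu : qp u ≠ 0) (huw : qp w = qp u) :
    ∃ g : ↥(Cfsg.Geo.specialLinear (Fin 4) F), rho g = rO qp u * rO qp w := by
  rw [qp_apply] at hu
  rw [qp_apply, qp_apply] at huw
  set A : M4 := (pf u)⁻¹ • (alt u * alt (dual w)) with hA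
  have hAv : ∀ v, klein A v = ((rO (qp (F := F)) u * rO qp w : O (qp (F := F))) : V6 ≃ₗ[F] V6) v := fun v => by
    rw [hA, klein_smul, klein_lift u w hu (by rw [huw]; exact hu), huw, smul_smul,
      show (pf u)⁻¹ * (pf u)⁻¹ * (pf u * pf u) = 1 by field_simp, one_smul]
  have hdet : A.det = 1 := by
    have h := pf_klein A u
    rw [hAv, ← qp_apply, O.map_app, qp_apply] at h
    exact (mul_eq_right₀ hu).1 h.symm
  refine ⟨⟨Matrix.GeneralLinearGroup.mkOfDetNeZero A (by rw [hdet]; exact one_ne_zero), mem_of_det hdet⟩,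
    O.ext_app fun v => ?_⟩
  rw [rho_app, ← hAv]
  rfl

end Cfsg.Agent.H69.SLFour.Klein
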