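import Cfsg.Agent.H69.SLFour.PauliBase
import Cfsg.Agent.H57.Frame5.Top
import Cfsg.Agent.H57.SLSmall.Geometric

/-!
The normaliser in SL_4 of the central product of the scalars of order four and an extraspecial group 2^(1+4) is
maximal over a field of prime order.
-/

set_option autoImplicit false

namespace Cfsg.Agent.H69.SLFour.Pauli

open Matrix Cfsg.Agent.H27.KleinCorr Cfsg.Agent.Orthogonal Cfsg.Agent.H97.Frame
open Cfsg.Agent.H73.Pauli Cfsg.Agent.H69.SLFour.Klein Cfsg.Agent.H69.SLFour.SixFrame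
open scoped MatrixGroups

variable {F : Type*} [Field F]

local notation "V6" => Fin 3 ⊕ Fin 3 → F
local notation "M4" => Matrix (Fin 4) (Fin 4) F
local notation "GL4" => GL (Fin 4) F
local notation "SL4" => Cfsg.Geo.specialLinear (Fin 4) F

variable {i : F} (hi : i * i = -1)
variable (h2 : (2 : F) ≠ 0)

local notation "Hf" => frame_onb hi h2

/-- An element of the special linear group. -/
noncomputable def sl (x : GL4) (hx : x ∈ stdR hi) : ↥SL4 := ⟨x, stdR_le hi hx⟩

include h2 in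
theorem diag_gi : (Hf).IsDiag (rho (sl hi _ (gi_mem hi))) Finset.univ := fun k => by
  rw [rho_app, if_pos (Finset.mem_univ k)]
  exact klein_gi hi _

include h2 in
theorem diag_gens :
    (Hf).IsDiag (rho (sl hi _ (gA1_mem hi))) {0, 1, 2, 4} ∧ (Hf).IsDiag (rho (sl hi _ (gB1_mem hi))) {0, 1, 2, 5} ∧
    (Hf).IsDiag (rho (sl hi _ (gA2_mem hi))) {1, 3, 4, 5} ∧ (Hf).IsDiag (rho (sl hi _ (gB2_mem hi))) {2, 3, 4, 5} :=
  ⟨fun k => (rho_app _ _).trans (klein_a1 k), fun k => (rho_app _ _).trans (klein_b1 k),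
    fun k => (rho_app _ _).trans (klein_a2 k), fun k => (rho_app _ _).trans (klein_b2 k)⟩

/-- The image of the standard group. -/
noncomputable def stdT : Subgroup (O (qp (F := F))) := ((stdR hi).subgroupOf SL4).map rho

theorem rho_sl_mem {x : GL4} (hx : x ∈ stdR hi) : rho (sl hi x hx) ∈ stdT hi :=
  Subgroup.mem_map.2 ⟨sl hi x hx, hx, rfl⟩

include h2 in
theorem per_of_mem {t : O (qp (F := F))} (ht : t ∈ stdT hi) : Per (Hf) t 1 := by
  obtain ⟨x, hx, rfl⟩ := Subgroup.mem_map.1 ht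
  have key : ∀ y ∈ stdR hi, ∃ hy' : y ∈ SL4, Per (Hf) (rho ⟨y, hy'⟩) 1 := by
    intro y hy
    rw [stdR] at hy
    clear x hx ht
    induction hy using Subgroup.closure_induction with
    | mem z hz =>
      refine ⟨gen_sl hi hz, ?_⟩
      obtain ⟨d1, d2, d3, d4⟩ := diag_gens hi h2
      simp only [Set.mem_insert_iff, Set.mem_singleton_iff] at hz
      rcases hz with rfl | rfl | rfl | rfl | rfl
      exacts [per_diag (diag_gi hi h2), per_diag d1, per_diag d2, per_diag d3, per_diag d4]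
    | one => exact ⟨one_mem _, by rw [show (⟨1, one_mem _⟩ : ↥SL4) = 1 from rfl, map_one]; exact Per.one⟩
    | mul a b _ _ ha hb =>
      obtain ⟨ha', pa⟩ := ha
      obtain ⟨hb', pb⟩ := hb
      refine ⟨mul_mem ha' hb', ?_⟩
      rw [show (⟨a * b, mul_mem ha' hb'⟩ : ↥SL4) = ⟨a, ha'⟩ * ⟨b, hb'⟩ from rfl, map_mul]
      simpa using pa.mul pb
    | inv a _ ha =>
      obtain ⟨ha', pa⟩ := ha
      refine ⟨inv_mem ha', ?_⟩
      rw [show (⟨a⁻¹, inv_mem ha'⟩ : ↥SL4) = (⟨a, ha'⟩ : ↥SL4)⁻¹ from rfl, map_inv]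
      simpa using pa.inv
  exact (key _ hx).2

include h2 in
theorem pair_mem (a b : Fin 6) : rO qp (frame i a) * rO qp (frame i b) ∈ stdT hi := by
  obtain ⟨d1, d2, d3, d4⟩ := diag_gens hi h2
  have d0 := diag_gi hi h2
  set e := frame i
  have put : ∀ {t : O (qp (F := F))} {B : Finset (Fin 6)} (k : Fin 6), (0 : Fin 6) ≠ k → t ∈ stdT hi →
      (Hf).IsDiag t B → B = {0, k} → rO qp (e 0) * rO qp (e k) ∈ stdT hi := fun {t B} k hk ht hd hB => by
    rw [← ONB.IsDiag.unique (Hf) (hB ▸ hd) ((Hf).isDiag_pair hk)]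
    exact ht
  have hgi := rho_sl_mem hi (gi_mem hi)
  have ha1 := rho_sl_mem hi (gA1_mem hi)
  have hb1 := rho_sl_mem hi (gB1_mem hi)
  have ha2 := rho_sl_mem hi (gA2_mem hi)
  have hb2 := rho_sl_mem hi (gB2_mem hi)
  have k1 := put 1 (by decide) (mul_mem hgi hb2) (ONB.IsDiag.mul (Hf) d0 d4) (by decide)
  have k2 := put 2 (by decide) (mul_mem hgi ha2) (ONB.IsDiag.mul (Hf) d0 d3) (by decide)
  have k3 := put 3 (by decide) (mul_mem hgi (mul_mem (mul_mem hb2 ha2) (mul_mem ha1 hb1)))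
    (ONB.IsDiag.mul (Hf) d0 (ONB.IsDiag.mul (Hf) (ONB.IsDiag.mul (Hf) d4 d3) (ONB.IsDiag.mul (Hf) d1 d2))) (by decide)
  have h34 : rO qp (e 3) * rO qp (e 4) ∈ stdT hi := by
    rw [← ONB.IsDiag.unique (Hf) (B := {3, 4}) (by
      convert ONB.IsDiag.mul (Hf) d0 d2 using 1; decide) ((Hf).isDiag_pair (by decide))]
    exact mul_mem hgi hb1
  have h35 : rO qp (e 3) * rO qp (e 5) ∈ stdT hi := by
    rw [← ONB.IsDiag.unique (Hf) (B := {3, 5}) (by
      convert ONB.IsDiag.mul (Hf) d0 d1 using 1; decide) ((Hf).isDiag_pair (by decide))]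
    exact mul_mem hgi ha1
  have comp : ∀ {a b c : Fin 6}, rO qp (e a) * rO qp (e b) ∈ stdT hi → rO qp (e b) * rO qp (e c) ∈ stdT hi →
      rO qp (e a) * rO qp (e c) ∈ stdT hi := fun {a b c} h h' => by
    have := mul_mem h h'
    rwa [mul_assoc, ← mul_assoc (rO qp (e b)), rO_mul_self, one_mul] at this
  have flip : ∀ {a b : Fin 6}, rO qp (e a) * rO qp (e b) ∈ stdT hi → rO qp (e b) * rO qp (e a) ∈ stdT hi :=
    fun {a b} h => by
    have := inv_mem h
    rwa [_root_.mul_inv_rev, rO_inv, rO_inv] at this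
  have hz : ∀ k, rO qp (e 0) * rO qp (e k) ∈ stdT hi := fun k => by
    fin_cases k
    exacts [by rw [show ((⟨0, by decide⟩ : Fin 6)) = 0 from rfl, rO_mul_self]; exact one_mem _, k1, k2, k3,
      comp k3 h34, comp k3 h35]
  exact comp (flip (hz a)) (hz b)

include h2 in
/-- An element of SL_4 whose image is that of an element of the standard group lies in it. -/
theorem mem_of_rho {x : ↥SL4} (h : rho x ∈ stdT hi) : (x : GL4) ∈ stdR hi := by
  obtain ⟨y, hy, hyx⟩ := Subgroup.mem_map.1 h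
  obtain ⟨c, hc, e⟩ := eq_one_of_rho (g := y⁻¹ * x) (by rw [map_mul, map_inv, hyx, inv_mul_cancel])
  have hyx' : (x : GL4) = (y : GL4) * ((y⁻¹ * x : ↥SL4) : GL4) := by simp
  rw [hyx']
  refine mul_mem hy ?_
  rcases mul_self_eq_one_iff.1 hc with rfl | rfl
  · rw [show ((y⁻¹ * x : ↥SL4) : GL4) = 1 from Units.ext (by rw [e, one_smul]; rfl)]
    exact one_mem _
  · rw [show ((y⁻¹ * x : ↥SL4) : GL4) = -1 from Units.ext (by rw [e, neg_one_smul, Units.val_neg]; rfl)]
    exact neg_one_mem hi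

variable [Fintype F]

/-- A finite subgroup is normalised by an element mapping it into itself. -/
theorem mem_normalizer_of_le {G : Type*} [Group G] [Finite G] {S : Subgroup G} {g : G}
    (h : ∀ x ∈ S, g * x * g⁻¹ ∈ S) : g ∈ Subgroup.normalizer (S : Set G) := by
  let f : S → S := fun x => ⟨g * x * g⁻¹, h x x.2⟩
  have hf : Function.Bijective f := Finite.injective_iff_bijective.1 fun a b hab =>
    Subtype.ext (mul_left_cancel (mul_right_cancel (congrArg Subtype.val hab)))
  refine Subgroup.mem_normalizer_iff.2 fun x => ⟨h x, fun hx => ?_⟩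
  obtain ⟨a, ha⟩ := hf.2 ⟨_, hx⟩
  rw [← mul_left_cancel (mul_right_cancel (congrArg Subtype.val ha))]
  exact a.2

include h2 in
/-- The elements of SL_4 normalising the standard group are the monomial ones. -/
theorem mem_norm_iff (g : ↥SL4) :
    (g : GL4) ∈ Cfsg.Geo.subgroupNormalizer (stdR hi) ↔ rho g ∈ (Hf).mono := by
  classical
  constructor
  · intro hg k
    have hu0 : ∀ a b : Fin 6, ∃ σ : F, (σ = 1 ∨ σ = -1) ∧
        ((rO qp (frame i a) * rO qp (frame i b) : O (qp (F := F))) : V6 ≃ₗ[F] V6)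
          ((rho g : V6 ≃ₗ[F] V6) (frame i k)) = σ • (rho g : V6 ≃ₗ[F] V6) (frame i k) := by
      intro a b
      obtain ⟨x, hx, hxe⟩ := Subgroup.mem_map.1 (pair_mem hi h2 a b)
      have hx' : rho (g⁻¹ * x * g) ∈ stdT hi := by
        refine Subgroup.mem_map.2 ⟨g⁻¹ * x * g, ?_, rfl⟩
        show ((g⁻¹ * x * g : ↥SL4) : GL4) ∈ stdR hi
        simpa using (Subgroup.mem_normalizer_iff''.1 hg (x : GL4)).1 hx
      have hk := (per_of_mem hi h2 hx') k
      have e1 : ((rO qp (frame i a) * rO qp (frame i b) : O (qp (F := F))) : V6 ≃ₗ[F] V6)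
          ((rho g : V6 ≃ₗ[F] V6) (frame i k)) =
          (rho g : V6 ≃ₗ[F] V6) ((rho (g⁻¹ * x * g) : V6 ≃ₗ[F] V6) (frame i k)) := by
        rw [← mul_app, ← mul_app, ← Subgroup.coe_mul, ← Subgroup.coe_mul, ← hxe, ← map_mul, ← map_mul]
        rw [show g * (g⁻¹ * x * g) = x * g by group]
      rcases hk with h | h <;> rw [Equiv.Perm.one_apply] at h <;> rw [h] at e1
      · exact ⟨1, Or.inl rfl, by rw [e1, one_smul]⟩
      · exact ⟨-1, Or.inr rfl, by rw [e1, map_neg, neg_one_smul]⟩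
    set u := (rho g : V6 ≃ₗ[F] V6) (frame i k) with hu
    obtain ⟨a, ha⟩ : ∃ a, (Hf).co a u ≠ 0 := by
      by_contra! h
      have h0 : u = 0 := (Hf).ext_co fun j => by rw [h j, (Hf).co_zero]
      rw [hu, LinearEquiv.map_eq_zero_iff] at h0
      exact (Hf).e_ne_zero k h0
    refine (Hf).ax_of_co (j := a) fun l hl => ?_
    by_contra hl0
    obtain ⟨m, hma, hml⟩ := exists_ne_two a l
    obtain ⟨σ, hσ, hσe⟩ := hu0 a m
    have hd := (Hf).isDiag_pair (Ne.symm hma)
    have ea := congrArg ((Hf).co a) hσe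
    have el := congrArg ((Hf).co l) hσe
    rw [co_diag hd, if_pos (by simp), (Hf).co_smul] at ea
    rw [co_diag hd, if_neg (by simp [hl, Ne.symm hml]), (Hf).co_smul] at el
    rcases hσ with rfl | rfl
    · exact ha ((mul_eq_zero.1 (show 2 * (Hf).co a u = 0 by linear_combination -ea)).resolve_left h2)
    · exact hl0 ((mul_eq_zero.1 (show 2 * (Hf).co l u = 0 by linear_combination el)).resolve_left h2)
  · intro hg
    haveI : Finite GL4 := inferInstance
    refine mem_normalizer_of_le fun y hy => ?_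
    rw [stdR] at hy
    induction hy using Subgroup.closure_induction with
    | one => rw [mul_one, mul_inv_cancel]; exact one_mem _
    | mul a b _ _ ha hb =>
      rw [show (g : GL4) * (a * b) * (g : GL4)⁻¹ = (g : GL4) * a * (g : GL4)⁻¹ * ((g : GL4) * b * (g : GL4)⁻¹) by group]
      exact mul_mem ha hb
    | inv a _ ha =>
      rw [show (g : GL4) * a⁻¹ * (g : GL4)⁻¹ = ((g : GL4) * a * (g : GL4)⁻¹)⁻¹ by group]
      exact inv_mem ha
    | mem y hy =>
      have hyR : y ∈ stdR hi := Subgroup.subset_closure hy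
      have conjp : ∀ {t : O (qp (F := F))} {a b : Fin 6}, (Hf).IsDiag t {a, b} → a ≠ b →
          rho g * t * (rho g)⁻¹ ∈ stdT hi := fun {t a b} ht hab => by
        rw [ONB.IsDiag.unique (Hf) ht ((Hf).isDiag_pair hab)]
        obtain ⟨a', b', -, he⟩ := (Hf).mono_pair hg hab
        rw [he]
        exact pair_mem hi h2 a' b'
      have viaScalar : ∀ (hy : y ∈ stdR hi) {a b : Fin 6}, a ≠ b →
          (Hf).IsDiag (rho (sl hi _ (gi_mem hi)) * rho (sl hi y hy)) {a, b} →
          (g : GL4) * y * (g : GL4)⁻¹ ∈ stdR hi := fun hy {a b} hab hd => by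
        have h := conjp hd hab
        rw [← map_mul, ← map_inv, ← map_mul, ← map_mul] at h
        have h' : (g : GL4) * (gi hi * y) * (g : GL4)⁻¹ ∈ stdR hi := mem_of_rho hi h2 h
        rw [← mul_assoc (g : GL4), ← gi_comm hi (g : GL4), mul_assoc (gi hi), mul_assoc (gi hi)] at h'
        exact (Subgroup.mul_mem_cancel_left _ (gi_mem hi)).1 h'
      obtain ⟨d1, d2, d3, d4⟩ := diag_gens hi h2
      have d0 := diag_gi hi h2
      simp only [Set.mem_insert_iff, Set.mem_singleton_iff] at hy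
      rcases hy with rfl | rfl | rfl | rfl | rfl
      · rw [← gi_comm hi, mul_inv_cancel_right]; exact hyR
      · exact viaScalar (gA1_mem hi) (a := 3) (b := 5) (by decide)
          (by convert ONB.IsDiag.mul (Hf) d0 d1 using 1; decide)
      · exact viaScalar (gB1_mem hi) (a := 3) (b := 4) (by decide)
          (by convert ONB.IsDiag.mul (Hf) d0 d2 using 1; decide)
      · exact viaScalar (gA2_mem hi) (a := 0) (b := 2) (by decide)
          (by convert ONB.IsDiag.mul (Hf) d0 d3 using 1; decide)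
      · exact viaScalar (gB2_mem hi) (a := 0) (b := 1) (by decide)
          (by convert ONB.IsDiag.mul (Hf) d0 d4 using 1; decide)

end Cfsg.Agent.H69.SLFour.Pauli
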