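import Cfsg.Agent.H69.SLFour.PauliMax
import Cfsg.Agent.Aschbacher.Subfield

/-!
The clause on symplectic-type groups in SL_4: the order of the group, its standard form, and maximality.
-/

set_option autoImplicit false

namespace Cfsg.Agent.H69.SLFour.Pauli

open Matrix Cfsg.Agent.H73.Pauli
open scoped MatrixGroups

variable {F : Type*} [Field F] [Fintype F]

local notation "M4" => Matrix (Fin 4) (Fin 4) F
local notation "GL4" => GL (Fin 4) F
local notation "SL4" => Cfsg.Geo.specialLinear (Fin 4) F

/-- The group of the data has order `64`. -/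
theorem card_eq {R : Subgroup GL4} (h2 : (2 : F) ≠ 0) (hRs : Cfsg.Geo.IsSymplecticTypeGroup 2 R)
    (hRi : Cfsg.Geo.ActsAbsolutelyIrreducibly (Cfsg.Geo.matrixSet R)) (hRZ : Nat.card (Subgroup.center R) = 4) :
    Nat.card R = 64 := by
  classical
  have h4 : ∀ a : R, a ^ 4 = 1 := fun a => by
    have h := Monoid.pow_exponent_eq_one a
    rwa [hRs.exponent_eq, show 2 * Nat.gcd 2 2 = 4 by norm_num] at h
  have hsch : ∀ g : R, g ∈ Subgroup.center R → ∃ c : F, ((g : GL4) : M4) = c • 1 := fun g hg => by
    refine hRi.2 _ ?_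
    rintro _ ⟨y, hy, rfl⟩
    exact congrArg (fun a : R => ((a : GL4) : M4)) (Subgroup.mem_center_iff.1 hg ⟨y, hy⟩).symm
  obtain ⟨z, hz⟩ : ∃ z : Subgroup.center R, orderOf z = 2 :=
    exists_prime_orderOf_dvd_card' 2 (by rw [hRZ]; norm_num)
  have hz2 : (z : R) ^ 2 = 1 := by
    rw [← Subgroup.coe_pow, ← hz, pow_orderOf_eq_one]; rfl
  have hz1 : (z : R) ≠ 1 := fun h => by
    rw [show z = 1 from Subtype.ext h, orderOf_one] at hz
    exact absurd hz (by norm_num)
  obtain ⟨c, hc⟩ := hsch _ z.2
  have hzneg : ((z : R) : GL4) = -1 := by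
    have hcc : c * c = 1 := by
      have h := congrArg (fun a : R => ((a : GL4) : M4)) hz2
      simp only [pow_two, Subgroup.coe_mul, Units.val_mul, hc, OneMemClass.coe_one, Units.val_one, Matrix.smul_mul,
        Matrix.mul_smul, smul_smul, one_mul] at h
      exact scalar_inj (h.trans (one_smul F _).symm)
    rcases mul_self_eq_one_iff.1 hcc with rfl | rfl
    · exact absurd (Subtype.ext (Units.ext (by rw [hc, one_smul]; rfl))) hz1
    · exact Units.ext (by rw [hc, neg_one_smul, Units.val_neg, Units.val_one])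
  have hQ : Cfsg.IsOfSymplecticType R := ⟨hRs.pGroup, hRs.cyclic_of_characteristic⟩
  obtain ⟨⟨-, hcm⟩, -⟩ := H46.symp_exp_four hQ h4 z.2 hz2 hz1
  -- non-central elements have trace zero
  have htr : ∀ g : R, g ∉ Subgroup.center R → ((g : GL4) : M4).trace = 0 := by
    intro g hg
    obtain ⟨h, hgh⟩ : ∃ h : R, g * h * g⁻¹ * h⁻¹ = (z : R) := by
      by_contra! hno
      refine hg (Subgroup.mem_center_iff.2 fun h => ?_)
      have h1 := (hcm g h).resolve_right (hno h)
      rw [mul_inv_eq_one, mul_inv_eq_iff_eq_mul] at h1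
      exact h1.symm
    have e' := congrArg (fun a : R => (a : GL4)) hgh
    simp only [Subgroup.coe_mul, Subgroup.coe_inv, hzneg] at e'
    rw [mul_inv_eq_iff_eq_mul, mul_inv_eq_iff_eq_mul] at e'
    have h1 : ((h : R) : GL4) * (g : GL4) * ((h : R) : GL4)⁻¹ = -(g : GL4) := by
      rw [mul_inv_eq_iff_eq_mul, neg_mul, e', neg_one_mul, neg_mul, neg_neg]
    have h3 := congrArg (fun a : GL4 => (a : M4).trace) h1
    simp only [Units.val_mul, Units.val_neg, Matrix.trace_neg, Matrix.trace_units_conj] at h3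
    exact (mul_eq_zero.1 (show (2 : F) * _ = 0 by linear_combination h3)).resolve_left h2
  haveI : Finite R := inferInstance
  let Qt := R ⧸ Subgroup.center R
  haveI : Fintype Qt := Fintype.ofFinite _
  let w : Qt → M4 := fun q => ((q.out : R) : GL4)
  -- the representatives span
  have hspan : Submodule.span F (Cfsg.Geo.matrixSet R) ≤ Submodule.span F (Set.range w) := by
    rw [Submodule.span_le]
    rintro _ ⟨g, hg, rfl⟩
    set q : Qt := QuotientGroup.mk (⟨g, hg⟩ : R) with hq
    have hd : (q.out)⁻¹ * (⟨g, hg⟩ : R) ∈ Subgroup.center R :=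
      QuotientGroup.eq.1 ((QuotientGroup.out_eq' q).trans hq)
    obtain ⟨d, hd'⟩ := hsch _ hd
    have : (g : M4) = d • w q := by
      have hg' : (g : GL4) = ((q.out : R) : GL4) * (((q.out)⁻¹ * (⟨g, hg⟩ : R) : R) : GL4) := by simp
      conv_lhs => rw [hg', Units.val_mul, hd', Matrix.mul_smul, mul_one]
    show (g : M4) ∈ Submodule.span F (Set.range w)
    rw [this]
    exact Submodule.smul_mem _ _ (Submodule.subset_span ⟨q, rfl⟩)
  rw [Cfsg.Agent.Aschbacher.span_eq_top hRi, top_le_iff] at hspan
  have hge : 16 ≤ Fintype.card Qt := by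
    have h := finrank_range_le_card (R := F) w
    rw [Set.finrank, hspan, finrank_top, Module.finrank_matrix, Module.finrank_self, Fintype.card_fin] at h
    omega
  have hle : Fintype.card Qt ≤ 16 := by
    have hli : LinearIndependent F w := by
      rw [Fintype.linearIndependent_iff]
      intro a ha r
      have h := congrArg (fun Z : M4 => (Z * (((r.out : R) : GL4)⁻¹ : GL4)).trace) ha
      simp only [Finset.sum_mul, Matrix.trace_sum, Matrix.smul_mul, Matrix.trace_smul, zero_mul,
        Matrix.trace_zero, smul_eq_mul] at h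
      rw [Finset.sum_eq_single r] at h
      · simp only [w, Units.mul_inv, Matrix.trace_one, Fintype.card_fin] at h
        refine (mul_eq_zero.1 h).resolve_right ?_
        have : ((4 : ℕ) : F) = 2 * 2 := by norm_num
        rw [this]
        exact mul_ne_zero h2 h2
      · intro q _ hqr
        have hnc : q.out * (r.out)⁻¹ ∉ Subgroup.center R := fun hcen => by
          refine hqr ?_
          rw [← QuotientGroup.out_eq' q, ← QuotientGroup.out_eq' r]
          refine QuotientGroup.eq.2 ?_
          have hcen' := inv_mem hcen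
          have hcomm := Subgroup.mem_center_iff.1 hcen' q.out
          rw [_root_.mul_inv_rev, inv_inv] at hcen' hcomm
          rw [show q.out⁻¹ * r.out = q.out⁻¹ * (r.out * q.out⁻¹ * q.out) by group, ← hcomm]
          simpa using hcen'
        have := htr _ hnc
        simp only [Subgroup.coe_mul, Subgroup.coe_inv, Units.val_mul] at this
        simp only [w]
        rw [this, mul_zero]
      · simp
    have h := hli.fintype_card_le_finrank
    rwa [Module.finrank_matrix, Module.finrank_self, Fintype.card_fin] at h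
  rw [← Subgroup.card_eq_card_quotient_mul_card_subgroup (Subgroup.center R) |>.symm, Nat.card_eq_fintype_card,
    le_antisymm hle hge, hRZ]

/-- Clause (6). -/
theorem pauli_maximal (p : ℕ) (R : Subgroup GL4) (hp : p.Prime) (hcard : Fintype.card F = p) (hp4 : p % 4 = 1)
    (hR : Cfsg.Geo.IsLinearSymplecticTypeData 2 R) :
    Cfsg.Geo.IsMaximalIn SL4 (Cfsg.Geo.subgroupNormalizer R ⊓ SL4) := by
  classical
  haveI := Fact.mk hp
  haveI : CharP F p := charP_of_card_eq_prime hcard
  have h2 : (2 : F) ≠ 0 := fun h => by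
    have hd : p ∣ 2 := (CharP.cast_eq_zero_iff F p 2).1 (by exact_mod_cast h)
    have := Nat.le_of_dvd (by norm_num) hd
    have := hp.two_le
    omega
  have h3 : (3 : F) ≠ 0 := fun h => by
    have hd : p ∣ 3 := (CharP.cast_eq_zero_iff F p 3).1 (by exact_mod_cast h)
    have := (Nat.prime_dvd_prime_iff_eq hp Nat.prime_three).1 hd
    omega
  have hZ : Nat.card (Subgroup.center R) = 4 := by
    obtain ⟨p', e, -, -, hc⟩ := hR.field
    rcases hc with ⟨h, -⟩ | ⟨-, -, h, -⟩ | ⟨-, -, h, -⟩
    · exact absurd h (by decide)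
    · exact h
    · simp at h
  obtain ⟨i, hd⟩ := exists_pauliData (p := p) (by omega) R hR.symplecticType hR.absIrred
    (card_eq h2 hR.symplecticType hR.absIrred hZ) hZ
  obtain ⟨P, hP⟩ := exists_frame hd
  have hi := hd.i_sq
  set φ : GL4 ≃* GL4 := MulAut.conj P with hφ
  have hRmap : (stdR hi).map φ.toMonoidHom = R := by
    refine le_antisymm ?_ (hP.gen _ (fun g hg hs => ?_) fun g hg s hs hgs => ?_)
    · rw [Subgroup.map_le_iff_le_comap, stdR, Subgroup.closure_le]
      intro x hx
      simp only [Set.mem_insert_iff, Set.mem_singleton_iff] at hx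
      have key : ∀ {x : GL4}, (∃ g ∈ R, (g : M4) * (P : M4) = (P : M4) * (x : M4)) → φ x ∈ R := fun {x} h => by
        obtain ⟨g, hg, e⟩ := h
        have e' : g * P = P * x := Units.ext e
        rw [hφ, MulAut.conj_apply, ← e', mul_inv_cancel_right]
        exact hg
      rcases hx with rfl | rfl | rfl | rfl | rfl
      · show φ (gi hi) ∈ R
        rw [hφ, MulAut.conj_apply, ← gi_comm hi, mul_inv_cancel_right]
        exact hd.imem _ (val_gi hi)
      · exact key hP.a1
      · exact key hP.b1
      · exact key hP.a2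
      · exact key hP.b2
    · obtain ⟨c, hc⟩ := hs
      refine ⟨g, ?_, by rw [MulEquiv.coe_toMonoidHom, hφ, MulAut.conj_apply, ← (IsScalar.commute ⟨c, hc⟩ P).eq,
        mul_inv_cancel_right]⟩
      have hpow : ∃ k : ℕ, (g : M4) = ((gi hi ^ k : GL4) : M4) := by
        rcases scalar_mem_cases hd hg hc with rfl | rfl | rfl | rfl
        · exact ⟨0, by rw [hc, pow_zero, one_smul]; rfl⟩
        · exact ⟨2, by rw [hc, pow_two, gi_sq, neg_one_smul, Units.val_neg, Units.val_one]⟩
        · exact ⟨1, by rw [hc, pow_one, val_gi]⟩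
        · exact ⟨3, by rw [hc, pow_succ, pow_two, gi_sq, neg_one_mul, Units.val_neg, val_gi, neg_smul]⟩
      obtain ⟨k, hk⟩ := hpow
      rw [Units.ext hk]
      exact pow_mem (gi_mem hi) k
    · refine ⟨P⁻¹ * g * P, ?_, by rw [MulEquiv.coe_toMonoidHom, hφ, MulAut.conj_apply]; group⟩
      have e : ((P⁻¹ * g * P : GL4) : M4) = s := by
        rw [Units.val_mul, Units.val_mul, mul_assoc, hgs, ← mul_assoc, Units.inv_mul, one_mul]
      simp only [Set.mem_insert_iff, Set.mem_singleton_iff] at hs
      rcases hs with rfl | rfl | rfl | rfl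
      · rw [show P⁻¹ * g * P = gA1 from Units.ext (e.trans val_gA1.symm)]; exact gA1_mem hi
      · rw [show P⁻¹ * g * P = gB1 from Units.ext (e.trans val_gB1.symm)]; exact gB1_mem hi
      · rw [show P⁻¹ * g * P = gA2 from Units.ext (e.trans val_gA2.symm)]; exact gA2_mem hi
      · rw [show P⁻¹ * g * P = gB2 from Units.ext (e.trans val_gB2.symm)]; exact gB2_mem hi
  have hSL : ∀ g, φ g ∈ SL4 ↔ g ∈ SL4 := fun g => by
    haveI : (SL4).Normal := by unfold Cfsg.Geo.specialLinear; infer_instance
    rw [hφ, MulAut.conj_apply]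
    exact ⟨fun h => by simpa [mul_assoc] using Subgroup.Normal.conj_mem inferInstance _ h P⁻¹,
      fun h => Subgroup.Normal.conj_mem inferInstance _ h P⟩
  have hN : ∀ g, φ g ∈ Cfsg.Geo.subgroupNormalizer R ↔ g ∈ Cfsg.Geo.subgroupNormalizer (stdR hi) := fun g => by
    rw [Cfsg.Geo.subgroupNormalizer, Cfsg.Geo.subgroupNormalizer, Subgroup.mem_normalizer_iff,
      Subgroup.mem_normalizer_iff, φ.surjective.forall]
    refine forall_congr' fun x => ?_
    rw [← hRmap, ← map_inv, ← map_mul, ← map_mul]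
    exact iff_congr (Subgroup.mem_map_iff_mem φ.injective) (Subgroup.mem_map_iff_mem φ.injective)
  obtain ⟨hlt, hmax⟩ := std_maximal hi h2 hp hcard h3
  refine ⟨lt_of_le_of_ne inf_le_right fun h => hlt.ne (le_antisymm inf_le_right fun g hg => ?_), fun M hle hMS => ?_⟩
  · have : φ g ∈ Cfsg.Geo.subgroupNormalizer R ⊓ SL4 := by rw [h]; exact (hSL g).2 hg
    exact ⟨(hN g).1 this.1, hg⟩
  have hM' := hmax (M.comap φ.toMonoidHom) (fun g hg => hle ⟨(hN g).2 hg.1, (hSL g).2 hg.2⟩)
    fun g hg => (hSL g).1 (hMS hg)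
  rcases hM' with h | h
  · refine Or.inl (le_antisymm (fun g hg => ?_) hle)
    obtain ⟨g, rfl⟩ := φ.surjective g
    have : g ∈ M.comap φ.toMonoidHom := hg
    rw [h] at this
    exact ⟨(hN g).2 this.1, (hSL g).2 this.2⟩
  · refine Or.inr (le_antisymm hMS fun g hg => ?_)
    obtain ⟨g, rfl⟩ := φ.surjective g
    have : g ∈ M.comap φ.toMonoidHom := h ▸ (hSL g).1 hg
    exact this

end Cfsg.Agent.H69.SLFour.Pauli
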