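import Cfsg.Agent.H69.SLFour.Pauli

/-!
Maximality of the normaliser: the stabiliser of one line is Sp_4 with its group of five anticommuting involutions.
-/

set_option autoImplicit false

namespace Cfsg.Agent.H69.SLFour.Pauli

open Matrix Cfsg.Agent.H27.KleinCorr Cfsg.Agent.Orthogonal Cfsg.Agent.H97.Frame
open Cfsg.Agent.H73.Pauli Cfsg.Agent.H69.SLFour.Klein Cfsg.Agent.H69.SLFour.SixFrame
open scoped MatrixGroups

variable {F : Type*} [Field F]

local notation "V6" => Fin 3 ⊕ Fin 3 → F
local notation "M4" => Matrix (Fin 4) (Fin 4) F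
local notation "GL4" => GL (Fin 4) F
local notation "GLs" => GL (Fin 2 ⊕ Fin 2) F
local notation "Ms" => Matrix (Fin 2 ⊕ Fin 2) (Fin 2 ⊕ Fin 2) F
local notation "SL4" => Cfsg.Geo.specialLinear (Fin 4) F

/-- The change of labels. -/
def idx : Fin 2 ⊕ Fin 2 ≃ Fin 4 where
  toFun := Sum.elim ![1, 3] ![0, 2]
  invFun := ![.inr 0, .inl 0, .inr 1, .inl 1]
  left_inv x := by rcases x with a | a <;> fin_cases a <;> rfl
  right_inv k := by fin_cases k <;> rfl

/-- Relabelling of matrices. -/
noncomputable def lab : GLs ≃* GL4 := Units.mapEquiv (Matrix.reindexAlgEquiv F F idx).toMulEquiv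

theorem val_lab (g : GLs) : ((lab g : GL4) : M4) = Matrix.reindex idx idx (g : Ms) := rfl

/-- The first line. -/
def line0 : Fin 3 ⊕ Fin 3 → F := Sum.elim ![1, 0, 0] ![1, 0, 0]

theorem frame_zero (i : F) : frame i 0 = line0 := rfl

theorem reindex_J : Matrix.reindex idx idx (Matrix.J (Fin 2) F) = alt (line0 (F := F)) := by
  ext a b
  fin_cases a <;> fin_cases b <;> simp [idx, Matrix.J, alt, line0]

theorem mem_sp_iff (g : GLs) : g ∈ Cfsg.spGL 2 F ↔ klein ((lab g : GL4) : M4) line0 = line0 := by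
  have h1 : g ∈ Cfsg.spGL 2 F ↔ (g : Ms) * Matrix.J (Fin 2) F * (g : Ms)ᵀ = Matrix.J (Fin 2) F := by
    rw [← SymplecticGroup.mem_iff]
    exact S5976.mem_spGL.trans (Symplectic.mem_symplectic_iff_form _).symm
  have h2 : Matrix.reindex idx idx ((g : Ms) * Matrix.J (Fin 2) F * (g : Ms)ᵀ) =
      ((lab g : GL4) : M4) * alt line0 * ((lab g : GL4) : M4)ᵀ := by
    rw [← reindex_J, val_lab]
    simp [Matrix.transpose_submatrix]
  rw [h1, ← (Matrix.reindex idx idx).injective.eq_iff, h2, reindex_J, klein_apply]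
  exact ⟨fun h => by rw [h, co_alt], fun h => by rw [← alt_co, h]⟩

variable {i : F} (hi : i * i = -1) (h2 : (2 : F) ≠ 0)

local notation "Hf" => frame_onb hi h2

/-- Five anticommuting involutions fixing the first line. -/
noncomputable def five : Fin 5 → GL4 :=
  ![gB2, gA2, gB2 * gA2 * gA1 * gB1, gi hi * (gB2 * gA2 * gA1), gi hi * (gB2 * gA2 * gB1)]

theorem five_mem (a : Fin 5) : five hi a ∈ stdR hi := by
  have := gi_mem hi; have := gA1_mem hi; have := gB1_mem hi; have := gA2_mem hi; have := gB2_mem hi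
  fin_cases a <;> simp [five] <;> repeat (first | assumption | apply mul_mem)

theorem val_five : (fun a => ((five hi a : GL4) : M4)) =
    ![sB2, sA2, sB2 * sA2 * sA1 * sB1, i • (sB2 * sA2 * sA1), i • (sB2 * sA2 * sB1)] := by
  funext a
  fin_cases a <;> simp [five, val_gi, val_gA1, val_gB1, val_gA2, val_gB2]

theorem five_sq (a : Fin 5) : five hi a * five hi a = 1 := by
  refine Units.ext ?_
  rw [Units.val_mul, Units.val_one, congrFun (val_five hi) a]
  fin_cases a <;> ext r s <;> fin_cases r <;> fin_cases s <;>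
    simp [sA1, sB1, sA2, sB2, Matrix.mul_apply, Fin.sum_univ_four, Matrix.vecMul, dotProduct, hi]

theorem five_anti (a b : Fin 5) (h : a ≠ b) : five hi a * five hi b = -(five hi b * five hi a) := by
  refine Units.ext ?_
  rw [Units.val_mul, Units.val_neg, Units.val_mul, congrFun (val_five hi) a, congrFun (val_five hi) b]
  fin_cases a <;> fin_cases b <;> first
    | exact absurd rfl h
    | (ext r s; fin_cases r <;> fin_cases s <;>
        simp [sA1, sB1, sA2, sB2, Matrix.mul_apply, Fin.sum_univ_four, Matrix.vecMul, dotProduct])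

include h2 in
theorem five_fix (a : Fin 5) : klein ((five hi a : GL4) : M4) line0 = line0 := by
  have _ := h2
  have e1 : klein (sA1 : M4) (line0 (F := F)) = -line0 := by
    have h := klein_a1 (i := i) 0
    rwa [frame_zero, if_pos (by decide)] at h
  have e2 : klein (sB1 : M4) (line0 (F := F)) = -line0 := by
    have h := klein_b1 (i := i) 0
    rwa [frame_zero, if_pos (by decide)] at h
  have e3 : klein (sA2 : M4) (line0 (F := F)) = line0 := by
    have h := klein_a2 (i := i) 0
    rwa [frame_zero, if_neg (by decide)] at h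
  have e4 : klein (sB2 : M4) (line0 (F := F)) = line0 := by
    have h := klein_b2 (i := i) 0
    rwa [frame_zero, if_neg (by decide)] at h
  rw [congrFun (val_five hi) a]
  fin_cases a
  · exact e4
  · exact e3
  · show klein (sB2 * sA2 * sA1 * sB1 : M4) line0 = line0
    simp only [map_mul, Module.End.mul_apply, e1, e2, e3, e4, map_neg, neg_neg]
  · show klein (i • (sB2 * sA2 * sA1 : M4)) line0 = line0
    simp only [klein_smul, hi, map_mul, Module.End.mul_apply, e1, e2, e3, e4, map_neg, neg_neg, neg_one_smul]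
  · show klein (i • (sB2 * sA2 * sB1 : M4)) line0 = line0
    simp only [klein_smul, hi, map_mul, Module.End.mul_apply, e1, e2, e3, e4, map_neg, neg_neg, neg_one_smul]

theorem stdR_le_five : stdR hi ≤ Subgroup.closure ({gi hi} ∪ Set.range (five hi)) := by
  set C := Subgroup.closure ({gi hi} ∪ Set.range (five hi))
  have hg : gi hi ∈ C := Subgroup.subset_closure (by simp)
  have hx : ∀ a, five hi a ∈ C := fun a => Subgroup.subset_closure (by simp)
  have hb2 : gB2 ∈ C := hx 0
  have ha2 : gA2 ∈ C := hx 1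
  have ha1 : gA1 ∈ C := by
    have h : (gB2 * gA2)⁻¹ * ((gi hi)⁻¹ * (gi hi * (gB2 * gA2 * gA1))) ∈ C :=
      mul_mem (inv_mem (mul_mem hb2 ha2)) (mul_mem (inv_mem hg) (hx 3))
    rwa [inv_mul_cancel_left, inv_mul_cancel_left] at h
  have hb1 : gB1 ∈ C := by
    have h : (gB2 * gA2)⁻¹ * ((gi hi)⁻¹ * (gi hi * (gB2 * gA2 * gB1))) ∈ C :=
      mul_mem (inv_mem (mul_mem hb2 ha2)) (mul_mem (inv_mem hg) (hx 4))
    rwa [inv_mul_cancel_left, inv_mul_cancel_left] at h
  rw [stdR, Subgroup.closure_le]
  intro x hx'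
  simp only [Set.mem_insert_iff, Set.mem_singleton_iff] at hx'
  rcases hx' with rfl | rfl | rfl | rfl | rfl <;> assumption

variable [Fintype F]

include h2 in
/-- The group of five involutions inside Sp_4. -/
theorem five_data :
    H57.Frame5.Five (Subgroup.closure (Set.range fun a => lab.symm (five hi a)))
      (fun a => lab.symm (five hi a)) where
  two := h2
  mem a := Subgroup.subset_closure ⟨a, rfl⟩
  sp a := (mem_sp_iff _).2 (by rw [MulEquiv.apply_symm_apply]; exact five_fix hi h2 a)
  sq a := by rw [← map_mul, five_sq, map_one]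
  anti a b hab := by
    rw [← map_mul, five_anti hi a b hab, ← map_mul]
    exact Units.ext (Matrix.ext fun r s => by simp [lab, Units.mapEquiv])
  gen := rfl
  scalar A hA := by
    set B : M4 := Matrix.reindexAlgEquiv F F idx A with hB
    have hc : ∀ a, B * ((five hi a : GL4) : M4) = ((five hi a : GL4) : M4) * B := fun a => by
      have h := congrArg (Matrix.reindexAlgEquiv F F idx) (hA a)
      rw [map_mul, map_mul] at h
      have e : (Matrix.reindexAlgEquiv F F idx) ((lab.symm (five hi a) : GLs) : Ms) = ((five hi a : GL4) : M4) := by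
        rw [Matrix.reindexAlgEquiv_apply, ← val_lab, MulEquiv.apply_symm_apply]
      rwa [e] at h
    have hcen : ∀ x ∈ stdR hi, B * (x : M4) = (x : M4) * B := by
      intro x hx
      have hx' := stdR_le_five hi hx
      clear hx
      induction hx' using Subgroup.closure_induction with
      | mem y hy =>
        rcases hy with rfl | ⟨a, rfl⟩
        · rw [val_gi, Matrix.mul_smul, mul_one, Matrix.smul_mul, one_mul]
        · exact hc a
      | one => simp
      | mul a b _ _ ha hb => rw [Units.val_mul, ← mul_assoc, ha, mul_assoc, hb, mul_assoc]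
      | inv a _ ha =>
        calc B * ((a⁻¹ : GL4) : M4) = ((a⁻¹ : GL4) : M4) * ((a : M4) * B) * ((a⁻¹ : GL4) : M4) := by
              rw [← mul_assoc, Units.inv_mul, one_mul]
          _ = ((a⁻¹ : GL4) : M4) * B := by rw [← ha, mul_assoc, mul_assoc, Units.mul_inv, mul_one]
    have e := std_commutant h2 B (hcen _ (gA1_mem hi)) (hcen _ (gB1_mem hi)) (hcen _ (gA2_mem hi))
      (hcen _ (gB2_mem hi))
    refine ⟨B 0 0, (Matrix.reindexAlgEquiv F F idx).injective ?_⟩
    rw [map_smul, map_one, ← hB]
    exact e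

theorem neg_alt_sq : alt (line0 (F := F)) * alt (line0 (F := F)) = -1 := by
  ext a b
  fin_cases a <;> fin_cases b <;> simp [alt, line0, Matrix.mul_apply, Fin.sum_univ_four]

include hi h2 in
/-- A group containing the isometries of the first line and moving it is everything. -/
theorem top_of_line {M : Subgroup GL4} (hM : M ≤ SL4)
    (hst : ∀ g ∈ SL4, klein (g : M4) line0 = line0 → g ∈ M) (hgi : gi hi ∈ M)
    {x : GL4} (hx : x ∈ M) (hxe : klein (x : M4) line0 = frame i 1) : M = SL4 := by
  have hpf : pf (line0 (F := F)) = 1 := by simp [pf, line0]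
  have hf : Cfsg.Geo.IsSymplecticForm fun u v : Fin 4 → F => u ⬝ᵥ (alt line0 *ᵥ v) := by
    refine ⟨⟨fun x y v => add_dotProduct _ _ _, fun c x v => by rw [smul_dotProduct, smul_eq_mul],
      fun v x y => by rw [Matrix.mulVec_add, dotProduct_add], fun c v x => by
        rw [Matrix.mulVec_smul, dotProduct_smul, smul_eq_mul]⟩, fun v w => ?_, fun v => ?_, fun v hv => ?_⟩
    · simp [alt, line0, dotProduct, Matrix.mulVec, Fin.sum_univ_four]; ring
    · simp [alt, line0, dotProduct, Matrix.mulVec, Fin.sum_univ_four]; ring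
    · obtain ⟨k, hk⟩ := Function.ne_iff.1 hv
      refine ⟨⟨Pi.single (![1, 0, 3, 2] k) 1, ?_⟩, ⟨Pi.single (![1, 0, 3, 2] k) 1, ?_⟩⟩ <;>
        fin_cases k <;> simpa [alt, line0, dotProduct, Matrix.mulVec, Fin.sum_univ_four] using hk
  have hS : ∀ g ∈ Cfsg.Geo.similarityGroup (fun u v : Fin 4 → F => u ⬝ᵥ (alt line0 *ᵥ v)) ⊓ SL4,
      ∃ c : F, (c = 1 ∨ c = -1) ∧ klein (g : M4) line0 = c • line0 := by
    rintro g ⟨⟨c, hc⟩, hgs⟩
    set A := alt (line0 (F := F)) with hA
    have hmat : (g : M4)ᵀ * A * (g : M4) = (c : F) • A := by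
      refine Matrix.ext fun a b => ?_
      have h := hc (Pi.single a 1) (Pi.single b 1)
      simp only at h
      rw [Matrix.mulVec_mulVec, ← Matrix.vecMul_transpose, ← Matrix.dotProduct_mulVec,
        Matrix.mulVec_mulVec] at h
      rw [mul_assoc, Matrix.smul_apply, smul_eq_mul]
      simpa [Matrix.mulVec, dotProduct, Pi.single_apply] using h
    have h1 : ((-(c : F)⁻¹) • (A * (g : M4)ᵀ * A)) * (g : M4) = 1 := by
      rw [Matrix.smul_mul, show A * (g : M4)ᵀ * A * (g : M4) = A * ((g : M4)ᵀ * A * (g : M4)) by noncomm_ring, hmat,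
        Matrix.mul_smul, hA, neg_alt_sq, smul_smul, neg_mul, inv_mul_cancel₀ c.ne_zero, neg_one_smul, neg_neg]
    have h2' : (g : M4) * A * (g : M4)ᵀ = (c : F) • A := by
      have h := congrArg (fun Z => (c : F) • (Z * A)) (mul_eq_one_comm.1 h1)
      simp only [Matrix.mul_smul, Matrix.smul_mul, smul_smul, one_mul, mul_neg, mul_inv_cancel₀ c.ne_zero,
        neg_one_smul] at h
      rw [show (g : M4) * (A * (g : M4)ᵀ * A) * A = (g : M4) * A * (g : M4)ᵀ * (A * A) by noncomm_ring, hA,
        neg_alt_sq, mul_neg, mul_one, neg_neg, ← hA] at h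
      exact h
    have hk : klein (g : M4) line0 = (c : F) • line0 := by rw [klein_apply, ← hA, h2', map_smul, hA, co_alt]
    have hsq := pf_klein (g : M4) line0
    rw [hk, det_of_mem hgs, one_mul, hpf] at hsq
    have hcc : (c : F) * (c : F) = 1 := by
      rw [← hsq]; simp [pf, line0]
    exact ⟨c, mul_self_eq_one_iff.1 hcc, hk⟩
  have hgs : gi hi ∈ SL4 := stdR_le hi (gi_mem hi)
  refine ((H57.SLSmall.symplectic_maximal 4 (by norm_num) _ hf).2 M ?_ hM).resolve_left ?_
  · intro g hg
    obtain ⟨c, rfl | rfl, hk⟩ := hS g hg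
    · exact hst g hg.2 (by rw [hk, one_smul])
    · have h := hst (gi hi * g) (mul_mem hgs hg.2) (by
        rw [Units.val_mul, map_mul]
        show klein ((gi hi : GL4) : M4) (klein (g : M4) line0) = line0
        rw [klein_gi, hk, neg_one_smul, neg_neg])
      exact (Subgroup.mul_mem_cancel_left _ hgi).1 h
  · intro e
    obtain ⟨c, -, hk⟩ := hS x (e ▸ hx)
    rw [hxe] at hk
    have := congrArg ((Hf).co 1) hk
    rw [(Hf).co_self, (Hf).co_smul, ← frame_zero i, (Hf).co_ne (by decide : (1 : Fin 6) ≠ 0), mul_zero] at this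
    exact one_ne_zero this

include h2 in
/-- The normaliser of the standard group is maximal. -/
theorem std_maximal {p : ℕ} (hp : p.Prime) (hcard : Fintype.card F = p) (h3 : (3 : F) ≠ 0) :
    Cfsg.Geo.IsMaximalIn SL4 (Cfsg.Geo.subgroupNormalizer (stdR hi) ⊓ SL4) := by
  classical
  haveI : Finite (O (qp (F := F))) :=
    Finite.of_injective (fun g : O (qp (F := F)) => fun x => (g : V6 ≃ₗ[F] V6) x)
      fun a b h => O.ext_app fun x => congrFun h x
  refine ⟨lt_of_le_of_ne inf_le_right fun heq => ?_, fun M hle hMS => ?_⟩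
  · -- a product of two reflections which is not monomial
    set e := frame i
    set v := e 1 + (e 2 + i • e 3) with hv
    have cv : ∀ k, (Hf).co k v = (if k = 1 then 1 else 0) + ((if k = 2 then 1 else 0) + i * (if k = 3 then 1 else 0)) :=
      fun k => by rw [hv, (Hf).co_add, (Hf).co_add, (Hf).co_smul, (Hf).co_e, (Hf).co_e, (Hf).co_e]
    have hqv : qp v = 1 := by
      have h : (Hf).dot v v = 1 := by
        rw [(Hf).dot_eq_sum, Fin.sum_univ_six]
        simp [cv]
        linear_combination hi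
      rw [(Hf).dot_self, inv_one, one_mul] at h
      exact h
    obtain ⟨g, hg⟩ := exists_lift (u := e 0) (w := v) (by rw [(Hf).val]; exact one_ne_zero)
      (by rw [hqv, (Hf).val])
    have hgm : rho g ∈ (Hf).mono := (mem_norm_iff hi h2 g).1 (by
      have : (g : GL4) ∈ Cfsg.Geo.subgroupNormalizer (stdR hi) ⊓ SL4 := by rw [heq]; exact g.2
      exact this.1)
    obtain ⟨j, hj⟩ := hgm 1
    have hd : (Hf).dot v (e 1) = 1 := by
      rw [(Hf).dot_comm]
      show (Hf).co 1 v = 1
      simp [cv]
    have hu : (rho g : V6 ≃ₗ[F] V6) (e 1) = e 1 - (2 : F) • v := by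
      rw [hg, Subgroup.coe_mul, mul_app, (Hf).rO_unit hqv (e 1), hd, mul_one, rO_fix]
      refine (Hf).polar_of_dot ?_
      show (Hf).co 0 (e 1 - (2 : F) • v) = 0
      rw [(Hf).co_sub, (Hf).co_smul, cv, (Hf).co_e]
      simp
    rw [hu] at hj
    obtain ⟨s, hs⟩ := Submodule.mem_span_singleton.1 hj
    have h1' := congrArg ((Hf).co 1) hs
    have h2' := congrArg ((Hf).co 2) hs
    rw [(Hf).co_smul, (Hf).co_sub, (Hf).co_smul, cv, (Hf).co_e, (Hf).co_e] at h1' h2'
    rcases eq_or_ne j 1 with rfl | hj1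
    · simp [h2] at h2'
    · rw [if_neg (Ne.symm hj1), if_pos rfl, if_neg (by decide), if_neg (by decide)] at h1'
      exact one_ne_zero (α := F) (by linear_combination h1')
  set X : Subgroup (O (qp (F := F))) := (M.subgroupOf SL4).map rho with hXdef
  have inX : ∀ {g : ↥SL4}, (g : GL4) ∈ M → rho g ∈ X := fun {g} hg => Subgroup.mem_map.2 ⟨g, hg, rfl⟩
  have hlift : ∀ a b, qp a ≠ 0 → qp b = qp a → rO qp a * rO qp b ∈ (Hf).mono →
      ∃ g : ↥SL4, (g : GL4) ∈ M ∧ rho g = rO qp a * rO qp b := fun a b ha hab hm => by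
    obtain ⟨g, hg⟩ := exists_lift ha hab
    exact ⟨g, hle ⟨(mem_norm_iff hi h2 g).2 (hg ▸ hm), g.2⟩, hg⟩
  set M' : Subgroup GLs := M.comap lab.toMonoidHom ⊓ Cfsg.spGL 2 F with hM'
  set R1 := Subgroup.closure (Set.range fun a => lab.symm (five hi a)) with hR1
  have hgiN : gi hi ∈ Cfsg.Geo.subgroupNormalizer (stdR hi) ⊓ SL4 :=
    ⟨Subgroup.le_normalizer (gi_mem hi), stdR_le hi (gi_mem hi)⟩
  have hgiM : gi hi ∈ M := hle hgiN
  have lab_sl : ∀ {y : GLs}, y ∈ Cfsg.spGL 2 F → lab y ∈ SL4 := fun {y} hy => by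
    refine mem_of_det ?_
    have h := pf_klein ((lab y : GL4) : M4) line0
    rw [(mem_sp_iff y).1 hy] at h
    have hp : pf (line0 (F := F)) = 1 := by simp [pf, line0]
    rw [hp, mul_one] at h
    exact h.symm
  have hNM' : Cfsg.Geo.subgroupNormalizer R1 ⊓ Cfsg.spGL 2 F ≤ M' := by
    rintro y ⟨hy, hys⟩
    refine ⟨hle ⟨mem_normalizer_of_le (g := lab y) fun x hx => ?_, lab_sl hys⟩, hys⟩
    have hx' := stdR_le_five hi hx
    clear hx
    induction hx' using Subgroup.closure_induction with
    | one => rw [mul_one, mul_inv_cancel]; exact one_mem _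
    | mul a b _ _ ha hb =>
      rw [show lab y * (a * b) * (lab y)⁻¹ = lab y * a * (lab y)⁻¹ * (lab y * b * (lab y)⁻¹) by group]
      exact mul_mem ha hb
    | inv a _ ha =>
      rw [show lab y * a⁻¹ * (lab y)⁻¹ = (lab y * a * (lab y)⁻¹)⁻¹ by group]
      exact inv_mem ha
    | mem x hx =>
      rcases hx with rfl | ⟨a, rfl⟩
      · rw [← gi_comm hi, mul_inv_cancel_right]; exact gi_mem hi
      · have h := (Subgroup.mem_normalizer_iff.1 hy (lab.symm (five hi a))).1 (Subgroup.subset_closure ⟨a, rfl⟩)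
        have hsub : R1 ≤ (stdR hi).comap lab.toMonoidHom := by
          rw [hR1, Subgroup.closure_le]
          rintro _ ⟨b, rfl⟩
          show lab (lab.symm (five hi b)) ∈ stdR hi
          rw [MulEquiv.apply_symm_apply]
          exact five_mem hi b
        simpa using hsub h
  rcases (H57.Frame5.maximal hp hcard (five_data hi h2)).2 M' hNM' inf_le_right with h | h
  · refine Or.inl (le_antisymm (fun g hg => ?_) hle)
    have hX : Six (Hf) X := ⟨h3, fun a b ha hab hm => by
      obtain ⟨g, hgM, hge⟩ := hlift a b ha hab hm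
      exact hge ▸ inX hgM, fun x hx hfix => by
      obtain ⟨g, hgM, rfl⟩ := Subgroup.mem_map.1 hx
      rw [rho_app, frame_zero] at hfix
      have hy : lab.symm (g : GL4) ∈ M' := ⟨by
        show lab (lab.symm (g : GL4)) ∈ M
        rw [MulEquiv.apply_symm_apply]; exact hgM, (mem_sp_iff _).2 (by rw [MulEquiv.apply_symm_apply]; exact hfix)⟩
      rw [h] at hy
      refine (mem_norm_iff hi h2 g).1 (mem_normalizer_of_le fun z hz => ?_)
      have hz' := stdR_le_five hi hz
      clear hz
      induction hz' using Subgroup.closure_induction with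
      | one => rw [mul_one, mul_inv_cancel]; exact one_mem _
      | mul a b _ _ ha hb =>
        rw [show (g : GL4) * (a * b) * (g : GL4)⁻¹ = (g : GL4) * a * (g : GL4)⁻¹ * ((g : GL4) * b * (g : GL4)⁻¹) by
          group]
        exact mul_mem ha hb
      | inv a _ ha =>
        rw [show (g : GL4) * a⁻¹ * (g : GL4)⁻¹ = ((g : GL4) * a * (g : GL4)⁻¹)⁻¹ by group]
        exact inv_mem ha
      | mem z hz =>
        rcases hz with rfl | ⟨a, rfl⟩
        · rw [← gi_comm hi, mul_inv_cancel_right]; exact gi_mem hi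
        · have h' := (Subgroup.mem_normalizer_iff.1 hy.1 (lab.symm (five hi a))).1 (Subgroup.subset_closure ⟨a, rfl⟩)
          rw [← map_inv, ← map_mul, ← map_mul] at h'
          have hsub : Subgroup.closure (Set.range fun a => lab.symm (five hi a)) ≤
              (stdR hi).comap lab.toMonoidHom := by
            rw [Subgroup.closure_le]
            rintro _ ⟨b, rfl⟩
            show lab (lab.symm (five hi b)) ∈ stdR hi
            rw [MulEquiv.apply_symm_apply]
            exact five_mem hi b
          simpa using hsub h'⟩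
    exact ⟨(mem_norm_iff hi h2 ⟨g, hMS hg⟩).2 (hX.le_mono (inX (g := ⟨g, hMS hg⟩) hg)), hMS hg⟩
  · -- an element moving the first line
    have h0 : ∀ {a b : Fin 6}, a ≠ b → qp (frame i a - (1 : F) • frame i b) = 2 * 1 := fun hab =>
      (Hf).qmap_swp hab (one_mul 1)
    obtain ⟨x, hxM, hxe⟩ := hlift (frame i 0 - (1 : F) • frame i 1) (frame i 2 - (1 : F) • frame i 3)
      (by rw [h0 (by decide)]; simpa using h2) (by rw [h0 (by decide), h0 (by decide)])
      ((Hf).mono.mul_mem ((Hf).isMono_swp (by decide) (one_mul 1)) ((Hf).isMono_swp (by decide) (one_mul 1)))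
    refine Or.inr (top_of_line hi h2 hMS (fun g hg hfix => ?_) hgiM hxM ?_)
    · have hy : lab.symm g ∈ M' := by
        rw [h]
        exact (mem_sp_iff _).2 (by rw [MulEquiv.apply_symm_apply]; exact hfix)
      have := hy.1
      simpa using this
    · rw [← rho_app, ← frame_zero i, hxe, Subgroup.coe_mul, mul_app, (Hf).supp_swp 0 (by decide),
        (Hf).rO_swp_left (by decide) (one_mul 1), one_smul]

end Cfsg.Agent.H69.SLFour.Pauli
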