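import Cfsg.Agent.H97.Frame.Main

/-!
Monomial isometries of a frame of six lines: their permutations and traces, and the elements of an overgroup
fixing or nearly fixing a line.
-/

set_option autoImplicit false

namespace Cfsg.Agent.H69.SLFour.SixFrame

open QuadraticMap Module Cfsg.Agent.Orthogonal Cfsg.Agent.H97.Frame

variable {F V : Type*} [Field F] [AddCommGroup V] [Module F V]
variable {Q : QuadraticForm F V} {e : Fin 6 → V} {c : F} (H : ONB Q e c)

/-- The monomial isometry moves the lines by the permutation. -/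
def Per (_H : ONB Q e c) (g : O Q) (π : Equiv.Perm (Fin 6)) : Prop :=
  ∀ i, (g : V ≃ₗ[F] V) (e i) = e (π i) ∨ (g : V ≃ₗ[F] V) (e i) = -e (π i)

/-- The trace. -/
def trc (g : O Q) : F := ∑ i, H.co i ((g : V ≃ₗ[F] V) (e i))

theorem exists_per {g : O Q} (hg : g ∈ H.mono) : ∃ π, Per H g π := ONB.IsMono.exists_perm H hg

variable {H}

theorem Per.mem {g : O Q} {π : Equiv.Perm (Fin 6)} (h : Per H g π) : g ∈ H.mono := fun i => by
  rcases h i with h' | h' <;> rw [h']
  · exact H.ax_e _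
  · exact H.ax_neg (H.ax_e _)

theorem Per.co_zero {g : O Q} {π : Equiv.Perm (Fin 6)} (h : Per H g π) {i j : Fin 6} (hj : j ≠ π i) :
    H.co j ((g : V ≃ₗ[F] V) (e i)) = 0 := by
  rcases h i with h' | h' <;> simp [h', H.co_neg, H.co_ne hj]

theorem Per.co_sq {g : O Q} {π : Equiv.Perm (Fin 6)} (h : Per H g π) (i : Fin 6) :
    H.co (π i) ((g : V ≃ₗ[F] V) (e i)) = 1 ∨ H.co (π i) ((g : V ≃ₗ[F] V) (e i)) = -1 := by
  rcases h i with h' | h' <;> simp [h', H.co_neg, H.co_self]

theorem Per.unique {g : O Q} {π π' : Equiv.Perm (Fin 6)} (h : Per H g π) (h' : Per H g π') : π = π' := by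
  refine Equiv.ext fun i => by_contra fun hne => ?_
  have h0 := h'.co_zero (i := i) hne
  rcases h.co_sq i with e | e <;> rw [h0] at e
  · exact zero_ne_one e
  · exact one_ne_zero (α := F) (by linear_combination e)

theorem Per.one : Per H (1 : O Q) 1 := fun i => Or.inl (by simp)

theorem Per.mul {g h : O Q} {π ρ : Equiv.Perm (Fin 6)} (hg : Per H g π) (hh : Per H h ρ) :
    Per H (g * h) (π * ρ) := fun i => by
  rw [Subgroup.coe_mul, mul_app, Equiv.Perm.mul_apply]
  rcases hh i with h' | h' <;> rcases hg (ρ i) with g' | g' <;> simp [h', g']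

theorem Per.inv {g : O Q} {π : Equiv.Perm (Fin 6)} (hg : Per H g π) : Per H g⁻¹ π⁻¹ := by
  obtain ⟨ρ, hρ⟩ := exists_per H (H.mono.inv_mem hg.mem)
  have h := hg.mul hρ
  rw [mul_inv_cancel] at h
  rwa [← eq_inv_of_mul_eq_one_right (h.unique Per.one)] at *

theorem Per.pow {g : O Q} {π : Equiv.Perm (Fin 6)} (hg : Per H g π) (k : ℕ) : Per H (g ^ k) (π ^ k) := by
  induction k with
  | zero => simpa using Per.one
  | succ k ih => rw [pow_succ, pow_succ]; exact ih.mul hg

theorem per_diag {d : O Q} {B : Finset (Fin 6)} (hd : H.IsDiag d B) : Per H d 1 := fun i => by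
  rw [hd i]; split_ifs <;> simp

theorem Per.diag_of_one {g : O Q} (hg : Per H g 1) : ∃ B, H.IsDiag g B := by
  classical
  refine ⟨Finset.univ.filter fun i => (g : V ≃ₗ[F] V) (e i) ≠ e i, fun i => ?_⟩
  by_cases hi : (g : V ≃ₗ[F] V) (e i) = e i
  · rw [if_neg (by simp [hi]), hi]
  · rw [if_pos (by simp [hi])]
    exact (hg i).resolve_left hi

theorem co_app (g : O Q) (i : Fin 6) (v : V) :
    H.co i ((g : V ≃ₗ[F] V) v) = ∑ j, H.co i ((g : V ≃ₗ[F] V) (e j)) * H.co j v := by
  have h1 : H.co i ((g : V ≃ₗ[F] V) v) = H.dot (((g⁻¹ : O Q) : V ≃ₗ[F] V) (e i)) v := by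
    conv_rhs => rw [← H.dot_app g, ← mul_app, ← Subgroup.coe_mul, mul_inv_cancel]
    rfl
  rw [h1, H.dot_eq_sum]
  refine Finset.sum_congr rfl fun j _ => ?_
  congr 1
  show H.dot (e j) (((g⁻¹ : O Q) : V ≃ₗ[F] V) (e i)) = H.dot (e i) _
  conv_lhs => rw [← H.dot_app g, ← mul_app (g : V ≃ₗ[F] V), ← Subgroup.coe_mul, mul_inv_cancel, H.dot_comm]
  rfl

theorem trc_comm (a b : O Q) : trc H (a * b) = trc H (b * a) := by
  have key : ∀ x y : O Q, trc H (x * y) =
      ∑ i, ∑ j, H.co i ((x : V ≃ₗ[F] V) (e j)) * H.co j ((y : V ≃ₗ[F] V) (e i)) := fun x y => by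
    unfold trc
    refine Finset.sum_congr rfl fun i _ => ?_
    rw [Subgroup.coe_mul, mul_app]
    exact co_app x i _
  rw [key a b, key b a, Finset.sum_comm]
  exact Finset.sum_congr rfl fun i _ => Finset.sum_congr rfl fun j _ => mul_comm _ _

theorem trc_conj (g h : O Q) : trc H (g * h * g⁻¹) = trc H h := by
  rw [trc_comm, ← mul_assoc, inv_mul_cancel, one_mul]

theorem trc_diag {d : O Q} {B : Finset (Fin 6)} (hd : H.IsDiag d B) : trc H d = 6 - 2 * (B.card : F) := by
  classical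
  have hterm : ∀ i, H.co i ((d : V ≃ₗ[F] V) (e i)) = 1 - 2 * (if i ∈ B then 1 else 0) := fun i => by
    rw [hd i]
    split_ifs
    · rw [H.co_neg, H.co_self]; ring
    · rw [H.co_self]; ring
  rw [trc, Finset.sum_congr rfl fun i _ => hterm i, Finset.sum_sub_distrib, ← Finset.mul_sum]
  simp

theorem trc_pair {a b : Fin 6} (hab : a ≠ b) : trc H (rO Q (e a) * rO Q (e b)) = 2 := by
  rw [trc_diag (H.isDiag_pair hab), Finset.card_pair hab]
  norm_num

/-- The fixed lines. -/
def fx (π : Equiv.Perm (Fin 6)) : Finset (Fin 6) := Finset.univ.filter fun i => π i = i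

theorem mem_fx {π : Equiv.Perm (Fin 6)} {i : Fin 6} : i ∈ fx π ↔ π i = i := by simp [fx]

/-- The trace counts the signs on the fixed lines. -/
theorem Per.trc_eq {g : O Q} {π : Equiv.Perm (Fin 6)} (hg : Per H g π) :
    ∃ N ⊆ fx π, (∀ i ∈ N, (g : V ≃ₗ[F] V) (e i) = -e i) ∧ (∀ i ∈ fx π, i ∉ N → (g : V ≃ₗ[F] V) (e i) = e i) ∧
      trc H g = ((fx π).card : F) - 2 * (N.card : F) := by
  classical
  refine ⟨(fx π).filter fun i => (g : V ≃ₗ[F] V) (e i) ≠ e i, Finset.filter_subset _ _, fun i hi => ?_,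
    fun i hi hi' => by_contra fun h => hi' (Finset.mem_filter.2 ⟨hi, h⟩), ?_⟩
  · obtain ⟨hi, hne⟩ := Finset.mem_filter.1 hi
    have := hg i
    rw [mem_fx.1 hi] at this
    exact this.resolve_left hne
  have hterm : ∀ i, H.co i ((g : V ≃ₗ[F] V) (e i)) =
      if π i = i then 1 - 2 * (if (g : V ≃ₗ[F] V) (e i) ≠ e i then (1 : F) else 0) else 0 := fun i => by
    split_ifs with h h'
    · have := hg i
      rw [h] at this
      rw [this.resolve_left h', H.co_neg, H.co_self]; ring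
    · rw [not_not] at h'
      rw [h', H.co_self]; ring
    · exact hg.co_zero (Ne.symm h)
  rw [trc, Finset.sum_congr rfl fun i _ => hterm i, ← Finset.sum_filter]
  show ∑ i ∈ fx π, (1 - 2 * (if (g : V ≃ₗ[F] V) (e i) ≠ e i then (1 : F) else 0)) = _
  rw [Finset.sum_sub_distrib, ← Finset.mul_sum, ← Finset.sum_filter]
  simp

theorem co_diag {d : O Q} {B : Finset (Fin 6)} (hd : H.IsDiag d B) (i : Fin 6) (v : V) :
    H.co i ((d : V ≃ₗ[F] V) v) = if i ∈ B then -H.co i v else H.co i v := by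
  rw [co_app d i v, Finset.sum_eq_single i]
  · rw [hd i]; split_ifs <;> simp [H.co_neg, H.co_self]
  · intro j _ hji
    rw [hd j]; split_ifs <;> simp [H.co_neg, H.co_ne (Ne.symm hji)]
  · simp

theorem Per.co_app_eq {g : O Q} {π : Equiv.Perm (Fin 6)} (hg : Per H g π) (i : Fin 6) (v : V) :
    H.co (π i) ((g : V ≃ₗ[F] V) v) = H.co (π i) ((g : V ≃ₗ[F] V) (e i)) * H.co i v := by
  rw [co_app g (π i) v, Finset.sum_eq_single i]
  · exact fun j _ hji => by rw [hg.co_zero (fun h => hji (π.injective h.symm)), zero_mul]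
  · simp

/-- A monomial element keeping a set commutes with its sign change. -/
theorem Per.comm_diag {g d : O Q} {π : Equiv.Perm (Fin 6)} {B : Finset (Fin 6)} (hg : Per H g π)
    (hd : H.IsDiag d B) (hB : ∀ i, π i ∈ B ↔ i ∈ B) : g * d = d * g := by
  refine H.ext_e fun i => ?_
  rw [Subgroup.coe_mul, Subgroup.coe_mul, mul_app, mul_app, hd i]
  rcases hg i with h | h <;> by_cases hi : i ∈ B <;> simp [hi, h, hd (π i), hB i]

/-- A sign change of trace two is that of a pair. -/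
theorem diag_two (h3 : (3 : F) ≠ 0) {d : O Q} {B : Finset (Fin 6)} (hd : H.IsDiag d B) (ht : trc H d = 2) :
    ∃ p q, p ≠ q ∧ B = {p, q} := by
  have h2 := H.two
  rw [trc_diag hd] at ht
  have hle : B.card ≤ 6 := by simpa using Finset.card_le_univ B
  refine Finset.card_eq_two.1 ?_
  interval_cases hn : B.card <;> first
    | rfl
    | (exfalso; norm_num at ht; done)
    | (exfalso; apply mul_ne_zero h2 h2; linear_combination ht)
    | (exfalso; apply mul_ne_zero h2 h2; linear_combination -ht)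
    | (exfalso; apply h2; linear_combination ht)
    | (exfalso; apply h2; linear_combination -ht)
    | (exfalso; apply mul_ne_zero h2 h3; linear_combination ht)
    | (exfalso; apply mul_ne_zero h2 h3; linear_combination -ht)
    | (exfalso; apply mul_ne_zero h2 (mul_ne_zero h2 h2); linear_combination ht)
    | (exfalso; apply mul_ne_zero h2 (mul_ne_zero h2 h2); linear_combination -ht)

theorem exists_ne_two (a b : Fin 6) : ∃ k, k ≠ a ∧ k ≠ b := by revert a b; decide

theorem exists_four {a b : Fin 6} (h : a ≠ b) : ∃ p q r s : Fin 6, [a, b, p, q, r, s].Nodup := by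
  obtain ⟨p, q, r, s, hpq, hpr, hps, hqr, hqs, hrs, e⟩ := Finset.card_eq_four.1
    (show (Finset.univ \ ({a, b} : Finset (Fin 6))).card = 4 by
      rw [Finset.card_sdiff_of_subset (Finset.subset_univ _), Finset.card_pair h]; rfl)
  have key : ∀ x ∈ ({p, q, r, s} : Finset (Fin 6)), x ≠ a ∧ x ≠ b := fun x hx => by
    rw [← e] at hx; simpa using hx
  refine ⟨p, q, r, s, ?_⟩
  have := key p (by simp); have := key q (by simp); have := key r (by simp); have := key s (by simp)
  simp only [List.nodup_cons, List.mem_cons, List.not_mem_nil, or_false, not_or, List.nodup_nil, not_false_iff,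
    and_true]
  tauto

theorem count_fixed : ∀ π : Equiv.Perm (Fin 6), ∀ a : Fin 6, π a ≠ a → π (π a) = a →
    (fx π).card = 0 ∨ (fx π).card = 1 ∨ (fx π).card = 2 ∨ (fx π).card = 4 := by decide +kernel

omit [AddCommGroup V] [Module F V] in
theorem sign_count (h2 : (2 : F) ≠ 0) (h3 : (3 : F) ≠ 0) {n m : ℕ} (hm : m ≤ n)
    (hn : n = 0 ∨ n = 1 ∨ n = 2 ∨ n = 4) (h : (n : F) - 2 * (m : F) = 2) :
    (n = 2 ∧ m = 0) ∨ (n = 4 ∧ m = 1) := by
  rcases hn with rfl | rfl | rfl | rfl <;> interval_cases m <;> norm_num at h ⊢ <;>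
    first
      | exact h2 (by linear_combination h)
      | exact h2 (by linear_combination -h)
      | exact one_ne_zero (α := F) (by linear_combination h)
      | exact one_ne_zero (α := F) (by linear_combination -h)
      | exact h3 (by linear_combination h)
      | exact h3 (by linear_combination -h)
      | exact mul_ne_zero h2 h2 (by linear_combination h)
      | exact mul_ne_zero h2 h2 (by linear_combination -h)
      | exact mul_ne_zero h2 h3 (by linear_combination h)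
      | exact mul_ne_zero h2 h3 (by linear_combination -h)

/-- An overgroup of the monomial products of two reflections. -/
structure Six (H : ONB Q e c) (X : Subgroup (O Q)) : Prop where
  three : (3 : F) ≠ 0
  pairs : ∀ a b, Q a ≠ 0 → Q b = Q a → rO Q a * rO Q b ∈ H.mono → rO Q a * rO Q b ∈ X
  fix : ∀ g ∈ X, (g : V ≃ₗ[F] V) (e 0) = e 0 → g ∈ H.mono

variable {X : Subgroup (O Q)} (hX : Six H X)
include hX

theorem Six.pair {i j : Fin 6} (hij : i ≠ j) : rO Q (e i) * rO Q (e j) ∈ X :=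
  hX.pairs _ _ (by rw [H.val]; exact H.c0) (by rw [H.val, H.val]) (ONB.IsDiag.mono H (H.isDiag_pair hij))

theorem Six.cyc {x y z : V} (hx : H.Ax x) (hy : H.Ax y) (hz : H.Ax z) (qx : Q x = c) (qy : Q y = c) (qz : Q z = c)
    (hxy : H.dot x y = 0) (hyz : H.dot y z = 0) :
    rO Q (x - y) * rO Q (y - z) ∈ X ⊓ H.mono := by
  have h0 : ∀ {u v : V}, Q u = c → Q v = c → H.dot u v = 0 → Q (u - v) = 2 * c := fun {u v} hu hv huv => by
    rw [qmap_sub, hu, hv, (mul_eq_zero.1 huv).resolve_left (inv_ne_zero H.two_c), sub_zero, two_mul]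
  have hm : rO Q (x - y) * rO Q (y - z) ∈ H.mono :=
    H.mono.mul_mem (H.isMono_sub hx hy qx qy hxy) (H.isMono_sub hy hz qy qz hyz)
  exact ⟨hX.pairs _ _ (by rw [h0 qx qy hxy]; exact H.two_c) (by rw [h0 qx qy hxy, h0 qy qz hyz]) hm, hm⟩

/-- Three-cycles of the lines. -/
theorem Six.cycle {i j k : Fin 6} (hij : i ≠ j) (hik : i ≠ k) (hjk : j ≠ k) :
    ∃ h ∈ X ⊓ H.mono, (h : V ≃ₗ[F] V) (e i) = e j ∧ (h : V ≃ₗ[F] V) (e j) = e k ∧
      (h : V ≃ₗ[F] V) (e k) = e i ∧ ∀ l, l ≠ i → l ≠ j → l ≠ k → (h : V ≃ₗ[F] V) (e l) = e l := by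
  obtain ⟨a, b, d, f⟩ := H.cyc_app (H.val i) (H.val j) (H.val k) (H.co_ne hij) (H.co_ne hik) (H.co_ne hjk)
  exact ⟨_, hX.cyc (H.ax_e i) (H.ax_e j) (H.ax_e k) (H.val i) (H.val j) (H.val k) (H.co_ne hij) (H.co_ne hjk),
    a, b, d, fun l h1 h2 h3 => f _ (H.co_ne h1.symm) (H.co_ne h2.symm) (H.co_ne h3.symm)⟩

/-- Monomial elements of the subgroup are transitive on the lines. -/
theorem Six.move (a j : Fin 6) : ∃ π ∈ X ⊓ H.mono, (π : V ≃ₗ[F] V) (e a) = e j := by
  rcases eq_or_ne a j with rfl | h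
  · exact ⟨1, one_mem _, by simp⟩
  obtain ⟨k, hka, hkj⟩ := exists_ne_two a j
  obtain ⟨π, hπ, hπa, -⟩ := hX.cycle h hka.symm hkj.symm
  exact ⟨π, hπ, hπa⟩

/-- An element mapping one line to a line is monomial. -/
theorem Six.axis {g : O Q} (hg : g ∈ X) {a : Fin 6} (h : H.Ax ((g : V ≃ₗ[F] V) (e a))) : g ∈ H.mono := by
  obtain ⟨j, hj⟩ := ONB.Ax.eq H h (by rw [O.map_app, H.val])
  obtain ⟨π, ⟨hπX, hπm⟩, hπ⟩ := hX.move j 0
  obtain ⟨ρ, ⟨hρX, hρm⟩, hρ⟩ := hX.move 0 a
  set d := rO Q (e (0 : Fin 6)) * rO Q (e 1) with hd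
  have hd1 : H.IsDiag d {0, 1} := H.isDiag_pair (by decide)
  have hval : (π * g * ρ : O Q) ∈ X := X.mul_mem (X.mul_mem hπX hg) hρX
  suffices hm : π * g * ρ ∈ H.mono by
    have h' := H.mono.mul_mem (H.mono.mul_mem (H.mono.inv_mem hπm) hm) (H.mono.inv_mem hρm)
    rwa [show π⁻¹ * (π * g * ρ) * ρ⁻¹ = g by group] at h'
  rcases hj with hj | hj
  · exact hX.fix _ hval (by simp [Subgroup.coe_mul, mul_app, hρ, hj, hπ])
  · have hm := hX.fix _ (X.mul_mem (hX.pair (i := 0) (j := 1) (by decide)) hval) (by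
      have h01 : (d : V ≃ₗ[F] V) (e 0) = -e 0 := by rw [hd1 0, if_pos (by simp)]
      have hv : ((π * g * ρ : O Q) : V ≃ₗ[F] V) (e 0) = -e 0 := by
        simp [Subgroup.coe_mul, mul_app, hρ, hj, hπ]
      rw [Subgroup.coe_mul, mul_app, hv, map_neg, h01, neg_neg])
    have h' := H.mono.mul_mem (H.mono.inv_mem (ONB.IsDiag.mono H hd1)) hm
    rwa [← hd, inv_mul_cancel_left] at h'

/-- The image of two of the other lines, from the rotation of two planes. -/
theorem Six.rot {g : O Q} (hg : g ∈ X) {a b a' b' p q r s : Fin 6} (hab : a ≠ b)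
    (hl : [a', b', p, q, r, s].Nodup) (ha : (g : V ≃ₗ[F] V) (e a) ∈ H.sub {a', b'})
    (hb : (g : V ≃ₗ[F] V) (e b) ∈ H.sub {a', b'}) :
    ∃ k l, k ≠ l ∧ (g : V ≃ₗ[F] V) (e k) ∈ H.sub {r, s} ∧ (g : V ≃ₗ[F] V) (e l) ∈ H.sub {r, s} := by
  classical
  simp only [List.nodup_cons, List.mem_cons, List.not_mem_nil, or_false, not_or, List.nodup_nil, not_false_iff,
    and_true] at hl
  obtain ⟨⟨hab', hap, haq, har, has⟩, ⟨hbp, hbq, hbr, hbs⟩, ⟨hpq, hpr, hps⟩, ⟨hqr, hqs⟩, hrs⟩ := hl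
  have d2 : ∀ {i j : Fin 6}, i ≠ j → Q (e i - (1 : F) • e j) = 2 * c := fun h => H.qmap_swp h (one_mul 1)
  set sw := rO Q (e a' - (1 : F) • e b') * rO Q (e p - (1 : F) • e q) with hsw
  set n := sw * (rO Q (e a') * rO Q (e p)) with hn
  have hswm : sw ∈ H.mono := H.mono.mul_mem (H.isMono_swp hab' (one_mul 1)) (H.isMono_swp hpq (one_mul 1))
  have hnX : n ∈ X := X.mul_mem (hX.pairs _ _ (by rw [d2 hab']; exact H.two_c) (by rw [d2 hab', d2 hpq]) hswm)
    (hX.pair hap)
  have hd := H.isDiag_pair hap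
  have sfix : ∀ {i j k : Fin 6}, k ≠ i → k ≠ j → (rO Q (e i - (1 : F) • e j) : V ≃ₗ[F] V) (e k) = e k :=
    fun h1 h2 => H.supp_swp _ (by simp [h1, h2])
  have na : (n : V ≃ₗ[F] V) (e a') = -e b' := by
    rw [hn, Subgroup.coe_mul, mul_app, hd a', if_pos (by simp), map_neg, hsw, Subgroup.coe_mul, mul_app,
      sfix hap haq, H.rO_swp_left hab' (one_mul 1), one_smul]
  have nb : (n : V ≃ₗ[F] V) (e b') = e a' := by
    rw [hn, Subgroup.coe_mul, mul_app, hd b', if_neg (by simp [(Ne.symm hab'), hbp]), hsw, Subgroup.coe_mul, mul_app,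
      sfix hbp hbq, H.rO_swp_right hab' (one_mul 1), one_smul]
  have np : (n : V ≃ₗ[F] V) (e p) = -e q := by
    rw [hn, Subgroup.coe_mul, mul_app, hd p, if_pos (by simp), map_neg, hsw, Subgroup.coe_mul, mul_app,
      H.rO_swp_left hpq (one_mul 1), map_smul, sfix (Ne.symm haq) (Ne.symm hbq), one_smul]
  have nq : (n : V ≃ₗ[F] V) (e q) = e p := by
    rw [hn, Subgroup.coe_mul, mul_app, hd q, if_neg (by simp [Ne.symm haq, (Ne.symm hpq)]), hsw, Subgroup.coe_mul,
      mul_app, H.rO_swp_right hpq (one_mul 1), map_smul, sfix (Ne.symm hap) (Ne.symm hbp), one_smul]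
  have nr : (n : V ≃ₗ[F] V) (e r) = e r := by
    rw [hn, Subgroup.coe_mul, mul_app, hd r, if_neg (by simp [Ne.symm har, Ne.symm hpr]), hsw, Subgroup.coe_mul,
      mul_app, sfix (Ne.symm hpr) (Ne.symm hqr), sfix (Ne.symm har) (Ne.symm hbr)]
  have ns : (n : V ≃ₗ[F] V) (e s) = e s := by
    rw [hn, Subgroup.coe_mul, mul_app, hd s, if_neg (by simp [Ne.symm has, Ne.symm hps]), hsw, Subgroup.coe_mul,
      mul_app, sfix (Ne.symm hps) (Ne.symm hqs), sfix (Ne.symm has) (Ne.symm hbs)]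
  have hmv : ∀ (x : V) (i : Fin 6), H.co i x = H.dot ((n : V ≃ₗ[F] V) (e i)) ((n : V ≃ₗ[F] V) x) :=
    fun x i => (H.dot_app n (e i) x).symm
  -- coordinates of an image under `n`
  have ca : ∀ x, H.co a' ((n : V ≃ₗ[F] V) x) = H.co b' x := fun x => by rw [hmv x b', nb]; rfl
  have cb : ∀ x, H.co b' ((n : V ≃ₗ[F] V) x) = -H.co a' x := fun x => by
    rw [hmv x a', na, H.dot_neg_left, neg_neg]; rfl
  have cp : ∀ x, H.co p ((n : V ≃ₗ[F] V) x) = H.co q x := fun x => by rw [hmv x q, nq]; rfl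
  have cq : ∀ x, H.co q ((n : V ≃ₗ[F] V) x) = -H.co p x := fun x => by
    rw [hmv x p, np, H.dot_neg_left, neg_neg]; rfl
  have cr : ∀ x, H.co r ((n : V ≃ₗ[F] V) x) = H.co r x := fun x => by rw [hmv x r, nr]; rfl
  have cs : ∀ x, H.co s ((n : V ≃ₗ[F] V) x) = H.co s x := fun x => by rw [hmv x s, ns]; rfl
  -- the six lines
  have hall : ∀ i, i = a' ∨ i = b' ∨ i = p ∨ i = q ∨ i = r ∨ i = s := by
    have hcard : ({a', b', p, q, r, s} : Finset (Fin 6)).card = 6 := by
      simp [Finset.card_insert_of_notMem, hab', hap, haq, har, has, hbp, hbq, hbr, hbs, hpq, hpr, hps, hqr, hqs, hrs]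
    intro i
    have hi : i ∈ ({a', b', p, q, r, s} : Finset (Fin 6)) := by
      exact Finset.eq_univ_iff_forall.1 (Finset.eq_univ_of_card _ (by rw [hcard]; rfl)) i
    simpa using hi
  set u := (g : V ≃ₗ[F] V) (e a) with hu
  set w := (g : V ≃ₗ[F] V) (e b) with hw
  have huw : H.co a' u * H.co a' w + H.co b' u * H.co b' w = 0 := by
    have h := H.dot_app g (e a) (e b)
    rw [← hu, ← hw, show H.dot (e a) (e b) = 0 from H.co_ne hab, H.dot_mem_sub ha, Finset.sum_pair hab'] at h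
    exact h
  have hww : H.co a' w * H.co a' w + H.co b' w * H.co b' w = 1 := by
    have h := H.dot_app g (e b) (e b)
    rw [← hw, H.dot_self_unit (H.val b), H.dot_mem_sub hb, Finset.sum_pair hab'] at h
    exact h
  set m := H.co a' u * H.co b' w - H.co b' u * H.co a' w with hm
  -- `n` rotates the first plane
  have hnu : (n : V ≃ₗ[F] V) u = (-m) • w := by
    refine H.ext_co fun i => ?_
    have ou : ∀ {i}, i ≠ a' → i ≠ b' → H.co i u = 0 := fun h1 h2 => ha _ (by simp [h1, h2])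
    have ow : ∀ {i}, i ≠ a' → i ≠ b' → H.co i w = 0 := fun h1 h2 => hb _ (by simp [h1, h2])
    rw [H.co_smul]
    rcases hall i with rfl | rfl | rfl | rfl | rfl | rfl
    · rw [ca, hm]; linear_combination (-H.co b' u) * hww + H.co b' w * huw
    · rw [cb, hm]; linear_combination H.co a' u * hww - H.co a' w * huw
    · rw [cp, ou (Ne.symm haq) (Ne.symm hbq), ow (Ne.symm hap) (Ne.symm hbp)]; ring
    · rw [cq, ou (Ne.symm hap) (Ne.symm hbp), ow (Ne.symm haq) (Ne.symm hbq)]; ring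
    · rw [cr, ou (Ne.symm har) (Ne.symm hbr), ow (Ne.symm har) (Ne.symm hbr)]; ring
    · rw [cs, ou (Ne.symm has) (Ne.symm hbs), ow (Ne.symm has) (Ne.symm hbs)]; ring
  have hwa : (n : V ≃ₗ[F] V) w = m • u := by
    refine H.ext_co fun i => ?_
    have ou : ∀ {i}, i ≠ a' → i ≠ b' → H.co i u = 0 := fun h1 h2 => ha _ (by simp [h1, h2])
    have ow : ∀ {i}, i ≠ a' → i ≠ b' → H.co i w = 0 := fun h1 h2 => hb _ (by simp [h1, h2])
    have huu : H.co a' u * H.co a' u + H.co b' u * H.co b' u = 1 := by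
      have h := H.dot_app g (e a) (e a)
      rw [← hu, H.dot_self_unit (H.val a), H.dot_mem_sub ha, Finset.sum_pair hab'] at h
      exact h
    rw [H.co_smul]
    rcases hall i with rfl | rfl | rfl | rfl | rfl | rfl
    · rw [ca, hm]; linear_combination (-H.co b' w) * huu + H.co b' u * huw
    · rw [cb, hm]; linear_combination H.co a' w * huu - H.co a' u * huw
    · rw [cp, ou (Ne.symm hap) (Ne.symm hbp), ow (Ne.symm haq) (Ne.symm hbq)]; ring
    · rw [cq, ou (Ne.symm haq) (Ne.symm hbq), ow (Ne.symm hap) (Ne.symm hbp)]; ring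
    · rw [cr, ou (Ne.symm har) (Ne.symm hbr), ow (Ne.symm har) (Ne.symm hbr)]; ring
    · rw [cs, ou (Ne.symm has) (Ne.symm hbs), ow (Ne.symm has) (Ne.symm hbs)]; ring
  set n' := g⁻¹ * n * g with hn'
  have hn'X : n' ∈ X := X.mul_mem (X.mul_mem (X.inv_mem hg) hnX) hg
  have hback : ∀ x, ((g⁻¹ : O Q) : V ≃ₗ[F] V) ((g : V ≃ₗ[F] V) x) = x := fun x => by
    rw [← mul_app, ← Subgroup.coe_mul, inv_mul_cancel]; rfl
  have n'a : (n' : V ≃ₗ[F] V) (e a) = (-m) • e b := by
    rw [hn', Subgroup.coe_mul, Subgroup.coe_mul, mul_app, mul_app, ← hu, hnu, map_smul, hw, hback]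
  have n'b : (n' : V ≃ₗ[F] V) (e b) = m • e a := by
    rw [hn', Subgroup.coe_mul, Subgroup.coe_mul, mul_app, mul_app, ← hw, hwa, map_smul, hu, hback]
  have hn'm : n' ∈ H.mono := hX.axis hn'X (a := a) (by rw [n'a]; exact (H.ax_e b).smul H _)
  obtain ⟨π, hπ⟩ := exists_per H hn'm
  have hπa : π a = b := by_contra fun h => by
    have h0 : H.co (π a) ((n' : V ≃ₗ[F] V) (e a)) = 0 := by rw [n'a, H.co_smul, H.co_ne h, mul_zero]
    rcases hπ.co_sq a with h1 | h1 <;> simp [h0] at h1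
  have hπb : π b = a := by_contra fun h => by
    have h0 : H.co (π b) ((n' : V ≃ₗ[F] V) (e b)) = 0 := by rw [n'b, H.co_smul, H.co_ne h, mul_zero]
    rcases hπ.co_sq b with h1 | h1 <;> simp [h0] at h1
  obtain ⟨N, hN, -, hpos, htr⟩ := hπ.trc_eq
  have htn : trc H n = 2 := by
    have hterm : ∀ i, H.co i ((n : V ≃ₗ[F] V) (e i)) = if i ∈ ({r, s} : Finset (Fin 6)) then 1 else 0 := fun i => by
      rcases hall i with rfl | rfl | rfl | rfl | rfl | rfl
      · rw [na, H.co_neg, H.co_ne hab', neg_zero, if_neg (by simp [har, has])]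
      · rw [nb, H.co_ne (Ne.symm hab'), if_neg (by simp [hbr, hbs])]
      · rw [np, H.co_neg, H.co_ne hpq, neg_zero, if_neg (by simp [hpr, hps])]
      · rw [nq, H.co_ne (Ne.symm hpq), if_neg (by simp [hqr, hqs])]
      · rw [nr, H.co_self, if_pos (by simp)]
      · rw [ns, H.co_self, if_pos (by simp)]
    rw [trc, Finset.sum_congr rfl fun i _ => hterm i, ← Finset.sum_filter]
    rw [Finset.filter_mem_eq_inter, Finset.univ_inter, Finset.sum_const, Finset.card_pair hrs]
    norm_num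
  have htr' : trc H n' = 2 := by rw [hn', trc_comm, ← mul_assoc, mul_inv_cancel, one_mul, htn]
  have hcard : 2 ≤ (fx π \ N).card := by
    rw [Finset.card_sdiff_of_subset hN]
    rw [htr'] at htr
    rcases sign_count H.two hX.three (Finset.card_le_card hN)
      (count_fixed π a (by rw [hπa]; exact hab.symm) (by rw [hπa, hπb])) htr.symm with ⟨h1, h2⟩ | ⟨h1, h2⟩ <;>
      omega
  obtain ⟨k, hk, l, hl', hkl⟩ := Finset.one_lt_card.1 hcard
  refine ⟨k, l, hkl, ?_⟩
  have key : ∀ {j}, j ∈ fx π \ N → (g : V ≃ₗ[F] V) (e j) ∈ H.sub {r, s} := by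
    intro j hj
    obtain ⟨hj, hjN⟩ := Finset.mem_sdiff.1 hj
    have hfix := congrArg (g : V ≃ₗ[F] V) (hpos j hj hjN)
    rw [hn', ← mul_app, ← Subgroup.coe_mul, show g * (g⁻¹ * n * g) = n * g by group, Subgroup.coe_mul, mul_app]
      at hfix
    set x := (g : V ≃ₗ[F] V) (e j)
    intro i hi
    simp only [Finset.mem_insert, Finset.mem_singleton, not_or] at hi
    have two0 : ∀ {y : F}, 2 * y = 0 → y = 0 := fun h => (mul_eq_zero.1 h).resolve_left H.two
    rcases hall i with rfl | rfl | rfl | rfl | rfl | rfl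
    · refine two0 ?_
      have h1 := ca x; have h2 := cb x
      rw [hfix] at h1 h2
      linear_combination h1 + h2
    · refine two0 ?_
      have h1 := ca x; have h2 := cb x
      rw [hfix] at h1 h2
      linear_combination h2 - h1
    · refine two0 ?_
      have h1 := cp x; have h2 := cq x
      rw [hfix] at h1 h2
      linear_combination h1 + h2
    · refine two0 ?_
      have h1 := cp x; have h2 := cq x
      rw [hfix] at h1 h2
      linear_combination h2 - h1
    · exact absurd rfl hi.1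
    · exact absurd rfl hi.2
  exact ⟨key hk, key hl'⟩

/-- An element mapping the plane of two lines onto another such plane is monomial. -/
theorem Six.plane {g : O Q} (hg : g ∈ X) {a b a' b' : Fin 6} (hab : a ≠ b) (hab' : a' ≠ b')
    (ha : (g : V ≃ₗ[F] V) (e a) ∈ H.sub {a', b'}) (hb : (g : V ≃ₗ[F] V) (e b) ∈ H.sub {a', b'}) :
    g ∈ H.mono := by
  obtain ⟨p, q, r, s, hl⟩ := exists_four hab'
  have hl2 : [a', b', p, s, r, q].Nodup := by
    simp only [List.nodup_cons, List.mem_cons, List.not_mem_nil, or_false, not_or, List.nodup_nil, not_false_iff,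
      and_true] at hl ⊢
    tauto
  obtain ⟨k, l, hkl, hk, hlm⟩ := hX.rot hg hab hl ha hb
  obtain ⟨k', -, -, hk', -⟩ := hX.rot hg hab hl2 ha hb
  simp only [List.nodup_cons, List.mem_cons, List.not_mem_nil, or_false, not_or, List.nodup_nil, not_false_iff,
    and_true] at hl
  obtain ⟨-, -, -, ⟨hqr, hqs⟩, hrs⟩ := hl
  have hax : ∀ {x : V} {j o : Fin 6}, x ∈ H.sub {j, o} → H.co o x = 0 → H.Ax x := fun {x j o} hx h0 =>
    H.ax_of_co (j := j) fun i hij => by
      rcases eq_or_ne i o with rfl | hio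
      · exact h0
      · exact hx i (by simp [hij, hio])
  have hs' : H.co s ((g : V ≃ₗ[F] V) (e k')) = 0 := hk' s (by simp [(Ne.symm hrs), Ne.symm hqs])
  by_cases hek : k' = k
  · subst hek
    exact hX.axis hg (a := k') (hax hk hs')
  by_cases hel : k' = l
  · subst hel
    exact hX.axis hg (a := k') (hax hlm hs')
  have hd : ∀ {j}, j ≠ k' → (g : V ≃ₗ[F] V) (e j) ∈ H.sub {r, s} →
      H.co r ((g : V ≃ₗ[F] V) (e j)) * H.co r ((g : V ≃ₗ[F] V) (e k')) = 0 := fun {j} hj hx => by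
    have h := H.dot_app g (e j) (e k')
    rw [show H.dot (e j) (e k') = 0 from H.co_ne hj, H.dot_mem_sub hx, Finset.sum_pair hrs, hs', mul_zero,
      add_zero] at h
    exact h
  rcases mul_eq_zero.1 (hd (Ne.symm hek) hk) with h | h
  · exact hX.axis hg (a := k) (hax (j := s) (by rw [Finset.pair_comm]; exact hk) h)
  · exact hX.axis hg (a := k') (hax (j := q) (by rw [Finset.pair_comm]; exact hk') h)

/-- An element commuting with the sign change of a pair or of four lines is monomial. -/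
theorem Six.of_comm_diag {g d : O Q} (hg : g ∈ X) {B : Finset (Fin 6)} (hd : H.IsDiag d B)
    (hB : B.card = 2 ∨ B.card = 4) (h : g * d = d * g) : g ∈ H.mono := by
  have hm := fun b => H.diag_maps (b := b) hd hd (show g * d * g⁻¹ = d by rw [h, mul_inv_cancel_right])
  rcases hB with h2 | h4
  · obtain ⟨a, b, hab, rfl⟩ := Finset.card_eq_two.1 h2
    exact hX.plane hg hab hab ((hm a).1 (by simp)) ((hm b).1 (by simp))
  · obtain ⟨a, b, hab, e2⟩ := Finset.card_eq_two.1 (show (Finset.univ \ B).card = 2 by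
      rw [Finset.card_sdiff_of_subset (Finset.subset_univ _), h4]; rfl)
    have hout : ∀ x ∈ ({a, b} : Finset (Fin 6)), (g : V ≃ₗ[F] V) (e x) ∈ H.sub {a, b} := fun x hx i hi => by
      rw [← e2] at hx hi
      exact (hm x).2 (Finset.mem_sdiff.1 hx).2 i (by simpa using hi)
    exact hX.plane hg hab hab (hout a (by simp)) (hout b (by simp))

end Cfsg.Agent.H69.SLFour.SixFrame
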